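import Cfsg.Agent.H96.CentralizeNormal
import Cfsg.Agent.H93.NormalRadical
import Cfsg.Agent.H93.Local

/-!
Coprime lifts to `R ⊔ C_S(R)` are essentially unique: they centralize the focal subgroup of `C_F(R)`.

For `R` fully normalized and an automorphism of prime power order prime to `p` of `R ⊔ C_S(R)` trivial modulo `R`,
every automorphism of an intermediate subgroup, trivial modulo `R`, with the same restriction to `R` has the
same `p ^ n`-th power.
-/
set_option autoImplicit false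

namespace Cfsg.Agent.H96

open Cfsg Cfsg.FusionSystem

variable {Ω : Type*} [Group Ω] {S T : Subgroup Ω} {F : FusionSystem S} {p : ℕ}

/-- An automorphism trivial modulo `R` leaves every subgroup above `R` invariant. -/
theorem modTrivial_invariant {W X R : Subgroup Ω} {b : MulAut W} (hb : ModTrivial R b) (hRX : R ≤ X) (hX : X ≤ W)
    (x : X) : ((b (Subgroup.inclusion hX x) : W) : Ω) ∈ X := by
  have h := X.mul_mem x.2 (hRX (hb (Subgroup.inclusion hX x)))
  rwa [Subgroup.coe_inclusion, mul_inv_cancel_left] at h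

/-- Restriction of an automorphism to an invariant subgroup. -/
theorem exists_restrict [Finite S] {W X : Subgroup Ω} (hW : W ≤ S) (hX : X ≤ W) {b : MulAut W}
    (hb : b ∈ F.autGroup W) (hinv : ∀ x : X, ((b (Subgroup.inclusion hX x) : W) : Ω) ∈ X) :
    ∃ c ∈ F.autGroup X, ∀ x : X, b (Subgroup.inclusion hX x) = Subgroup.inclusion hX (c x) := by
  obtain ⟨c, hc, hce⟩ := exists_autGroup_of_mem F (res_mem F ((mem_autGroup F hW).1 hb) hX) hinv
  exact ⟨c, hc, fun x => Subtype.ext (hce x).symm⟩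

/-- Powers of intertwined automorphisms are intertwined. -/
theorem pow_intertwine {A B : Type*} [Group A] [Group B] (f : A → B) {a : MulAut A} {b : MulAut B}
    (h : ∀ x, b (f x) = f (a x)) (m : ℕ) (x : A) : (b ^ m) (f x) = f ((a ^ m) x) := by
  induction m with
  | zero => rfl
  | succ m ih => rw [pow_succ', pow_succ', MulAut.mul_apply, MulAut.mul_apply, ih, h]

/-- An element of `q`-power order is a power of its `p ^ n`-th power. -/
theorem exists_pow_pow_eq {G : Type*} [Group G] {q : ℕ} [Fact p.Prime] [Fact q.Prime] (hqp : q ≠ p) {b : G}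
    {e : ℕ} (hb : b ^ q ^ e = 1) (n : ℕ) : ∃ s : ℕ, (b ^ p ^ n) ^ s = b := by
  refine exists_pow_eq_self_of_coprime (Nat.Coprime.coprime_dvd_right (orderOf_dvd_of_pow_eq_one hb) ?_)
  exact Nat.Coprime.pow _ _ ((Nat.coprime_primes Fact.out Fact.out).2 hqp.symm)

/-- Fixed points pass from the `p ^ n`-th power to an automorphism of `q`-power order. -/
theorem fixed_of_pow_fixed {A : Type*} [Group A] {q : ℕ} [Fact p.Prime] [Fact q.Prime] (hqp : q ≠ p)
    {b : MulAut A} {e : ℕ} (hb : b ^ q ^ e = 1) {n : ℕ} {x : A} (hx : (b ^ p ^ n) x = x) : b x = x := by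
  obtain ⟨s, hs⟩ := exists_pow_pow_eq (p := p) hqp hb n
  have := pow_intertwine (fun u : Unit => x) (a := 1) (b := b ^ p ^ n) (fun _ => hx) s ()
  rwa [hs] at this

/-- The part of `q`-power order, fixing what has `q`-power order. -/
theorem exists_qPart_exponent {G : Type*} [Group G] [Finite G] {q : ℕ} [Fact q.Prime] (b : G) :
    ∃ u : ℕ, ¬ q ∣ u ∧ ∃ e : ℕ, b ^ (q ^ e * u) = 1 := by
  obtain ⟨e, u, hu, he⟩ := Nat.exists_eq_pow_mul_and_not_dvd (orderOf_pos b).ne' q (Fact.out : q.Prime).ne_one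
  exact ⟨u, hu, e, he ▸ pow_orderOf_eq_one b⟩

/-- A lift can be replaced by one of `q`-power order if the element lifted has `q`-power order. -/
theorem exists_qLift {A B : Type*} [Group A] [Group B] [Finite (MulAut B)] {q : ℕ} [Fact q.Prime] (f : A → B)
    {a : MulAut A} {b : MulAut B} (h : ∀ x, b (f x) = f (a x)) (ha : ∃ e : ℕ, a ^ q ^ e = 1) :
    ∃ s : ℕ, (∃ e : ℕ, (b ^ s) ^ q ^ e = 1) ∧ ∀ x, (b ^ s) (f x) = f (a x) := by
  obtain ⟨u, hu, e, he⟩ := exists_qPart_exponent (q := q) b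
  obtain ⟨e', he'⟩ := ha
  obtain ⟨k, hk⟩ : ∃ k : ℕ, (a ^ u) ^ k = a := exists_pow_eq_self_of_coprime
    (Nat.Coprime.coprime_dvd_right (orderOf_dvd_of_pow_eq_one he')
      (Nat.Coprime.pow_right _ (((Fact.out : q.Prime).coprime_iff_not_dvd.2 hu).symm)))
  refine ⟨u * k, ⟨e, ?_⟩, fun x => ?_⟩
  · rw [← pow_mul, show u * k * q ^ e = q ^ e * u * k by ring, pow_mul, he, one_pow]
  · rw [pow_intertwine f h, pow_mul, hk]

/-- The data of a map sending `R` to a fully normalized conjugate on the normalizer. -/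
structure Target (F : FusionSystem S) (R R₁ : Subgroup Ω) (χ : normalizerIn S R →* Ω) : Prop where
  le : R ≤ S
  hom : χ ∈ F.Hom (normalizerIn S R)
  val : ∀ g, χ g ∈ normalizerIn S R₁
  img : ∀ x : normalizerIn S R, (x : Ω) ∈ R → χ x ∈ R₁
  sur : ∀ y ∈ R₁, ∃ x : normalizerIn S R, (x : Ω) ∈ R ∧ χ x = y
  full : F.IsFullyNormalized R₁

theorem exists_target [Finite S] [Fact p.Prime] (hS : IsPGroup p S) (hF : F.IsSaturated p) {R : Subgroup Ω}
    (hR : R ≤ S) : ∃ R₁ χ, Target F R R₁ χ := by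
  obtain ⟨R₁, hRR₁, hR₁⟩ := H94.exists_fullyNormalized (F := F) hR
  obtain ⟨χ, hχ, hχv, hχR⟩ := H93.exists_map_to_fullyNormalized hS hF hR₁ hRR₁
  refine ⟨R₁, χ, hR, hχ, hχv, fun x hx => hχR ▸ H93.mem_imgIn.2 ⟨x, hx, rfl⟩, fun y hy => ?_, hR₁⟩
  exact H93.mem_imgIn.1 (hχR.symm ▸ hy)

/-- A strongly closed subgroup is its own target. -/
theorem target_self [Finite S] (hT : F.StronglyClosed T) :
    Target F T T (normalizerIn S T).subtype := by
  refine ⟨hT.1, subtype_mem F inf_le_left, fun g => g.2, fun x hx => hx,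
    fun y hy => ⟨⟨y, le_inf hT.1 Subgroup.le_normalizer hy⟩, hy, rfl⟩, hT.1, ?_⟩
  rintro Q ⟨φ, hφ, rfl⟩
  rw [range_eq_of_forall_mem F hφ (hT.2 T le_rfl φ hφ)]

variable {R R₁ : Subgroup Ω} {χ : normalizerIn S R →* Ω}

theorem Target.le_normalizerIn (t : Target F R R₁ χ) : R ≤ normalizerIn S R :=
  le_inf t.le Subgroup.le_normalizer

theorem Target.mem_normalizerIn_of_centralizer {P : Subgroup Ω} (hP : P ≤ centralizerIn S R) :
    P ≤ normalizerIn S R :=
  hP.trans (inf_le_inf_left S (Subgroup.centralizer_le_normalizer _))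

theorem Target.map_centralizer (t : Target F R R₁ χ) {x : normalizerIn S R}
    (hx : (x : Ω) ∈ centralizerIn S R) : χ x ∈ centralizerIn S R₁ := by
  refine ⟨(t.val x).1, fun r hr => ?_⟩
  obtain ⟨y, hy, rfl⟩ := t.sur r hr
  rw [← map_mul, ← map_mul]
  exact congrArg χ (Subtype.ext (hx.2 y hy))

theorem Target.le_sup (t : Target F R R₁ χ) : R₁ ⊔ centralizerIn S R₁ ≤ S := sup_le t.full.1 inf_le_left

/-- `R` inside `R₁ ⊔ C_S(R₁)`. -/
def Target.emb (t : Target F R R₁ χ) : R →* ↥(R₁ ⊔ centralizerIn S R₁) :=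
  (χ.comp (Subgroup.inclusion t.le_normalizerIn)).codRestrict _
    fun x => Subgroup.mem_sup_left (t.img _ x.2)

theorem Target.emb_mem (t : Target F R R₁ χ) (x : R) : ((t.emb x : ↥(R₁ ⊔ centralizerIn S R₁)) : Ω) ∈ R₁ :=
  t.img _ x.2

theorem Target.exists_emb (t : Target F R R₁ χ) {w : ↥(R₁ ⊔ centralizerIn S R₁)} (hw : (w : Ω) ∈ R₁) :
    ∃ x : R, t.emb x = w := by
  obtain ⟨x, hx, e⟩ := t.sur w hw
  exact ⟨⟨x, hx⟩, Subtype.ext e⟩

/-- The automorphisms of `R` with a lift to `R₁ ⊔ C_S(R₁)` trivial modulo `R₁`. -/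
def Target.liftGroup (t : Target F R R₁ χ) : Subgroup (MulAut R) where
  carrier := {a | ∃ b ∈ F.autGroup (R₁ ⊔ centralizerIn S R₁), ModTrivial R₁ b ∧ ∀ x, b (t.emb x) = t.emb (a x)}
  one_mem' := ⟨1, one_mem _, modTrivial_one, fun _ => rfl⟩
  mul_mem' := by
    rintro a c ⟨b, hb, hbm, hbu⟩ ⟨d, hd, hdm, hdu⟩
    exact ⟨b * d, mul_mem hb hd, modTrivial_mul hbm hdm, fun x => by
      rw [MulAut.mul_apply, hdu, hbu, MulAut.mul_apply]⟩
  inv_mem' := by
    rintro a ⟨b, hb, hbm, hbu⟩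
    refine ⟨b⁻¹, inv_mem hb, modTrivial_inv hbm, fun x => b.injective ?_⟩
    rw [MulAut.apply_inv_self, hbu, MulAut.apply_inv_self]

variable [Finite S]

/-- The lift group is normalized by the automizer. -/
theorem Target.liftGroup_conj [Fact p.Prime] (t : Target F R R₁ χ) (hS : IsPGroup p S) (hF : F.IsSaturated p)
    {a : MulAut R} (ha : a ∈ F.autGroup R) {l : MulAut R} (hl : l ∈ t.liftGroup) :
    a * l * a⁻¹ ∈ t.liftGroup := by
  have hRS := t.le
  have hRN := t.le_normalizerIn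
  set C₁ := centralizerIn S R₁
  obtain ⟨b, hb, hbm, hbu⟩ := hl
  have hR₁ := t.full
  have := finite_of_le hR₁.1
  have := finite_of_le hRS
  have hρ : (χ.comp (Subgroup.inclusion hRN)).range = R₁ := by
    ext y
    constructor
    · rintro ⟨x, rfl⟩; exact t.img _ x.2
    · intro hy
      obtain ⟨x, hx, rfl⟩ := t.sur y hy
      exact ⟨⟨x, hx⟩, rfl⟩
  have hρm : χ.comp (Subgroup.inclusion hRN) ∈ F.Hom R := res_mem F t.hom hRN
  set e := H94.homEquiv _ (F.injective_of_mem hρm) hρ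
  have he : ∀ x, ((e x : R₁) : Ω) = t.emb x := fun x => rfl
  set a₁ := MulAut.congr e a
  have ha₁ : a₁ ∈ F.autGroup R₁ := H94.congr_mem_autGroup hρm hρ ha
  have hd := (mem_autGroup F hR₁.1).1 ha₁
  have hdr : (R₁.subtype.comp a₁.toMonoidHom).range = R₁ :=
    range_eq_of_forall_mem F hd fun y => (a₁ y).2
  obtain ⟨ψ, hψ, hψe⟩ := (H93.IsFullyNormalized.isReceptive hS hF hR₁).2 R₁ _ hd hdr
  have hext : R₁ ⊔ C₁ ≤ extender S R₁ (R₁.subtype.comp a₁.toMonoidHom) :=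
    sup_le (H94.le_extender_aut hR₁.1 a₁) (H93.centralizerIn_le_extender S R₁ _)
  have hem : ∀ w : ↥(R₁ ⊔ C₁), res ψ hext w ∈ R₁ ⊔ C₁ := by
    have hle : R₁ ⊔ C₁ ≤ ((R₁ ⊔ C₁).comap (res ψ hext)).map (R₁ ⊔ C₁).subtype := by
      refine sup_le (fun g hg => ⟨⟨g, le_sup_left (b := C₁) hg⟩, ?_, rfl⟩)
        (fun g hg => ⟨⟨g, le_sup_right (a := R₁) hg⟩, Subgroup.mem_sup_right ⟨(F.le_of_mem hψ).2 _, ?_⟩, rfl⟩)
      · show res ψ hext _ ∈ R₁ ⊔ C₁
        rw [res_apply]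
        exact (hψe g hg (hext (le_sup_left (b := C₁) hg))).symm ▸ Subgroup.mem_sup_left (a₁ _).2
      · intro r hr
        obtain ⟨x, hx⟩ := hdr.ge hr
        have h1 : ψ ⟨x, hext (le_sup_left (b := C₁) x.2)⟩ = r := (hψe x x.2 _).trans hx
        rw [res_apply, ← h1, ← map_mul, ← map_mul]
        exact congrArg ψ (Subtype.ext (hg.2 x x.2))
    intro w
    obtain ⟨w', hw', ew⟩ := hle w.2
    rw [show w = w' from Subtype.ext ew.symm]
    exact hw'
  obtain ⟨A, hA, hAe⟩ := exists_autGroup_of_mem F (res_mem F hψ hext) hem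
  have hAu : ∀ x, A (t.emb x) = t.emb (a x) := fun x => Subtype.ext (by
    rw [hAe, res_apply]
    refine (hψe _ (t.emb_mem x) _).trans ?_
    show ((a₁ (e x) : R₁) : Ω) = _
    rw [show a₁ (e x) = e (a x) from congrArg (fun w => e (a w)) (e.symm_apply_apply x), he])
  refine ⟨A * b * A⁻¹, mul_mem (mul_mem hA hb) (inv_mem hA), fun w => ?_, fun x => ?_⟩
  · obtain ⟨x, hx⟩ := t.exists_emb (w := (A⁻¹ w)⁻¹ * b (A⁻¹ w)) (hbm (A⁻¹ w))
    have h2 : w⁻¹ * (A * b * A⁻¹) w = t.emb (a x) := by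
      rw [← hAu, hx, map_mul, map_inv, MulAut.apply_inv_self]
      rfl
    have h3 := congrArg Subtype.val h2
    rw [Subgroup.coe_mul, Subgroup.coe_inv] at h3
    rw [h3]
    exact t.emb_mem _
  · have h1 : A⁻¹ (t.emb x) = t.emb (a⁻¹ x) := A.injective (by
      rw [MulAut.apply_inv_self, hAu, MulAut.apply_inv_self])
    rw [MulAut.mul_apply, MulAut.mul_apply, h1, hbu, hAu]
    rfl

/-- Conjugations by elements of a strongly closed subgroup are lifted. -/
theorem Target.autInducedBy_le_liftGroup (t : Target F R R₁ χ) (hT : F.StronglyClosed T)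
    (hc₁ : centralizerIn T R₁ ≤ R₁) : autInducedBy T R ≤ t.liftGroup := by
  intro a ha
  obtain ⟨s, hs, hse⟩ := mem_autInducedBy.1 ha
  have hTS := hT.1
  have := finite_of_le t.le
  have hsN : s ∈ normalizerIn S R := ⟨hTS hs, H94.mem_normalizer_of_forall_conj_mem fun y hy =>
    hse ⟨y, hy⟩ ▸ (a ⟨y, hy⟩).2⟩
  set s₁ := χ ⟨s, hsN⟩
  have hs₁T : s₁ ∈ T := hT.2 (normalizerIn S R ⊓ T) inf_le_right _ (res_mem F t.hom inf_le_left) ⟨s, hsN, hs⟩
  have hs₁N : s₁ ∈ normalizerIn S R₁ := t.val _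
  have hmv : ∀ w : ↥(R₁ ⊔ centralizerIn S R₁), conjHom (R₁ ⊔ centralizerIn S R₁) s₁ w ∈ R₁ ⊔ centralizerIn S R₁ := by
    have hn : R₁ ⊔ centralizerIn S R₁ ≤ (R₁ ⊔ centralizerIn S R₁).comap (MulAut.conj s₁).toMonoidHom := by
      refine sup_le (fun g hg => Subgroup.mem_sup_left ((Subgroup.mem_normalizer_iff.1 hs₁N.2 g).1 hg))
        (fun g hg => Subgroup.mem_sup_right (H93.mem_centralizerIn.2
          ⟨S.mul_mem (S.mul_mem hs₁N.1 hg.1) (S.inv_mem hs₁N.1), fun r hr => ?_⟩))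
      have hr' := (Subgroup.mem_normalizer_iff.1 (Subgroup.inv_mem _ hs₁N.2) r).1 hr
      have h1 := (H93.mem_centralizerIn.1 hg).2 _ hr'
      rw [inv_inv] at h1
      show s₁ * g * s₁⁻¹ * r * (s₁ * g * s₁⁻¹)⁻¹ = r
      calc s₁ * g * s₁⁻¹ * r * (s₁ * g * s₁⁻¹)⁻¹ = s₁ * (g * (s₁⁻¹ * r * s₁) * g⁻¹) * s₁⁻¹ := by group
        _ = s₁ * (s₁⁻¹ * r * s₁) * s₁⁻¹ := by rw [h1]
        _ = r := by group
    exact fun w => hn w.2
  obtain ⟨b, hb, hbe⟩ := exists_autGroup_of_mem F (F.conj_mem t.le_sup hs₁N.1) hmv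
  refine ⟨b, hb, modTrivial_of_sup (P := centralizerIn S R₁) inf_le_right (fun x => ?_) (fun x => ?_),
    fun x => Subtype.ext ?_⟩
  · rw [hbe]
    exact (Subgroup.mem_normalizer_iff.1 hs₁N.2 x).1 x.2
  · rw [hbe]
    show (x : Ω)⁻¹ * (s₁ * x * s₁⁻¹) ∈ R₁
    refine hc₁ ⟨?_, fun r hr => ?_⟩
    · have := T.mul_mem ((Subgroup.mem_normalizer_iff.1
        (H93.StronglyClosed.le_normalizer hT (S.inv_mem x.2.1)) s₁).1 hs₁T) (T.inv_mem hs₁T)
      rw [inv_inv] at this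
      simpa [mul_assoc] using this
    · have h1 : r * (x : Ω) = x * r := x.2.2 r hr
      have hr' := (Subgroup.mem_normalizer_iff.1 (Subgroup.inv_mem _ hs₁N.2) r).1 hr
      rw [inv_inv] at hr'
      have h2 : (s₁⁻¹ * r * s₁) * (x : Ω) = x * (s₁⁻¹ * r * s₁) := x.2.2 _ hr'
      calc r * ((x : Ω)⁻¹ * (s₁ * x * s₁⁻¹)) = (x : Ω)⁻¹ * (s₁ * ((s₁⁻¹ * r * s₁) * x) * s₁⁻¹) := by
            rw [← mul_assoc, show r * (x : Ω)⁻¹ = (x : Ω)⁻¹ * r from ((show Commute r (x : Ω) from h1).inv_right).eq]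
            group
        _ = (x : Ω)⁻¹ * (s₁ * (x * (s₁⁻¹ * r * s₁)) * s₁⁻¹) := by rw [h2]
        _ = _ := by group
  · rw [hbe]
    show s₁ * χ (Subgroup.inclusion t.le_normalizerIn x) * s₁⁻¹ = _
    rw [← map_inv, ← map_mul, ← map_mul]
    exact congrArg χ (Subtype.ext (hse x).symm)

/-- Lifts pull back to `R ⊔ P` for `P` centralizing `R`. -/
theorem Target.pullback (t : Target F R R₁ χ) {a : MulAut R} (ha : a ∈ t.liftGroup) {P : Subgroup Ω}
    (hP : P ≤ centralizerIn S R) : ∃ b ∈ F.autGroup (R ⊔ P), ModTrivial R b ∧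
      ∀ x : R, b (Subgroup.inclusion le_sup_left x) = Subgroup.inclusion le_sup_left (a x) := by
  set C₁ := centralizerIn S R₁
  obtain ⟨b, hb, hbm, hbu⟩ := ha
  have hWN : R ⊔ P ≤ normalizerIn S R :=
    sup_le t.le_normalizerIn (Target.mem_normalizerIn_of_centralizer hP)
  have hWS' : R ⊔ P ≤ S := hWN.trans inf_le_left
  have := finite_of_le hWS'
  have hv : ∀ w : ↥(R ⊔ P), res χ hWN w ∈ R₁ ⊔ C₁ := by
    have hle : R ⊔ P ≤ ((R₁ ⊔ C₁).comap (res χ hWN)).map (R ⊔ P).subtype :=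
      sup_le (fun g hg => ⟨⟨g, le_sup_left (b := P) hg⟩, Subgroup.mem_sup_left (t.img _ hg), rfl⟩)
        (fun g hg => ⟨⟨g, le_sup_right (a := R) hg⟩, Subgroup.mem_sup_right (t.map_centralizer (hP hg)), rfl⟩)
    intro w
    obtain ⟨w', hw', ew⟩ := hle w.2
    rw [show w = w' from Subtype.ext ew.symm]
    exact hw'
  obtain ⟨f, hf, hfe⟩ := exists_comp F (res_mem F t.hom hWN) ((mem_autGroup F t.le_sup).1 hb) hv
  obtain ⟨i, hi, hir, hie⟩ := exists_inv F (res_mem F t.hom hWN) rfl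
  have hfin : ∀ w, f w ∈ (res χ hWN).range := fun w => by
    rw [hfe]
    show ((b ⟨res χ hWN w, hv w⟩ : ↥(R₁ ⊔ C₁)) : Ω) ∈ (res χ hWN).range
    obtain ⟨y, hyR, hy⟩ := t.sur _ (hbm ⟨res χ hWN w, hv w⟩)
    have h2 : ((b ⟨res χ hWN w, hv w⟩ : ↥(R₁ ⊔ C₁)) : Ω) = res χ hWN w * χ y := by
      rw [hy, mul_inv_cancel_left]
    rw [h2]
    exact (res χ hWN).range.mul_mem ⟨w, rfl⟩ ⟨⟨y, Subgroup.mem_sup_left hyR⟩, rfl⟩
  obtain ⟨g, hg, hge⟩ := exists_comp F hf hi hfin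
  obtain ⟨c, hc, hce⟩ := exists_autGroup_of_mem F hg fun w => (hge w).symm ▸ hir.le ⟨_, rfl⟩
  have hcval : ∀ w, res χ hWN (c w) = f w := fun w => by
    obtain ⟨v, hv'⟩ := hfin w
    have : c w = v := Subtype.ext (by
      rw [hce, hge]
      exact (congrArg i (Subtype.ext hv'.symm)).trans (hie v ⟨v, rfl⟩))
    rw [this, hv']
  refine ⟨c, hc, fun w => ?_, fun x => F.injective_of_mem (res_mem F t.hom hWN) ?_⟩
  · obtain ⟨y, hyR, hy⟩ := t.sur _ (hbm ⟨res χ hWN w, hv w⟩)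
    have h2 : res χ hWN (c w) = res χ hWN (w * ⟨y, Subgroup.mem_sup_left hyR⟩) := by
      rw [hcval, hfe, map_mul]
      show _ = res χ hWN w * χ y
      rw [hy, mul_inv_cancel_left]
      rfl
    rw [(F.injective_of_mem (res_mem F t.hom hWN)) h2]
    show (w : Ω)⁻¹ * ((w : Ω) * y) ∈ R
    rw [inv_mul_cancel_left]
    exact hyR
  · rw [hcval, hfe]
    exact congrArg Subtype.val (hbu x)


/-- A coprime action fixes an element of every invariant coset of a central `p`-subgroup. -/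
theorem exists_fixed_mem_coset [Fact p.Prime] {W : Subgroup Ω} [Finite W] {q : ℕ} [Fact q.Prime] (hqp : q ≠ p)
    {β : MulAut W} {e : ℕ} (hβ : β ^ q ^ e = 1) (Z : Subgroup W) (hZ : IsPGroup p Z)
    (hβZ : ∀ z ∈ Z, β z ∈ Z) {c : W} (hc : c⁻¹ * β c ∈ Z) : ∃ z ∈ Z, β (c * z) = c * z := by
  let B : Set W := {w | c⁻¹ * w ∈ Z}
  have hinv : ∀ w ∈ B, β w ∈ B := fun w hw => by
    have h := Z.mul_mem hc (hβZ _ hw)
    rw [map_mul, map_inv, mul_assoc, mul_inv_cancel_left] at h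
    exact h
  have hall : ∀ (m : ℕ), ∀ w ∈ B, (β ^ m) w ∈ B := by
    intro m
    induction m with
    | zero => exact fun w hw => hw
    | succ m ih => exact fun w hw => by rw [pow_succ', MulAut.mul_apply]; exact hinv _ (ih w hw)
  let _ : MulAction (Subgroup.zpowers β) B :=
    { smul := fun g w => ⟨(g : MulAut W) w, by
        obtain ⟨m, hm⟩ := (mem_powers_iff_mem_zpowers (x := β)).2 g.2
        rw [← hm]; exact hall m w w.2⟩
      one_smul := fun w => rfl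
      mul_smul := fun g h w => rfl }
  have hΦ : IsPGroup q (Subgroup.zpowers β) := by
    obtain ⟨j, -, hj⟩ := (Nat.dvd_prime_pow Fact.out).1 (orderOf_dvd_of_pow_eq_one hβ)
    exact IsPGroup.of_card (n := j) (by rw [Nat.card_zpowers, hj])
  obtain ⟨k, hk⟩ := hZ.exists_card_eq
  have hnd : ¬ q ∣ Nat.card B := by
    rw [Nat.card_congr ({ toFun := fun w => ⟨c⁻¹ * w, w.2⟩
                          invFun := fun z => ⟨c * z, by show c⁻¹ * (c * z) ∈ Z; rw [inv_mul_cancel_left]; exact z.2⟩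
                          left_inv := fun w => Subtype.ext (mul_inv_cancel_left _ _)
                          right_inv := fun z => Subtype.ext (inv_mul_cancel_left _ _) } : B ≃ Z), hk]
    intro h
    exact hqp ((Nat.prime_dvd_prime_iff_eq Fact.out Fact.out).1 ((Fact.out : q.Prime).dvd_of_dvd_pow h))
  obtain ⟨⟨w, hw⟩, hfix⟩ := hΦ.nonempty_fixed_point_of_prime_not_dvd_card B hnd
  refine ⟨c⁻¹ * w, hw, ?_⟩
  rw [mul_inv_cancel_left]
  exact congrArg Subtype.val (MulAction.mem_fixedPoints.1 hfix ⟨β, Subgroup.mem_zpowers β⟩)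

/-- The fixed points of an automorphism. -/
def fixedPts {W : Subgroup Ω} (β : MulAut W) : Subgroup Ω :=
  (β.toMonoidHom.eqLocus (MonoidHom.id W)).map W.subtype

omit [Finite S] in
theorem mem_fixedPts {W : Subgroup Ω} {β : MulAut W} {x : Ω} :
    x ∈ fixedPts β ↔ ∃ h : x ∈ W, β ⟨x, h⟩ = ⟨x, h⟩ := by
  constructor
  · rintro ⟨w, hw, rfl⟩; exact ⟨w.2, hw⟩
  · rintro ⟨h, e⟩; exact ⟨⟨x, h⟩, e, rfl⟩

variable {q : ℕ} {β : MulAut ↥(R₁ ⊔ centralizerIn S R₁)}

/-- The centralizer is the centre of `R₁` times fixed points. -/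
theorem exists_decomp [Fact p.Prime] [Fact q.Prime] (hS : IsPGroup p S) (hqp : q ≠ p) (hR₁ : R₁ ≤ S)
    (hβm : ModTrivial R₁ β) {e : ℕ} (hβ : β ^ q ^ e = 1) {c : Ω} (hc : c ∈ centralizerIn S R₁) :
    ∃ z, z ∈ R₁ ∧ z ∈ centralizerIn S R₁ ∧ c * z ∈ fixedPts β := by
  have hW : R₁ ⊔ centralizerIn S R₁ ≤ S := sup_le hR₁ inf_le_left
  have := finite_of_le hW
  let Z : Subgroup ↥(R₁ ⊔ centralizerIn S R₁) :=
    (R₁ ⊓ centralizerIn S R₁).comap (R₁ ⊔ centralizerIn S R₁).subtype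
  have hR : ∀ r : R₁, ((β (Subgroup.inclusion le_sup_left r) : ↥(R₁ ⊔ centralizerIn S R₁)) : Ω) ∈ R₁ :=
    fun r => modTrivial_invariant hβm le_rfl le_sup_left r
  have hsur : ∀ r ∈ R₁, ∃ r' : R₁, ((β (Subgroup.inclusion le_sup_left r') : ↥(R₁ ⊔ centralizerIn S R₁)) : Ω) = r := by
    have := finite_of_le hR₁
    intro r hr
    obtain ⟨r', h⟩ := Finite.surjective_of_injective (f := fun x : R₁ => (⟨_, hR x⟩ : R₁)) (fun a b h =>
      Subgroup.inclusion_injective _ (β.injective (Subtype.ext (congrArg Subtype.val h :)))) ⟨r, hr⟩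
    exact ⟨r', congrArg Subtype.val h⟩
  have hC : ∀ (w : ↥(R₁ ⊔ centralizerIn S R₁)), (w : Ω) ∈ centralizerIn S R₁ →
      ((β w : ↥(R₁ ⊔ centralizerIn S R₁)) : Ω) ∈ centralizerIn S R₁ := by
    intro w hw
    refine ⟨hW (β w).2, fun r hr => ?_⟩
    obtain ⟨r', rfl⟩ := hsur r hr
    rw [← Subgroup.coe_mul, ← Subgroup.coe_mul, ← map_mul, ← map_mul]
    exact congrArg (fun v => ((β v : ↥(R₁ ⊔ centralizerIn S R₁)) : Ω)) (Subtype.ext (hw.2 r' r'.2))
  obtain ⟨z, hz, hzf⟩ := exists_fixed_mem_coset hqp hβ Z ((hS.to_le hW).to_subgroup Z)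
    (fun z hz => ⟨by
      have h := hR ⟨(z : Ω), hz.1⟩
      rwa [show Subgroup.inclusion le_sup_left (⟨(z : Ω), hz.1⟩ : R₁) = z from Subtype.ext rfl] at h, hC z hz.2⟩)
    (c := ⟨c, Subgroup.mem_sup_right hc⟩)
    ⟨hβm _, (centralizerIn S R₁).mul_mem ((centralizerIn S R₁).inv_mem hc) (hC _ hc)⟩
  exact ⟨z, hz.1, hz.2, ⟨_, hzf, rfl⟩⟩

/-- A coprime lift centralizes all displacements of maps centralizing `R₁`. -/
theorem displacement_fixed [Fact p.Prime] [Fact q.Prime] (hS : IsPGroup p S) (hF : F.IsSaturated p) (hqp : q ≠ p)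
    (hR₁ : F.IsFullyNormalized R₁) (hβF : β ∈ F.autGroup (R₁ ⊔ centralizerIn S R₁)) (hβm : ModTrivial R₁ β)
    {e : ℕ} (hβ : β ^ q ^ e = 1) {P : Subgroup Ω} {φ : P →* Ω} (hφ : φ ∈ F.centralizerHom R₁ P) (x : P) :
    (x : Ω)⁻¹ * φ x ∈ fixedPts β := by
  have hR₁S := hR₁.1
  set D := H93.centralizerSystem F R₁ hR₁S
  have hD : F.IsCentralizerSystem R₁ D := fun _ => rfl
  have hCS : (centralizerIn S R₁) ≤ S := inf_le_left
  have := finite_of_le hCS
  have hDsat : D.IsSaturated p := H93.IsCentralizerSystem.isSaturated hS hF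
    (H93.IsFullyNormalized.isFullyCentralized hS hF hR₁) hD
  have hSC := hS.to_le hCS
  refine H94.alperin_induction hSC hDsat (fun P φ => ∀ x : P, (x : Ω)⁻¹ * φ x ∈ fixedPts β)
    (fun P Q h φ _ hC x => hC ⟨x, h x.2⟩) (fun P Q φ ψ _ _ h1 h2 h x => ?_)
    (fun U hU hc hr α hα => ?_) (show φ ∈ D.Hom P from hφ) x
  · have := (fixedPts β).mul_mem (h1 x) (h2 ⟨φ x, h x⟩)
    rw [mul_assoc, mul_inv_cancel_left] at this
    exact this
  have hUC : U ≤ (centralizerIn S R₁) := hU.1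
  have := finite_of_le hUC
  have hZU : ∀ z ∈ R₁, z ∈ (centralizerIn S R₁) → z ∈ U := fun z hz hzC =>
    hc.2 U (isConj_refl D hUC) ⟨hzC, fun u hu => ((hUC hu).2 z hz).symm⟩
  have hW : R₁ ⊔ centralizerIn S R₁ ≤ S := sup_le hR₁S hCS
  -- `β` on `U ⊔ R₁`
  have hXW : U ⊔ R₁ ≤ R₁ ⊔ centralizerIn S R₁ := sup_le (hUC.trans le_sup_right) le_sup_left
  have hXS : U ⊔ R₁ ≤ S := hXW.trans hW
  obtain ⟨βX, hβX, hβXe⟩ := exists_restrict hW hXW hβF fun y => modTrivial_invariant hβm le_sup_right hXW y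
  obtain ⟨ψ, hψF, hψU, hψR⟩ : ∃ ψ ∈ F.autGroup (U ⊔ R₁),
      (∀ u : U, ψ (Subgroup.inclusion le_sup_left u) = Subgroup.inclusion le_sup_left (α u)) ∧
      ∀ r : R₁, ψ (Subgroup.inclusion le_sup_right r) = Subgroup.inclusion le_sup_right r := by
    obtain ⟨-, -, -, ψ, hψ, hψU, hψR⟩ := (mem_autGroup D hUC).1 hα
    have hmem : ∀ w, ψ w ∈ U ⊔ R₁ := by
      have h1 : U ⊔ R₁ ≤ ((U ⊔ R₁).comap ψ).map (U ⊔ R₁).subtype :=
        sup_le (fun g hg => ⟨⟨g, le_sup_left (b := R₁) hg⟩,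
            Subgroup.mem_sup_left ((hψU ⟨g, hg⟩).symm ▸ (α ⟨g, hg⟩).2), rfl⟩)
          (fun g hg => ⟨⟨g, le_sup_right (a := U) hg⟩, Subgroup.mem_sup_right ((hψR ⟨g, hg⟩).symm ▸ hg), rfl⟩)
      intro w
      obtain ⟨w', hw, e⟩ := h1 w.2
      rw [show w = w' from Subtype.ext e.symm]
      exact hw
    obtain ⟨ψ', hψ', hψ'e⟩ := exists_autGroup_of_mem F hψ hmem
    exact ⟨ψ', hψ', fun u => Subtype.ext ((hψ'e _).trans (hψU u)), fun r => Subtype.ext ((hψ'e _).trans (hψR r))⟩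
  have hψRi : ∀ r : R₁, ψ⁻¹ (Subgroup.inclusion le_sup_right r) = Subgroup.inclusion le_sup_right r := fun r => by
    conv_lhs => rw [← hψR r, MulAut.inv_apply_self]
  have hβR : ∀ r : R₁, ∃ r' : R₁, βX (Subgroup.inclusion le_sup_right r) = Subgroup.inclusion le_sup_right r' :=
    fun r => by
    refine ⟨⟨_, modTrivial_invariant hβm le_rfl le_sup_left r⟩, Subgroup.inclusion_injective hXW ?_⟩
    rw [← hβXe]
    rfl
  -- `β` on `U`
  have hβU : ∀ u : U, ((β (Subgroup.inclusion (hUC.trans le_sup_right) u) : ↥(R₁ ⊔ centralizerIn S R₁)) : Ω) ∈ U := by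
    intro u
    obtain ⟨z, hzR, hzC, hzf⟩ := exists_decomp hS hqp hR₁S hβm hβ (hUC u.2)
    obtain ⟨hmem, hfix⟩ := mem_fixedPts.1 hzf
    have hzW : z ∈ R₁ ⊔ centralizerIn S R₁ := Subgroup.mem_sup_left hzR
    have hz' : ((β ⟨z, hzW⟩ : ↥(R₁ ⊔ centralizerIn S R₁)) : Ω) ∈ U := by
      refine hZU _ (modTrivial_invariant hβm le_rfl le_sup_left ⟨z, hzR⟩) ⟨hW (β ⟨z, hzW⟩).2, fun r hr => ?_⟩
      obtain ⟨r', hr'⟩ : ∃ r' : ↥(R₁ ⊔ centralizerIn S R₁), β r' = ⟨r, Subgroup.mem_sup_left hr⟩ := β.surjective _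
      have hr'R : (r' : Ω) ∈ R₁ := by
        have h1 := hβm r'
        rw [hr'] at h1
        have h2 := R₁.mul_mem hr (R₁.inv_mem h1)
        simpa using h2
      rw [show r = ((β r' : ↥(R₁ ⊔ centralizerIn S R₁)) : Ω) by rw [hr'], ← Subgroup.coe_mul, ← Subgroup.coe_mul, ← map_mul,
        ← map_mul]
      exact congrArg (fun v => ((β v : ↥(R₁ ⊔ centralizerIn S R₁)) : Ω)) (Subtype.ext (hzC.2 _ hr'R))
    rw [show Subgroup.inclusion (hUC.trans le_sup_right) u = ⟨(u : Ω) * z, hmem⟩ * (⟨z, hzW⟩ : ↥(R₁ ⊔ centralizerIn S R₁))⁻¹ from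
      Subtype.ext (mul_inv_cancel_right _ _).symm, map_mul, hfix, map_inv]
    exact U.mul_mem (U.mul_mem u.2 (hZU z hzR hzC)) (U.inv_mem hz')
  let i : U → ↥(U ⊔ R₁) := fun u => Subgroup.inclusion le_sup_left u
  have hi : Function.Injective i := Subgroup.inclusion_injective _
  obtain ⟨bU, hbU⟩ : ∃ bU : MulAut U, ∀ u, βX (i u) = i (bU u) := by
    let f : U →* U := MonoidHom.codRestrict
      ((R₁ ⊔ centralizerIn S R₁).subtype.comp (β.toMonoidHom.comp (Subgroup.inclusion (hUC.trans le_sup_right)))) U hβU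
    have hf : Function.Injective f := fun a b h =>
      Subgroup.inclusion_injective _ (β.injective (Subtype.ext (congrArg Subtype.val h :)))
    refine ⟨MulEquiv.ofBijective f ⟨hf, Finite.surjective_of_injective hf⟩, fun u => ?_⟩
    refine Subgroup.inclusion_injective hXW ?_
    rw [← hβXe]
    rfl
  have hbUi : ∀ u, βX⁻¹ (i u) = i (bU⁻¹ u) := fun u => βX.injective (by
    rw [MulAut.apply_inv_self, hbU, MulAut.apply_inv_self])
  have hψi : ∀ u, ψ⁻¹ (i u) = i (α⁻¹ u) := fun u => ψ.injective (by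
    show ψ (ψ⁻¹ (i u)) = ψ (Subgroup.inclusion le_sup_left (α⁻¹ u))
    rw [MulAut.apply_inv_self, hψU, MulAut.apply_inv_self])
  -- the commutator lies in a normal `p`-subgroup of the automizer
  let K : Subgroup (MulAut U) :=
    { carrier := {k | k ∈ D.autGroup U ∧ ModTrivial (R₁ ⊓ centralizerIn S R₁) k ∧ ∀ u : U, (u : Ω) ∈ R₁ → k u = u}
      one_mem' := ⟨one_mem _, modTrivial_one, fun _ _ => rfl⟩
      mul_mem' := fun {a b} ha hb => ⟨mul_mem ha.1 hb.1, modTrivial_mul ha.2.1 hb.2.1,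
        fun u hu => by rw [MulAut.mul_apply, hb.2.2 u hu, ha.2.2 u hu]⟩
      inv_mem' := fun {a} ha => ⟨inv_mem ha.1, modTrivial_inv ha.2.1,
        fun u hu => by conv_lhs => rw [← ha.2.2 u hu, MulAut.inv_apply_self]⟩ }
  have hDfix : ∀ a ∈ D.autGroup U, ∀ u : U, (u : Ω) ∈ R₁ → a u = u := by
    intro a ha u hu
    obtain ⟨-, -, -, χ, -, hχU, hχR⟩ := (mem_autGroup D hUC).1 ha
    apply Subtype.ext
    have h1 : ((a u : U) : Ω) = χ (Subgroup.inclusion le_sup_left u) := (hχU u).symm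
    rw [h1, show Subgroup.inclusion le_sup_left u = Subgroup.inclusion le_sup_right (⟨u, hu⟩ : R₁) from rfl, hχR]
  have hKn : ∀ a ∈ D.autGroup U, ∀ k ∈ K, a * k * a⁻¹ ∈ K := by
    intro a ha k hk
    refine ⟨mul_mem (mul_mem ha hk.1) (inv_mem ha), fun u => ?_, fun u hu => ?_⟩
    · set v : U := (a⁻¹ u)⁻¹ * k (a⁻¹ u) with hv
      have hvm : (v : Ω) ∈ R₁ ⊓ centralizerIn S R₁ := hk.2.1 (a⁻¹ u)
      have h1 := hDfix a ha v hvm.1
      rw [hv, map_mul, map_inv, MulAut.apply_inv_self, ← hv] at h1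
      have h2 : u⁻¹ * (a * k * a⁻¹) u = v := h1
      have h3 := congrArg Subtype.val h2
      rw [Subgroup.coe_mul, Subgroup.coe_inv] at h3
      rw [h3]
      exact hvm
    · rw [MulAut.mul_apply, MulAut.mul_apply, hDfix a⁻¹ (inv_mem ha) u hu, hk.2.2 u hu, hDfix a ha u hu]
  have hKp : IsPGroup p K := by
    rintro ⟨k, hk⟩
    obtain ⟨n, hn⟩ := H93.pow_eq_one_of_stabilizes hSC hUC (δ := k) (R := R₁ ⊓ centralizerIn S R₁)
      (fun y hy => hk.2.2 y hy.1) (fun y => hk.2.1 y)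
    exact ⟨n, Subtype.ext hn⟩
  set γ : MulAut ↥(U ⊔ R₁) := ψ * βX * ψ⁻¹ * βX⁻¹ with hγdef
  obtain ⟨k, hkdef⟩ : ∃ k : MulAut U, k = α * bU * α⁻¹ * bU⁻¹ := ⟨_, rfl⟩
  have hki : ∀ u, γ (i u) = i (k u) := fun u => by
    simp only [hγdef, hkdef, MulAut.mul_apply, hbUi, hψi, hbU]
    exact hψU _
  have hγR : ∀ r : R₁, γ (Subgroup.inclusion le_sup_right r) = Subgroup.inclusion le_sup_right r := fun r => by
    obtain ⟨r', hr'⟩ : ∃ r' : R₁, βX⁻¹ (Subgroup.inclusion le_sup_right r) = Subgroup.inclusion le_sup_right r' := by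
      refine ⟨⟨_, modTrivial_invariant (modTrivial_inv hβm) le_rfl le_sup_left r⟩, βX.injective ?_⟩
      rw [MulAut.apply_inv_self]
      refine Subgroup.inclusion_injective hXW ?_
      rw [← hβXe]
      exact (β.apply_symm_apply _).symm
    rw [hγdef, MulAut.mul_apply, MulAut.mul_apply, MulAut.mul_apply, hr', hψRi, ← hr', MulAut.apply_inv_self, hψR]
  have hγF : γ ∈ F.autGroup (U ⊔ R₁) := mul_mem (mul_mem (mul_mem hψF hβX) (inv_mem hψF)) (inv_mem hβX)
  have hkK : k ∈ K := by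
    refine ⟨(mem_autGroup D hUC).2 ?_, fun u => ?_, fun u hu => ?_⟩
    · refine ⟨?_, hUC, fun u => hUC (k u).2, (U ⊔ R₁).subtype.comp γ.toMonoidHom, (mem_autGroup F hXS).1 hγF,
        fun u => congrArg Subtype.val (hki u), fun r => congrArg Subtype.val (hγR r)⟩
      refine mem_congr F (res_mem F ((mem_autGroup F hXS).1 hγF) le_sup_left) fun u => ?_
      exact (congrArg Subtype.val (hki u)).symm
    · have hβm' : ∀ w : ↥(U ⊔ R₁), (w : Ω)⁻¹ * (βX w : ↥(U ⊔ R₁)) ∈ R₁ := fun w => by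
        have h := hβm (Subgroup.inclusion hXW w)
        rw [hβXe] at h
        exact h
      have hbm : ModTrivial (R₁ ⊓ centralizerIn S R₁) bU := fun v => by
        refine ⟨?_, (centralizerIn S R₁).mul_mem ((centralizerIn S R₁).inv_mem (hUC v.2)) (hUC (bU v).2)⟩
        have h := hβm' (i v)
        rw [hbU] at h
        exact h
      have h2 : ModTrivial (R₁ ⊓ centralizerIn S R₁) (α * bU * α⁻¹) := fun v => by
        have h3 : (((α⁻¹ v)⁻¹ * bU (α⁻¹ v) : U) : Ω) ∈ R₁ ⊓ centralizerIn S R₁ := hbm (α⁻¹ v)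
        have h4 := hDfix α hα _ h3.1
        rw [map_mul, map_inv, MulAut.apply_inv_self] at h4
        rw [← h4] at h3
        exact h3
      rw [hkdef]
      exact modTrivial_mul h2 (modTrivial_inv hbm) u
    · refine hi ((hki u).symm.trans ?_)
      exact hγR ⟨u, hu⟩
  have hinn : k ∈ Inn U := by
    rw [← hr.2]
    refine ⟨⟨k, hkK.1⟩, ?_, rfl⟩
    exact H19.le_pCore (N := K.subgroupOf (D.autGroup U))
      ⟨fun a ha b => Subgroup.mem_subgroupOf.2 (hKn b b.2 a (Subgroup.mem_subgroupOf.1 ha))⟩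
      (IsPGroup.of_equiv hKp (Subgroup.subgroupOfEquivOfLe (show K ≤ D.autGroup U from fun a (ha : a ∈ K) => ha.1)).symm)
      (Subgroup.mem_subgroupOf.2 hkK)
  obtain ⟨g, hg, hge⟩ := mem_inn_iff.1 hinn
  have hcomm : Commute k bU := by
    refine MulEquiv.ext fun u => Subtype.ext ?_
    rw [MulAut.mul_apply, MulAut.mul_apply, hge]
    -- `bU g = g z` with `z` central
    have hgz : ((⟨g, hg⟩ : U) : Ω)⁻¹ * (bU ⟨g, hg⟩ : U) ∈ R₁ ⊓ centralizerIn S R₁ := by
      refine ⟨?_, (centralizerIn S R₁).mul_mem ((centralizerIn S R₁).inv_mem (hUC hg)) (hUC (bU _).2)⟩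
      have h := hβm (Subgroup.inclusion hXW (i ⟨g, hg⟩))
      rw [hβXe, hbU] at h
      exact h
    have hku : k u = ⟨g, hg⟩ * u * (⟨g, hg⟩ : U)⁻¹ := Subtype.ext (hge u)
    rw [hku, map_mul, map_mul, map_inv, Subgroup.coe_mul, Subgroup.coe_mul, Subgroup.coe_inv]
    obtain ⟨z, hz⟩ : ∃ z, z = g⁻¹ * ((bU ⟨g, hg⟩ : U) : Ω) := ⟨_, rfl⟩
    have hbg : ((bU ⟨g, hg⟩ : U) : Ω) = g * z := by rw [hz, mul_inv_cancel_left]
    have hzc : z * ((bU u : U) : Ω) = ((bU u : U) : Ω) * z := by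
      rw [hz]
      exact (hUC (bU u).2).2 _ hgz.1
    rw [hbg]
    symm
    calc g * z * ((bU u : U) : Ω) * (g * z)⁻¹ = g * (z * ((bU u : U) : Ω)) * z⁻¹ * g⁻¹ := by group
      _ = g * (((bU u : U) : Ω) * z) * z⁻¹ * g⁻¹ := by rw [hzc]
      _ = _ := by group
  -- so it is trivial
  have hbq : bU ^ q ^ e = 1 := MulEquiv.ext fun u => hi (by
    rw [← pow_intertwine i hbU, show (1 : MulAut U) u = u from rfl]
    refine Subgroup.inclusion_injective hXW ?_
    rw [← pow_intertwine (Subgroup.inclusion hXW) hβXe, hβ]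
    rfl)
  have hk1 : k = 1 := by
    have h1 : (α * bU * α⁻¹) ^ q ^ e = 1 := by rw [conj_pow, hbq]; group
    have h2 : α * bU * α⁻¹ = k * bU := by rw [hkdef, inv_mul_cancel_right]
    rw [h2, hcomm.mul_pow, hbq, mul_one] at h1
    obtain ⟨n, hn⟩ := hKp ⟨k, hkK⟩
    have h3 : k ^ p ^ n = 1 := congrArg Subtype.val hn
    have hcop : (p ^ n).Coprime (q ^ e) := Nat.Coprime.pow _ _ ((Nat.coprime_primes Fact.out Fact.out).2 hqp.symm)
    have := pow_gcd_eq_one.2 ⟨h3, h1⟩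
    rwa [hcop.gcd_eq_one, pow_one] at this
  have hαb : ∀ u, bU (α u) = α (bU u) := fun u => by
    have h := congrArg (fun a : MulAut U => a (bU (α u))) hk1
    simp only [hkdef, MulAut.mul_apply, MulAut.inv_apply_self, MulAut.one_apply] at h
    exact h.symm
  intro u
  obtain ⟨z, hzR, hzC, hzf⟩ := exists_decomp hS hqp hR₁S hβm hβ (hUC u.2)
  obtain ⟨hmem, hfix⟩ := mem_fixedPts.1 hzf
  have hzU : z ∈ U := hZU z hzR hzC
  set f : U := ⟨(u : Ω) * z, U.mul_mem u.2 hzU⟩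
  have hbf : bU f = f := hi (by
    rw [← hbU]
    exact Subgroup.inclusion_injective hXW ((hβXe _).symm.trans hfix))
  have hαf : (α f : U) = α u * ⟨z, hzU⟩ := by
    rw [show f = u * ⟨z, hzU⟩ from rfl, map_mul, hDfix α hα ⟨z, hzU⟩ hzR]
  have hfix2 : ∀ v : U, bU v = v → (v : Ω) ∈ fixedPts β := fun v hv => by
    refine mem_fixedPts.2 ⟨Subgroup.mem_sup_right (hUC v.2), ?_⟩
    have := hβXe (i v)
    rw [hbU, hv] at this
    exact this
  have h1 : (u : Ω)⁻¹ * ((α u : U) : Ω) = ((f⁻¹ * α f : U) : Ω) := by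
    rw [hαf]
    show (u : Ω)⁻¹ * _ = ((u : Ω) * z)⁻¹ * (((α u : U) : Ω) * z)
    have hzc : ∀ w ∈ (centralizerIn S R₁), Commute z w := fun w hw => hw.2 z hzR
    calc (u : Ω)⁻¹ * ((α u : U) : Ω) = z⁻¹ * (z * ((u : Ω)⁻¹ * ((α u : U) : Ω))) := by group
      _ = z⁻¹ * (((u : Ω)⁻¹ * ((α u : U) : Ω)) * z) := by
          rw [(hzc _ ((centralizerIn S R₁).mul_mem ((centralizerIn S R₁).inv_mem (hUC u.2)) (hUC (α u).2))).eq]
      _ = _ := by group
  show (u : Ω)⁻¹ * ((α u : U) : Ω) ∈ fixedPts β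
  rw [h1]
  exact hfix2 _ (by rw [map_mul, map_inv, hαb, hbf])

/-- An automorphism of an intermediate subgroup, trivial modulo `R₁`, with the same restriction to `R₁` as a coprime
lift, has the same `p ^ n`-th power. -/
theorem pow_eq_of_agree [Fact p.Prime] [Fact q.Prime] (hS : IsPGroup p S) (hF : F.IsSaturated p) (hqp : q ≠ p)
    (hR₁ : F.IsFullyNormalized R₁) (hβF : β ∈ F.autGroup (R₁ ⊔ centralizerIn S R₁)) (hβm : ModTrivial R₁ β)
    {e : ℕ} (hβ : β ^ q ^ e = 1) {n : ℕ} (hn : Nat.card R₁ = p ^ n) {X : Subgroup Ω} (hRX : R₁ ≤ X)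
    (hXW : X ≤ R₁ ⊔ centralizerIn S R₁) {b : MulAut X} (hb : b ∈ F.autGroup X) (hbm : ModTrivial R₁ b)
    (hbR : ∀ r : R₁, Subgroup.inclusion hXW (b (Subgroup.inclusion hRX r)) =
      β (Subgroup.inclusion hXW (Subgroup.inclusion hRX r))) (x : X) :
    Subgroup.inclusion hXW ((b ^ p ^ n) x) = (β ^ p ^ n) (Subgroup.inclusion hXW x) := by
  have hR₁S := hR₁.1
  have hW : R₁ ⊔ centralizerIn S R₁ ≤ S := sup_le hR₁S inf_le_left
  have hXS : X ≤ S := hXW.trans hW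
  have := finite_of_le hR₁S
  have := finite_of_le hXS
  obtain ⟨βX, hβX, hβXe⟩ := exists_restrict hW hXW hβF fun y => modTrivial_invariant hβm hRX hXW y
  -- it suffices to treat fixed elements centralizing `R₁`
  suffices h : ∀ f : X, (f : Ω) ∈ (centralizerIn S R₁) → (f : Ω) ∈ fixedPts β → (b ^ p ^ n) f = f by
    have hagree : ∀ r : R₁, (b ^ p ^ n) (Subgroup.inclusion hRX r) = (βX ^ p ^ n) (Subgroup.inclusion hRX r) := by
      have hbR' : ∀ r : R₁, b (Subgroup.inclusion hRX r) = βX (Subgroup.inclusion hRX r) := fun r =>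
        Subgroup.inclusion_injective hXW (by rw [hbR, hβXe])
      suffices ∀ (m : ℕ) (r : R₁), ∃ r' : R₁, (b ^ m) (Subgroup.inclusion hRX r) = Subgroup.inclusion hRX r' ∧
          (βX ^ m) (Subgroup.inclusion hRX r) = Subgroup.inclusion hRX r' from fun r => by
        obtain ⟨r', h1, h2⟩ := this (p ^ n) r
        rw [h1, h2]
      intro m
      induction m with
      | zero => exact fun r => ⟨r, rfl, rfl⟩
      | succ m ih =>
        intro r
        obtain ⟨r', h1, h2⟩ := ih r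
        refine ⟨⟨_, modTrivial_invariant hbm le_rfl hRX r'⟩, ?_, ?_⟩
        · rw [pow_succ', MulAut.mul_apply, h1]; rfl
        · rw [pow_succ', MulAut.mul_apply, h2, ← hbR' r']; rfl
    -- decompose `x = r * f`
    have hxdec : ∃ r ∈ R₁, ∃ f ∈ (centralizerIn S R₁), (x : Ω) = r * f ∧ f ∈ fixedPts β ∧ f ∈ X := by
      have hxW : (x : Ω) ∈ R₁ ⊔ centralizerIn S R₁ := hXW x.2
      rw [← SetLike.mem_coe, Subgroup.coe_mul_of_right_le_normalizer_left R₁ (centralizerIn S R₁)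
        (inf_le_right.trans (Subgroup.centralizer_le_normalizer _))] at hxW
      obtain ⟨r, hr, c, hc, e'⟩ := hxW
      obtain ⟨z, hzR, hzC, hzf⟩ := exists_decomp hS hqp hR₁S hβm hβ hc
      have hcX : c ∈ X := by
        have h1 := X.mul_mem (X.inv_mem (hRX hr)) x.2
        rwa [← e', inv_mul_cancel_left] at h1
      refine ⟨r * z⁻¹, R₁.mul_mem hr (R₁.inv_mem hzR), c * z, (centralizerIn S R₁).mul_mem hc hzC, ?_, hzf, X.mul_mem hcX (hRX hzR)⟩
      rw [← e']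
      show r * c = r * z⁻¹ * (c * z)
      have hzc : z * c = c * z := hc.2 z hzR
      rw [← hzc]
      group
    obtain ⟨r, hr, f, hfC, hxe, hff, hfX⟩ := hxdec
    have hxX : x = Subgroup.inclusion hRX ⟨r, hr⟩ * ⟨f, hfX⟩ := Subtype.ext hxe
    have hfβ : (βX ^ p ^ n) ⟨f, hfX⟩ = ⟨f, hfX⟩ := by
      have h1 : βX ⟨f, hfX⟩ = ⟨f, hfX⟩ := by
        obtain ⟨_, hfix⟩ := mem_fixedPts.1 hff
        exact Subgroup.inclusion_injective hXW ((hβXe _).symm.trans hfix)
      exact pow_intertwine (fun _ : Unit => (⟨f, hfX⟩ : X)) (a := 1) (b := βX) (fun _ => h1) (p ^ n) ()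
    rw [pow_intertwine (Subgroup.inclusion hXW) hβXe, hxX]
    refine congrArg _ ?_
    rw [map_mul, map_mul, hagree, h ⟨f, hfX⟩ hfC hff, hfβ]
  intro f hfC hff
  -- `k = b * βX⁻¹` centralizes `R₁`
  have hfβ : βX f = f := by
    obtain ⟨_, hfix⟩ := mem_fixedPts.1 hff
    exact Subgroup.inclusion_injective hXW ((hβXe _).symm.trans hfix)
  set w : X := f⁻¹ * b f with hw
  have hwR : (w : Ω) ∈ R₁ := hbm f
  have hwfix : (w : Ω) ∈ fixedPts β := by
    set k := b * βX⁻¹ with hk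
    have hkF : k ∈ F.autGroup X := mul_mem hb (inv_mem hβX)
    have hkR : ∀ r : R₁, k (Subgroup.inclusion hRX r) = Subgroup.inclusion hRX r := fun r => by
      obtain ⟨r', hr'⟩ : ∃ r' : R₁, βX⁻¹ (Subgroup.inclusion hRX r) = Subgroup.inclusion hRX r' := by
        refine ⟨⟨_, modTrivial_invariant (modTrivial_inv hβm) le_rfl le_sup_left r⟩, βX.injective ?_⟩
        rw [MulAut.apply_inv_self]
        refine Subgroup.inclusion_injective hXW ?_
        rw [← hβXe]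
        exact (β.apply_symm_apply _).symm
      rw [hk, MulAut.mul_apply, hr', show b (Subgroup.inclusion hRX r') = βX (Subgroup.inclusion hRX r') from
        Subgroup.inclusion_injective hXW (by rw [hbR, hβXe]), ← hr', MulAut.apply_inv_self]
    have hkf : k f = b f := by
      rw [hk, MulAut.mul_apply]
      conv_lhs => rw [← hfβ, MulAut.inv_apply_self]
    have hD : res (X.subtype.comp k.toMonoidHom) (inf_le_left : X ⊓ centralizerIn S R₁ ≤ X) ∈ F.centralizerHom R₁ (X ⊓ centralizerIn S R₁) := by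
      have hkh := (mem_autGroup F hXS).1 hkF
      refine ⟨res_mem F hkh _, inf_le_right, fun v => ⟨hXS (k _).2, fun r hr => ?_⟩,
        res (X.subtype.comp k.toMonoidHom) (sup_le inf_le_left hRX), res_mem F hkh _, fun v => rfl,
        fun r => congrArg Subtype.val (hkR r)⟩
      have h1 : Subgroup.inclusion hRX ⟨r, hr⟩ * Subgroup.inclusion inf_le_left v =
          Subgroup.inclusion inf_le_left v * Subgroup.inclusion hRX ⟨r, hr⟩ := Subtype.ext (v.2.2.2 r hr)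
      have h2 := congrArg k h1
      rw [map_mul, map_mul, hkR] at h2
      exact congrArg Subtype.val h2
    have := displacement_fixed hS hF hqp hR₁ hβF hβm hβ hD ⟨f, f.2, hfC⟩
    rw [res_apply] at this
    show (((f⁻¹ * b f : X)) : Ω) ∈ fixedPts β
    rw [← hkf]
    exact this
  have hbw : b w = w := by
    refine Subgroup.inclusion_injective hXW ?_
    refine (hbR ⟨w, hwR⟩).trans ?_
    obtain ⟨_, hfix⟩ := mem_fixedPts.1 hwfix
    exact hfix
  have hpow : ∀ m : ℕ, (b ^ m) f = f * w ^ m := by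
    intro m
    induction m with
    | zero => simp
    | succ m ih => rw [pow_succ', MulAut.mul_apply, ih, map_mul, map_pow, hbw, pow_succ', ← mul_assoc f,
        hw, mul_inv_cancel_left]
  have hw1 : w ^ p ^ n = 1 := by
    have h := pow_card_eq_one' (x := (⟨w, hwR⟩ : R₁))
    rw [hn] at h
    have h' : ((w : Ω)) ^ p ^ n = 1 := congrArg Subtype.val h
    exact Subtype.ext (by rw [Subgroup.coe_pow, h']; rfl)
  rw [hpow, hw1, mul_one]

set_option maxHeartbeats 800000 in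
/-- A coprime lift fixes whatever some lift fixes. -/
theorem Target.fixed_of_lift [Fact p.Prime] [Fact q.Prime] (t : Target F R R₁ χ) (hS : IsPGroup p S)
    (hF : F.IsSaturated p) (hqp : q ≠ p) {a : MulAut R} (ha : a ∈ t.liftGroup) {y : Ω}
    (hy : y ∈ centralizerIn S R) {b b' : MulAut ↥(R ⊔ Subgroup.zpowers y)}
    (hb : b ∈ F.autGroup (R ⊔ Subgroup.zpowers y)) (hbm : ModTrivial R b)
    (hbR : ∀ x : R, b (Subgroup.inclusion le_sup_left x) = Subgroup.inclusion le_sup_left (a x))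
    (hby : b ⟨y, Subgroup.mem_sup_right (Subgroup.mem_zpowers y)⟩ = ⟨y, Subgroup.mem_sup_right (Subgroup.mem_zpowers y)⟩)
    (hb' : b' ∈ F.autGroup (R ⊔ Subgroup.zpowers y)) (hb'm : ModTrivial R b')
    (hb'R : ∀ x : R, b' (Subgroup.inclusion le_sup_left x) = Subgroup.inclusion le_sup_left (a x))
    {e : ℕ} (hb'q : b' ^ q ^ e = 1) :
    b' ⟨y, Subgroup.mem_sup_right (Subgroup.mem_zpowers y)⟩ = ⟨y, Subgroup.mem_sup_right (Subgroup.mem_zpowers y)⟩ := by
  set Y : ↥(R ⊔ Subgroup.zpowers y) := ⟨y, Subgroup.mem_sup_right (Subgroup.mem_zpowers y)⟩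
  have hzy : Subgroup.zpowers y ≤ centralizerIn S R := Subgroup.zpowers_le.2 hy
  have hXN : (R ⊔ Subgroup.zpowers y) ≤ normalizerIn S R :=
    sup_le t.le_normalizerIn (Target.mem_normalizerIn_of_centralizer hzy)
  have hXS : (R ⊔ Subgroup.zpowers y) ≤ S := hXN.trans inf_le_left
  have := finite_of_le hXS
  have := finite_of_le t.le
  have := finite_of_le t.le_sup
  have : Finite (MulAut ↥(R₁ ⊔ centralizerIn S R₁)) := Finite.of_injective (fun a : MulAut _ => (a : _ → _)) DFunLike.coe_injective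
  -- a coprime lift
  obtain ⟨β₀, hβ₀, hβ₀m, hβ₀u⟩ := ha
  have haq : a ^ q ^ e = 1 := MulEquiv.ext fun x => Subgroup.inclusion_injective
    (le_sup_left : R ≤ R ⊔ Subgroup.zpowers y) (by rw [← pow_intertwine _ hb'R, hb'q]; rfl)
  obtain ⟨s, ⟨e', hβq⟩, hβu⟩ := exists_qLift t.emb hβ₀u ⟨e, haq⟩
  have hβm : ModTrivial R₁ (β₀ ^ s) := by
    clear hβq hβu
    induction s with
    | zero => exact modTrivial_one
    | succ s ih => rw [pow_succ]; exact modTrivial_mul ih hβ₀m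
  have hρ : res χ hXN ∈ F.Hom (R ⊔ Subgroup.zpowers y) := res_mem F t.hom hXN
  set X₁ := (res χ hXN).range
  set E := H94.homEquiv _ (F.injective_of_mem hρ) (rfl : (res χ hXN).range = X₁)
  have hRX₁ : R₁ ≤ X₁ := fun r hr => by
    obtain ⟨x, hx, rfl⟩ := t.sur r hr
    exact ⟨⟨x, Subgroup.mem_sup_left hx⟩, rfl⟩
  have hXW : X₁ ≤ R₁ ⊔ centralizerIn S R₁ := by
    have hle : (R ⊔ Subgroup.zpowers y) ≤ ((R₁ ⊔ centralizerIn S R₁).comap (res χ hXN)).map (R ⊔ Subgroup.zpowers y).subtype :=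
      sup_le (fun g hg => ⟨⟨g, Subgroup.mem_sup_left hg⟩, Subgroup.mem_sup_left (t.img _ hg), rfl⟩)
        (fun g hg => ⟨⟨g, Subgroup.mem_sup_right hg⟩, Subgroup.mem_sup_right (t.map_centralizer (hzy hg)), rfl⟩)
    rintro _ ⟨w, rfl⟩
    obtain ⟨w', hw', ew⟩ := hle w.2
    rw [show w = w' from Subtype.ext ew.symm]
    exact hw'
  have := finite_of_le t.full.1
  obtain ⟨n, hn⟩ := (hS.to_le t.full.1).exists_card_eq
  have key : ∀ c ∈ F.autGroup (R ⊔ Subgroup.zpowers y), ModTrivial R c →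
      (∀ x : R, c (Subgroup.inclusion le_sup_left x) = Subgroup.inclusion le_sup_left (a x)) →
      Subgroup.inclusion hXW (E ((c ^ p ^ n) Y)) = ((β₀ ^ s) ^ p ^ n) (Subgroup.inclusion hXW (E Y)) := by
    intro c hc hcm hcR
    rw [← pow_intertwine E (b := MulAut.congr E c) (a := c) (fun v => congrArg (fun w => E (c w)) (E.symm_apply_apply v))]
    refine pow_eq_of_agree hS hF hqp t.full (pow_mem hβ₀ s) hβm hβq hn hRX₁ hXW
      (H94.congr_mem_autGroup hρ rfl hc) (fun w => ?_) (fun r => ?_) (E Y)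
    · obtain ⟨v, rfl⟩ := E.surjective w
      have h1 : (E v)⁻¹ * MulAut.congr E c (E v) = E (v⁻¹ * c v) := by
        rw [map_mul, map_inv]
        exact congrArg (fun z => (E v)⁻¹ * E (c z)) (E.symm_apply_apply v)
      have h2 := congrArg Subtype.val h1
      rw [Subgroup.coe_mul, Subgroup.coe_inv] at h2
      rw [h2]
      exact t.img (Subgroup.inclusion hXN (v⁻¹ * c v)) (hcm v)
    · obtain ⟨x, hxR, hx⟩ := t.sur r r.2
      have h1 : Subgroup.inclusion hRX₁ r = E (Subgroup.inclusion le_sup_left (⟨x, hxR⟩ : R)) := Subtype.ext hx.symm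
      have h2 : MulAut.congr E c (Subgroup.inclusion hRX₁ r) = E (Subgroup.inclusion le_sup_left (a ⟨x, hxR⟩)) := by
        rw [h1, ← hcR]
        exact congrArg (fun z => E (c z)) (E.symm_apply_apply _)
      rw [h2, h1]
      exact (hβu _).symm
  have hbn : (b ^ p ^ n) Y = Y := pow_intertwine (fun _ : Unit => Y) (a := 1) (b := b) (fun _ => hby) (p ^ n) ()
  have h1 := key b hb hbm hbR
  rw [hbn] at h1
  have h2 := key b' hb' hb'm hb'R
  rw [← h1] at h2
  exact fixed_of_pow_fixed hqp hb'q (E.injective (Subgroup.inclusion_injective hXW h2))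

end Cfsg.Agent.H96
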