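import Cfsg.Agent.H96.PPowerStep
import Cfsg.Agent.H94.ResidualMinimal
import Cfsg.Agent.H94.ResidualNormal
import Cfsg.Agent.H94.ResidualSeries

/-!
Existence of residual limits and their invariance under passing to a normal subsystem of index prime to `p`.
-/

set_option autoImplicit false

namespace Cfsg.Agent.H96

open Cfsg Cfsg.FusionSystem Cfsg.Agent.H93

universe u

variable {Ω : Type u} [Group Ω] {p : ℕ} [Fact p.Prime]

/-- Index prime to `p` passes to intermediate systems. -/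
theorem primeIndex_of_between {U : Subgroup Ω} {G D R : FusionSystem U} (hRD : R.IsSubsystemOf D)
    (hDG : D.IsSubsystemOf G) (h : R.HasPrimeToPIndexIn G p) : R.HasPrimeToPIndexIn D p := by
  refine ⟨hRD, fun P hP => ?_⟩
  have hle : D.autGroup P ≤ G.autGroup P := fun a ha =>
    (mem_autGroup G hP).2 (hDG P ((mem_autGroup D hP).1 ha))
  refine le_trans ?_ (h.2 P hP)
  rw [MonoidHom.map_closure, MonoidHom.map_closure]
  refine Subgroup.closure_mono ?_
  rintro _ ⟨α, ⟨k, hk⟩, rfl⟩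
  exact ⟨⟨α, hle α.2⟩, ⟨k, by rw [Subgroup.orderOf_mk, Subgroup.orderOf_coe]; exact hk⟩, rfl⟩

/-- The residual for index prime to `p` of a weakly normal subsystem of index prime to `p` is that of the system. -/
theorem isPPrimeResidual_of_between {U : Subgroup Ω} [Finite U] (hU : IsPGroup p U) {G D R : FusionSystem U}
    (hGs : G.IsSaturated p) (hD : D.IsWeaklyNormalIn G p) (hDi : D.HasPrimeToPIndexIn G p)
    (hR : G.IsPPrimeResidual p R) : D.IsPPrimeResidual p R := by
  have hRD : R.IsSubsystemOf D := hR.2.2 D hD.1 hDi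
  refine ⟨hR.1, primeIndex_of_between hRD hDi.1 hR.2.1, fun D' hD's hD'i => ?_⟩
  obtain ⟨R', hR', -⟩ := H94.exists_pPrimeResidual hU hD.1
  have hR'n := H94.pPrimeResidual_isNormalIn hU hD hR'
  have h1 : R.IsSubsystemOf R' :=
    H94.pPrimeResidual_le hU hGs (H94.weaklyNormal_self hGs) hR'n.1 hR
  exact fun P φ hφ => hR'.2.2 D' hD's hD'i P (h1 P hφ)

/-- The residual for index prime to `p` is its own residual. -/
theorem residual_idem {U : Subgroup Ω} [Finite U] (hU : IsPGroup p U) {G R : FusionSystem U}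
    (hGs : G.IsSaturated p) (hR : G.IsPPrimeResidual p R) : R.IsPPrimeResidual p R :=
  isPPrimeResidual_of_between hU hGs (H94.pPrimeResidual_isNormalIn hU (H94.weaklyNormal_self hGs) hR).1
    hR.2.1 hR

/-- Residual limits exist. -/
theorem exists_limit {U : Subgroup Ω} [Finite U] (hU : IsPGroup p U) {G : FusionSystem U}
    (hGs : G.IsSaturated p) : ∃ (L : Subgroup Ω) (Ginf : FusionSystem L), Ginf.IsResidualLimitOf G p := by
  obtain ⟨n, hn⟩ : ∃ n, Nat.card U = n := ⟨_, rfl⟩
  induction n using Nat.strong_induction_on generalizing U with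
  | _ n ih =>
    have hle := H94.hyperfocal_le G p
    have := finite_of_le hle
    have hY := hU.to_le hle
    obtain ⟨D, hDs, hDi⟩ := H94.exists_pPowerIndex hU hGs hle le_rfl
    obtain ⟨D', hD', -⟩ := H94.exists_pPrimeResidual hY hDs
    by_cases h : D'.hyperfocalSubgroup p = G.hyperfocalSubgroup p
    · exact ⟨_, D', IsResidualLimitOf.step G p D D' ⟨hDs, hDi⟩ hD'
        (IsResidualLimitOf.stable D' p h (residual_idem hY hDs hD'))⟩
    · have hle' := H94.hyperfocal_le D' p
      have := finite_of_le hle'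
      obtain ⟨D₁, hD₁s, hD₁i⟩ := H94.exists_pPowerIndex hY hD'.1 hle' le_rfl
      obtain ⟨D₁', hD₁', -⟩ := H94.exists_pPrimeResidual (hY.to_le hle') hD₁s
      have hlt : Nat.card (D'.hyperfocalSubgroup p) < n := by
        refine lt_of_lt_of_le (lt_of_le_of_ne (Subgroup.card_le_of_le hle') fun e => h ?_)
          (hn ▸ Subgroup.card_le_of_le hle)
        exact Subgroup.eq_of_le_of_card_ge hle' e.ge
      obtain ⟨L, Ginf, hG⟩ := ih _ hlt (hY.to_le hle') hD₁'.1 rfl
      exact ⟨L, Ginf, IsResidualLimitOf.step G p D D' ⟨hDs, hDi⟩ hD'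
        (IsResidualLimitOf.step D' p D₁ D₁' ⟨hD₁s, hD₁i⟩ hD₁' hG)⟩

omit [Fact p.Prime] in
/-- The residual limit lies in the system. -/
theorem limit_le {L U : Subgroup Ω} {Ginf : FusionSystem L} {G : FusionSystem U}
    (h : Ginf.IsResidualLimitOf G p) : Ginf.IsSubsystemOf G := by
  induction h with
  | stable F p _ _ => exact fun P φ hφ => hφ
  | step F p D D' hD hD' _ ih => exact fun P φ hφ => hD.2.1 P (hD'.2.1.1 P (ih P hφ))

/-- Hyperfocal subgroups are monotone. -/
theorem hyperfocal_mono {S U : Subgroup Ω} {F : FusionSystem S} {G : FusionSystem U} (hUS : U ≤ S)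
    (hGF : G.IsSubsystemOf F) : G.hyperfocalSubgroup p ≤ F.hyperfocalSubgroup p := by
  refine (Subgroup.closure_le _).2 ?_
  rintro _ ⟨P, α, x, hP, hα, rfl⟩
  have hle : G.autGroup P ≤ F.autGroup P := fun a ha =>
    (mem_autGroup F (hP.trans hUS)).2 (hGF P ((mem_autGroup G hP).1 ha))
  exact H94.inv_mul_apply_mem_hyperfocal (hP.trans hUS)
    ⟨Subgroup.inclusion hle α, H50.map_pResidual_le p _ ⟨α, hα, rfl⟩, rfl⟩ x

/-- The residual for index prime to `p` has the same residual limit. -/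
theorem limit_eq_residual {U : Subgroup Ω} [Finite U] (hU : IsPGroup p U) {G R : FusionSystem U}
    (hGs : G.IsSaturated p) (hR : G.IsPPrimeResidual p R) :
    ∀ (L L' : Subgroup Ω) (Ginf : FusionSystem L) (Rinf : FusionSystem L'), Ginf.IsResidualLimitOf G p →
      Rinf.IsResidualLimitOf R p → ∀ P : Subgroup Ω, Ginf.Hom P = Rinf.Hom P := by
  obtain ⟨n, hn⟩ : ∃ n, Nat.card U = n := ⟨_, rfl⟩
  induction n using Nat.strong_induction_on generalizing U with
  | _ n ih =>
    intro L L' Ginf Rinf hGinf hRinf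
    have hle := H94.hyperfocal_le G p
    have := finite_of_le hle
    have hY := hU.to_le hle
    obtain ⟨G₁, hG₁s, hG₁i⟩ := H94.exists_pPowerIndex hU hGs hle le_rfl
    obtain ⟨G₂, hG₂, -⟩ := H94.exists_pPrimeResidual hY hG₁s
    obtain ⟨M, Minf, hMinf⟩ := exists_limit hY hG₂.1
    have h1 := H94.limit_unique hGinf inferInstance inferInstance hU hGs Minf
      (IsResidualLimitOf.step G p G₁ G₂ ⟨hG₁s, hG₁i⟩ hG₂ hMinf)
    intro P
    rw [h1 P]
    by_cases hYU : G.hyperfocalSubgroup p = U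
    · exact H94.limit_step_eq hU hle hYU hG₁s hG₁i hG₂ hGs
        ⟨fun P φ h => h, hle, fun P hP => Subgroup.map_subtype_le _⟩ hR hMinf hRinf P
    have hRn := (H94.pPrimeResidual_isNormalIn hU (H94.weaklyNormal_self hGs) hR).1
    have hRY : R.hyperfocalSubgroup p ≤ G.hyperfocalSubgroup p := hyperfocal_mono le_rfl hR.2.1.1
    obtain ⟨RY, hRYs, hRYi⟩ := H94.exists_pPowerIndex hU hR.1 hle hRY
    have hYn : ∀ u ∈ U, ∀ y ∈ G.hyperfocalSubgroup p, u * y * u⁻¹ ∈ G.hyperfocalSubgroup p :=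
      fun u hu y hy => H94.conj_mem_hyperfocal hu hy
    have hYc : G.StronglyClosed (G.hyperfocalSubgroup p) :=
      H94.stronglyClosed_of_hyperfocal_le hU hGs hle hYn le_rfl
    have hRYn := H94.pPowerIndex_isNormalIn hU hR.1 hle hYn hRYs hRYi
    have hst : AutStable G U RY := autStable_pPowerIndex hU hRn.2.2 hle hRYs hRYi fun a ha x hx => by
      obtain ⟨φ, hφ, -, hv⟩ := ha
      rw [← hv ⟨x, hle hx⟩]
      exact H94.apply_mem_of_stronglyClosed hYc hφ (x := ⟨x, hle hx⟩) hx
    have hRYw : RY.IsWeaklyNormalIn G p :=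
      ⟨hRYs, hGs, invariant_trans hU hGs hRn.2.2 hRYn.1.2.2 hst⟩
    obtain ⟨R₂, hR₂, -⟩ := H94.exists_pPrimeResidual hY hRYs
    have hG₁w := (H94.pPowerIndex_isNormalIn hU hGs hle hYn hG₁s hG₁i).1
    have heq : G₂ = R₂ := H93.fs_antisymm
      (H94.pPrimeResidual_le hU hGs hG₁w (H94.pPrimeResidual_isNormalIn hU hRYw hR₂).1 hG₂)
      (H94.pPrimeResidual_le hU hGs hRYw (H94.pPrimeResidual_isNormalIn hU hG₁w hG₂).1 hR₂)
    obtain ⟨K, Kinf, hK⟩ := exists_limit hY hRYs
    have h2 := H94.limit_eq_of_pPowerIndex hU hR.1 hRYn.1.2.2.2.1 hRYs hRYi hRinf hK P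
    have hlt : Nat.card (G.hyperfocalSubgroup p) < n :=
      hn ▸ lt_of_le_of_ne (Subgroup.card_le_of_le hle) fun e => hYU (Subgroup.eq_of_le_of_card_ge hle e.ge)
    have h3 := ih _ hlt hY hRYs (heq ▸ hR₂ : RY.IsPPrimeResidual p G₂) rfl K M Kinf Minf hK hMinf P
    rw [h2, h3]

/-- A weakly normal subsystem of index prime to `p` has the same residual limit. -/
theorem limit_eq_of_primeIndex {U : Subgroup Ω} [Finite U] (hU : IsPGroup p U) {G D : FusionSystem U}
    (hGs : G.IsSaturated p) (hD : D.IsWeaklyNormalIn G p) (hDi : D.HasPrimeToPIndexIn G p)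
    (L L' : Subgroup Ω) (Ginf : FusionSystem L) (Dinf : FusionSystem L') (h1 : Ginf.IsResidualLimitOf G p)
    (h2 : Dinf.IsResidualLimitOf D p) (P : Subgroup Ω) : Ginf.Hom P = Dinf.Hom P := by
  obtain ⟨R, hR, -⟩ := H94.exists_pPrimeResidual hU hGs
  obtain ⟨M, Rinf, hRinf⟩ := exists_limit hU hR.1
  rw [limit_eq_residual hU hGs hR L M Ginf Rinf h1 hRinf P,
    limit_eq_residual hU hD.1 (isPPrimeResidual_of_between hU hGs hD hDi hR) L' M Dinf Rinf h2 hRinf P]

end Cfsg.Agent.H96
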