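import Cfsg.Agent.H96.PPowerStep
import Cfsg.Agent.H96.LimitPrime
import Cfsg.Agent.H93.CharacterSystem

/-!
The step to a subsystem of index prime to `p` shrinking the automizer of the base of a normal subsystem.
-/

set_option autoImplicit false

namespace Cfsg.Agent.H96

open Cfsg Cfsg.FusionSystem Cfsg.Agent.H93

universe u

variable {Ω : Type u} [Group Ω] {S T U : Subgroup Ω} {p : ℕ}

/-- An invariant subsystem is transported by the automorphisms of its base. -/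
theorem mor_transport {F : FusionSystem S} {G : FusionSystem U} (hsi : H94.StronglyInvariant G F) {a b : Ω → Ω}
    (ha : Mor F U U a) (hba : ∀ x ∈ U, b (a x) = x) {X Y : Subgroup Ω} {f : Ω → Ω} (hf : Mor G X Y f) :
    ∃ X' Y', Mor F X X' a ∧ Mor F Y Y' a ∧ Mor G X' Y' (fun y => a (f (b y))) := by
  obtain ⟨X', -, hX⟩ := ha.restrict hf.le_left
  obtain ⟨Y', -, hY⟩ := ha.restrict hf.le_right
  obtain ⟨φ, hφ, hr, hv⟩ := id hf
  obtain ⟨φa, hφa, -, hav⟩ := id ha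
  obtain ⟨χ, hχ, hχe⟩ := hsi X U hf.le_left le_rfl φ hφ (fun x => (G.le_of_mem hφ).2 x) φa hφa
  have heq : X' = (X.subgroupOf U).map φa := by
    apply le_antisymm
    · intro z hz
      obtain ⟨x, hx, rfl⟩ := hX.surj hz
      exact ⟨⟨x, hf.le_left hx⟩, hx, hav _⟩
    · rintro _ ⟨x, hx, rfl⟩
      rw [hav]
      exact hX.map_mem hx
  have hχv : ∀ (x : Ω) (hx : x ∈ X) (hx' : a x ∈ X'), χ ⟨a x, heq.le hx'⟩ = a (f x) := by
    intro x hx hx'
    have h1 := hχe ⟨x, hx⟩ ⟨_, hx, rfl⟩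
    rw [show (⟨a x, heq.le hx'⟩ : ↥((X.subgroupOf U).map φa)) = ⟨φa ⟨x, hf.le_left hx⟩, ⟨_, hx, rfl⟩⟩ from
      Subtype.ext (hav ⟨x, hf.le_left hx⟩).symm]
    exact h1.trans ((hav _).trans (congrArg a (hv ⟨x, hx⟩)))
  refine ⟨X', Y', hX, hY, χ.comp (Subgroup.inclusion heq.le), H93.mem_of_eq hχ heq fun _ _ _ => rfl, ?_, ?_⟩
  · apply le_antisymm
    · rintro _ ⟨⟨z, hz⟩, rfl⟩
      obtain ⟨x, hx, rfl⟩ := hX.surj hz
      exact (hχv x hx hz).symm ▸ hY.map_mem (hf.map_mem hx)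
    · intro z hz
      obtain ⟨y, hy, rfl⟩ := hY.surj hz
      obtain ⟨x, hx, rfl⟩ := hf.surj hy
      exact ⟨⟨a x, hX.map_mem hx⟩, hχv x hx (hX.map_mem hx)⟩
  · rintro ⟨z, hz⟩
    obtain ⟨x, hx, rfl⟩ := hX.surj hz
    show χ ⟨a x, _⟩ = a (f (b (a x)))
    rw [hba x (hf.le_left hx)]
    exact hχv x hx hz

/-- Centric subgroups of an invariant subsystem are permuted by the automorphisms of its base. -/
theorem centric_transport {F : FusionSystem S} {G : FusionSystem U} (hsi : H94.StronglyInvariant G F)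
    {a b : Ω → Ω} (ha : Mor F U U a) (hb : Mor F U U b) (hba : ∀ x ∈ U, b (a x) = x)
    (hab : ∀ x ∈ U, a (b x) = x) {R R' : Subgroup Ω} (hR : G.IsCentric R) (hRR' : Mor F R R' a) :
    G.IsCentric R' := by
  have hR'U : R' ≤ U := fun z hz => by
    obtain ⟨x, hx, rfl⟩ := hRR'.surj hz
    exact ha.map_mem (hR.1 hx)
  refine ⟨hR'U, fun Q hQ x hx => ?_⟩
  obtain ⟨φ, hφ, hr⟩ := hQ
  obtain ⟨f, hf, -⟩ := exists_mor hφ hr
  obtain ⟨X', Y', h1, h2, h3⟩ := mor_transport hsi hb hab hf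
  have hXR : X' = R := by
    apply le_antisymm
    · intro z hz
      obtain ⟨w, hw, rfl⟩ := h1.surj hz
      obtain ⟨r, hr', rfl⟩ := hRR'.surj hw
      rwa [hba r (hR.1 hr')]
    · intro r hr'
      have := h1.map_mem (hRR'.map_mem hr')
      rwa [hba r (hR.1 hr')] at this
  have hY : b x ∈ centralizerIn U Y' := by
    refine ⟨hb.map_mem hx.1, fun y hy => ?_⟩
    obtain ⟨q, hq, rfl⟩ := h2.surj hy
    rw [← hb.map_mul (hf.le_right hq) hx.1, ← hb.map_mul hx.1 (hf.le_right hq), hx.2 q hq]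
  have hY' : b x ∈ Y' := hR.2 Y' (hXR ▸ h3.isConj) hY
  exact (hb.mem_iff h2 hf.le_right hx.1).1 hY'

variable {F : FusionSystem S} {E : FusionSystem T}

/-- The character systems are stable under the automorphisms of the ambient base. -/
theorem autStable_charSystem [Finite S] [Fact p.Prime] {G : FusionSystem U} (hGI : G.IsInvariantIn F)
    (hEI : E.IsInvariantIn F) {Δ : Type*} [Group Δ] {χ : G.autGroup T →* Δ} (h : CharData p G E χ)
    (hχ : ∀ α ∈ F.autGroup T, ∀ (β : G.autGroup T) (hm : α * (β : MulAut T) * α⁻¹ ∈ G.autGroup T),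
      χ β = 1 → χ ⟨_, hm⟩ = 1) :
    AutStable F U (charSystem χ E) := by
  have hUS : U ≤ S := hGI.2.1.1
  have hTS : T ≤ S := hEI.2.1.1
  have := finite_of_le hUS
  have hGsi := H94.stronglyInvariant_of_invariant hGI
  have hEsi := H94.stronglyInvariant_of_invariant hEI
  intro a ha
  obtain ⟨b, hb, hba, hab⟩ := ha.exists_inv
  refine ⟨fun x hx => ha.map_mem hx, fun P Q f hf => ?_⟩
  have haT : Mor F T T a := by
    obtain ⟨φ, hφ, -, hv⟩ := ha
    exact ⟨res φ h.top_le, res_mem F hφ h.top_le, range_eq_of_forall_mem F (res_mem F hφ h.top_le)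
      (hEI.2.1.2 T le_rfl _ (res_mem F hφ h.top_le)), fun x => hv _⟩
  have hbT : Mor F T T b := by
    obtain ⟨φ, hφ, -, hv⟩ := hb
    exact ⟨res φ h.top_le, res_mem F hφ h.top_le, range_eq_of_forall_mem F (res_mem F hφ h.top_le)
      (hEI.2.1.2 T le_rfl _ (res_mem F hφ h.top_le)), fun x => hv _⟩
  let D : FusionSystem U :=
    { Hom := fun P => {φ | φ ∈ G.Hom P ∧ ∀ f : Ω → Ω, (∀ x : P, f x = φ x) →
        ∃ P', Mor F P P' a ∧ ∃ Q', Mor (charSystem χ E) P' Q' (fun y => a (f (b y)))}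
      le_of_mem := fun h => G.le_of_mem h.1
      injective_of_mem := fun h => G.injective_of_mem h.1
      conj_mem := by
        intro P g hP hg
        refine ⟨G.conj_mem hP hg, fun f hf => ?_⟩
        obtain ⟨P', hP'U, hPP'⟩ := ha.restrict hP
        refine ⟨P', hPP', _, conjHom P' (a g), (charSystem χ E).conj_mem hP'U (ha.map_mem hg), rfl, fun y => ?_⟩
        obtain ⟨x, hx, hxy⟩ := hPP'.surj y.2
        show a g * (y : Ω) * (a g)⁻¹ = a (f (b y))
        rw [← hxy, hba x (hP hx), show f x = g * x * g⁻¹ from hf ⟨x, hx⟩, ha.map_conj hg (hP hx)]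
      comp_mem := by
        intro P R φ ψ h1 h2 hh
        refine ⟨G.comp_mem h1.1 h2.1 hh, fun f hf => ?_⟩
        obtain ⟨u, hu, hue⟩ := exists_mor h1.1 rfl
        obtain ⟨w, -, hwe⟩ := exists_mor h2.1 rfl
        obtain ⟨P', hPP', Q₁, hQ₁⟩ := h1.2 u hue
        obtain ⟨R', hRR', R₂, hR₂⟩ := h2.2 w hwe
        have hQ₁R' : Q₁ ≤ R' := by
          intro z hz
          obtain ⟨y, hy, rfl⟩ := hQ₁.surj hz
          obtain ⟨x, hx, rfl⟩ := hPP'.surj hy
          rw [hba x (hu.le_left hx), show u x = φ ⟨x, hx⟩ from hue ⟨x, hx⟩]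
          exact hRR'.map_mem (hh _)
        obtain ⟨Q₂, -, hQ₂⟩ := hR₂.restrict hQ₁R'
        refine ⟨P', hPP', Q₂, (hQ₂.comp hQ₁).congr fun y hy => ?_⟩
        obtain ⟨x, hx, rfl⟩ := hPP'.surj hy
        show a (w (b (a (u (b (a x)))))) = a (f (b (a x)))
        rw [hba x (hu.le_left hx), hba _ (hu.le_right (hu.map_mem hx)), show u x = φ ⟨x, hx⟩ from hue ⟨x, hx⟩,
          show w (φ ⟨x, hx⟩) = _ from hwe ⟨_, hh _⟩, show f x = _ from hf ⟨x, hx⟩]
        rfl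
      inv_mem := by
        intro P φ hφ
        refine ⟨invHom φ (G.injective_of_mem hφ.1), ⟨invHom_mem hφ.1, fun f hf => ?_⟩,
          fun x => invHom_apply φ _ x _⟩
        obtain ⟨u, hu, hue⟩ := exists_mor hφ.1 rfl
        obtain ⟨P', hPP', Q₁, hQ₁⟩ := hφ.2 u hue
        obtain ⟨g, hg, hgu, -⟩ := hQ₁.exists_inv
        have hR : Mor F φ.range Q₁ a := by
          refine ha.restrict_eq hu.le_right (fun y hy => ?_) fun z hz => ?_
          · obtain ⟨x, hx, rfl⟩ := hu.surj hy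
            have := hQ₁.map_mem (hPP'.map_mem hx)
            rwa [hba x (hu.le_left hx)] at this
          · obtain ⟨w, hw, rfl⟩ := hQ₁.surj hz
            obtain ⟨x, hx, rfl⟩ := hPP'.surj hw
            exact ⟨u x, hu.map_mem hx, by rw [hba x (hu.le_left hx)]⟩
        refine ⟨Q₁, hR, P', hg.congr fun z hz => ?_⟩
        obtain ⟨y, hy, rfl⟩ := hQ₁.surj hz
        rw [hgu y hy]
        obtain ⟨x, hx, rfl⟩ := hPP'.surj hy
        rw [hba x (hu.le_left hx), hba _ (hu.le_right (hu.map_mem hx)), show u x = φ ⟨x, hx⟩ from hue ⟨x, hx⟩,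
          show f (φ ⟨x, hx⟩) = x from (hf ⟨_, ⟨_, rfl⟩⟩).trans (invHom_apply φ _ ⟨x, hx⟩ _)] }
  obtain ⟨φ, hφ, -, hv⟩ := hf
  obtain ⟨P', hPP', Q', hQ'⟩ := (hφ.2 D fun R ψ hψ => by
    refine ⟨hψ.1, fun g hg => ?_⟩
    obtain ⟨hψF, hR, g', hg', hd⟩ := hψ
    have hgm : Mor G R ψ.range g := ⟨ψ, hψF, rfl, fun x => (hg x).symm⟩
    obtain ⟨R', R'', hRR', -, hgm'⟩ := mor_transport hGsi ha hba hgm
    have hR0 : Mor F (R ⊓ T) (R' ⊓ T) a := by
      refine ha.restrict_eq (inf_le_right.trans h.top_le)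
        (fun x hx => ⟨hRR'.map_mem hx.1, haT.map_mem hx.2⟩) fun z hz => ?_
      obtain ⟨x, hx, hxz⟩ := hRR'.surj hz.1
      obtain ⟨t, ht, htz⟩ := haT.surj hz.2
      have : x = t := ha.injOn (hgm.le_left hx) (h.top_le ht) (hxz.trans htz.symm)
      exact ⟨x, ⟨hx, this ▸ ht⟩, hxz⟩
    have hgood : GoodPair G E R' := by
      refine ⟨centric_transport hGsi ha hb hba hab hR.1 hRR', ?_⟩
      obtain ⟨ζ, hζ, hζr, -⟩ := id hR0
      exact hζr ▸ H94.centric_range_of_invariant hEI hR.2 hζ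
    refine ⟨R', hRR', R'', mor_charSystem hgood hgm' ?_⟩
    obtain ⟨a₀, e, Z, ha₀, hc₀, he, hge⟩ := hd
    obtain ⟨T₁, T₂, hT₁, hT₂, ha₀'⟩ := mor_transport hGsi ha hba ha₀
    have hT : ∀ {A : Subgroup Ω}, Mor F T A a → A = T := fun {A} hA => le_antisymm
      (fun z hz => by obtain ⟨t, ht, rfl⟩ := hA.surj hz; exact haT.map_mem ht)
      (fun z hz => by obtain ⟨t, ht, rfl⟩ := haT.surj hz; exact hA.map_mem ht)
    rw [hT hT₁, hT hT₂] at ha₀'
    obtain ⟨Z₁, Z₂, hZ₁, -, he'⟩ := mor_transport hEsi haT (fun x hx => hba x (h.top_le hx)) he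
    have hX : Z₁ = R' ⊓ T := le_antisymm
      (fun z hz => by obtain ⟨t, ht, rfl⟩ := hZ₁.surj hz; exact hR0.map_mem ht)
      (fun z hz => by obtain ⟨t, ht, rfl⟩ := hR0.surj hz; exact hZ₁.map_mem ht)
    rw [hX] at he'
    refine ⟨_, _, Z₂, ha₀', ?_, he', fun y hy => ?_⟩
    · obtain ⟨β, hβ, hβe⟩ := hc₀
      obtain ⟨α, hα, hαe⟩ := haT.exists_aut
      obtain ⟨γ, hγ, hγe⟩ := ha₀'.exists_aut
      have e' : γ = α * (β : MulAut T) * α⁻¹ := by
        refine MulEquiv.ext fun x => ?_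
        obtain ⟨t, rfl⟩ := α.surjective x
        refine Subtype.ext ?_
        rw [MulAut.mul_apply, MulAut.mul_apply, MulAut.inv_apply_self, hγe, hαe, hαe, hβe,
          hba _ (h.top_le t.2)]
      subst e'
      exact ⟨⟨_, hγ⟩, hχ α hα β hγ hβ, fun x => hγe x⟩
    · obtain ⟨x, hx, rfl⟩ := hR0.surj hy
      show a (g (b (a x))) = a (a₀ (b (a (e (b (a x))))))
      have hxU : x ∈ U := h.top_le hx.2
      rw [hba x hxU, hba (e x) (h.top_le (he.le_right (he.map_mem hx))),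
        ← hge x hx]
      exact congrArg a ((hg ⟨x, hx.1⟩).trans (hg' ⟨x, hx.1⟩).symm)).2 f fun x => (hv x).symm
  refine ⟨P', Q', _, hPP', hQ', fun x hx => ?_⟩
  show a (f (b (a x))) = a (f x)
  rw [hba x ((G.le_of_mem hφ.1).1 hx)]

end Cfsg.Agent.H96
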