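import Cfsg.Agent.H35.ThompsonA
import Cfsg.Agent.H93.Basic
import Cfsg.Agent.H94.SatBasic
import Cfsg.Agent.H24.PGroupBasic

/-!
`Z(J(P))` for finite subgroups of an arbitrary group.
-/
set_option autoImplicit false

namespace Cfsg.Agent.H96

open Cfsg Cfsg.FusionSystem

variable {Ω : Type*} [Group Ω] {S : Subgroup Ω}

/-- `Z(J(P))` computed inside a subgroup containing `P`. -/
theorem map_centerThompsonAOf_subgroupOf {N P : Subgroup Ω} (h : P ≤ N) :
    (centerThompsonAOf (P.subgroupOf N)).map N.subtype = centerThompsonAOf P := by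
  rw [H35.map_centerThompsonAOf _ _ N.subtype_injective.injOn, Subgroup.subgroupOf_map_subtype,
    inf_of_le_left h]

theorem centerThompsonAOf_subgroupOf {N P : Subgroup Ω} (h : P ≤ N) :
    (centerThompsonAOf P).subgroupOf N = centerThompsonAOf (P.subgroupOf N) := by
  rw [← map_centerThompsonAOf_subgroupOf h]
  exact Subgroup.comap_map_eq_self_of_injective N.subtype_injective _

/-- An injective homomorphism carries `Z(J(P))` to `Z(J)` of the image. -/
theorem map_centerThompsonAOf_hom {H : Type*} [Group H] {N P : Subgroup Ω} {φ : N →* H}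
    (hφ : Function.Injective φ) (h : P ≤ N) :
    ((centerThompsonAOf P).subgroupOf N).map φ = centerThompsonAOf ((P.subgroupOf N).map φ) := by
  rw [centerThompsonAOf_subgroupOf h, H35.map_centerThompsonAOf _ _ hφ.injOn]

/-- Maps preserving `P` preserve `Z(J(P))`. -/
theorem apply_mem_centerThompsonAOf {N P : Subgroup Ω} {φ : N →* Ω} (hφ : Function.Injective φ)
    (h : P ≤ N) (hP : (P.subgroupOf N).map φ = P) {x : N} (hx : (x : Ω) ∈ centerThompsonAOf P) :
    φ x ∈ centerThompsonAOf P := by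
  have := map_centerThompsonAOf_hom hφ h
  rw [hP] at this
  rw [← this]
  exact ⟨x, Subgroup.mem_subgroupOf.2 hx, rfl⟩

theorem centerThompsonAOf_ne_bot {p : ℕ} [Fact p.Prime] [Finite S] (hS : IsPGroup p S) {P : Subgroup Ω}
    (hP : P ≤ S) (hne : P ≠ ⊥) : centerThompsonAOf P ≠ ⊥ := by
  have hne' : P.subgroupOf S ≠ ⊥ := fun e => hne <| by
    rw [← inf_of_le_left hP, ← Subgroup.subgroupOf_map_subtype, e, Subgroup.map_bot]
  have hz := H35.centerThompsonAOf_ne_bot (hS.to_subgroup (P.subgroupOf S)) hne'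
  rw [← map_centerThompsonAOf_subgroupOf hP]
  exact fun e => hz ((Subgroup.map_eq_bot_iff_of_injective _ S.subtype_injective).1 e)

/-- Elements normalizing `P ≤ S` normalize `Z(J(P))`. -/
theorem mem_normalizer_centerThompsonAOf [Finite S] {P : Subgroup Ω} (hP : P ≤ S) {g : Ω}
    (hg : g ∈ Subgroup.normalizer (P : Set Ω)) :
    g ∈ Subgroup.normalizer (centerThompsonAOf P : Set Ω) := by
  have := H93.finite_of_le ((H35.centerThompsonAOf_le P).trans hP)
  refine H94.mem_normalizer_of_forall_conj_mem fun r hr => ?_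
  have h := apply_mem_centerThompsonAOf (φ := conjHom P g) (x := ⟨r, H35.centerThompsonAOf_le P hr⟩)
    (fun a b hab => Subtype.ext (by simpa [conjHom] using hab)) le_rfl ?_ hr
  · exact h
  · ext y
    simp only [Subgroup.mem_map, Subgroup.mem_subgroupOf]
    constructor
    · rintro ⟨x, hx, rfl⟩
      exact (Subgroup.mem_normalizer_iff.1 hg x).1 hx
    · intro hy
      refine ⟨⟨g⁻¹ * y * g, ?_⟩, ?_, ?_⟩
      · exact (Subgroup.mem_normalizer_iff''.1 hg y).1 hy
      · exact (Subgroup.mem_normalizer_iff''.1 hg y).1 hy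
      · simp [conjHom, mul_assoc]

/-- A nontrivial subgroup normalized by `S` meets `Z(S)`. -/
theorem inf_center_ne_bot' {p : ℕ} [Fact p.Prime] [Finite S] (hS : IsPGroup p S) {P : Subgroup Ω}
    (hP : P ≤ S) (hn : S ≤ Subgroup.normalizer (P : Set Ω)) (hne : P ≠ ⊥) :
    P ⊓ Subgroup.centralizer (S : Set Ω) ≠ ⊥ := by
  have hne' : P.subgroupOf S ≠ ⊥ := fun e => hne <| by
    rw [← inf_of_le_left hP, ← Subgroup.subgroupOf_map_subtype, e, Subgroup.map_bot]
  have : (P.subgroupOf S).Normal := Subgroup.normal_subgroupOf_iff_le_normalizer hP |>.2 hn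
  intro e
  refine H24.inf_center_ne_bot hS hne' (eq_bot_iff.2 fun x hx => ?_)
  have hx' : (x : Ω) ∈ P ⊓ Subgroup.centralizer (S : Set Ω) :=
    ⟨Subgroup.mem_subgroupOf.1 hx.1, fun s hs =>
      congrArg Subtype.val (Subgroup.mem_center_iff.1 hx.2 ⟨s, hs⟩)⟩
  rw [e, Subgroup.mem_bot] at hx'
  exact Subgroup.mem_bot.2 (Subtype.ext hx')

end Cfsg.Agent.H96
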