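import Cfsg.Agent.H96.CoreCenter

/-!
The centre of a fusion system as a direct factor of `Z(S)` when `Z(S) ≤ O_p(F)`.
-/
set_option autoImplicit false

namespace Cfsg.Agent.H96

open Cfsg

variable {Ω : Type*} [Group Ω] {S : Subgroup Ω}

open scoped Classical in
/-- If `Z(S)` lies in a normal subgroup then the centre of the system is a direct factor of `Z(S)`. -/
theorem center_direct_factor [Finite S] {F : FusionSystem S} {p : ℕ} [Fact p.Prime] (hS : IsPGroup p S)
    (hF : F.IsSaturated p) {R : Subgroup Ω} (hR : F.IsNormal R)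
    (hZ : S ⊓ Subgroup.centralizer (S : Set Ω) ≤ R) :
    ∃ K : Subgroup Ω, K ≤ S ⊓ Subgroup.centralizer (S : Set Ω) ∧ F.center ⊓ K = ⊥ ∧
      F.center ⊔ K = S ⊓ Subgroup.centralizer (S : Set Ω) := by
  generalize hWdef : R ⊓ Subgroup.centralizer (R : Set Ω) = W
  have hW : F.IsNormal W := hWdef ▸ isNormal_center_of_normal hR
  generalize hZdef : S ⊓ Subgroup.centralizer (S : Set Ω) = Z at hZ ⊢
  have hZS : Z ≤ S := hZdef ▸ inf_le_left
  have hZW : Z ≤ W := fun z hz => by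
    rw [← hWdef]
    refine ⟨hZ hz, fun r hr => ?_⟩
    rw [← hZdef] at hz
    exact hz.2 r (hR.1 hr)
  have : Finite W := finite_of_le hW.1
  have hWab : ∀ a b : W, a * b = b * a := fun a b => Subtype.ext <| by
    have ha := a.2; have hb := b.2
    simp only [← hWdef] at ha hb
    exact hb.2 a ha.1
  let cg : CommGroup W := { (inferInstance : Group W) with mul_comm := hWab }
  let G := F.autGroup W
  let P : Subgroup G := (autInducedBy S W).subgroupOf G
  have hidx : ¬ p ∣ P.index := by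
    obtain ⟨-, T, hT⟩ := isFullyAutomized_of_normal hF hW
    show ¬ p ∣ ((autInducedBy S W).subgroupOf (F.autGroup W)).index
    rw [← hT]
    exact T.not_dvd_index
  have hPfix : ∀ γ ∈ P, ∀ (z : Ω) (hz : z ∈ Z), (γ : MulAut W) ⟨z, hZW hz⟩ = ⟨z, hZW hz⟩ := by
    intro γ hγ z hz
    obtain ⟨g, hg, hge⟩ := mem_autInducedBy.1 (Subgroup.mem_subgroupOf.1 hγ)
    apply Subtype.ext
    rw [hge]
    rw [← hZdef] at hz
    show g * z * g⁻¹ = z
    rw [hz.2 g hg, mul_inv_cancel_right]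
  have : Fintype (G ⧸ P) := Fintype.ofFinite _
  let Tr : Z →* W :=
    { toFun := fun z => ∏ c : G ⧸ P, (c.out : MulAut W) (Subgroup.inclusion hZW z)
      map_one' := by simp
      map_mul' := fun a b => by simp [Finset.prod_mul_distrib] }
  have hrep : ∀ (z : Z) (a b : G), QuotientGroup.mk (s := P) a = QuotientGroup.mk b →
      (a : MulAut W) (Subgroup.inclusion hZW z) = (b : MulAut W) (Subgroup.inclusion hZW z) := by
    intro z a b hab
    have hb : (b : MulAut W) = (a : MulAut W) * ((a⁻¹ * b : G) : MulAut W) := by simp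
    rw [hb]
    show _ = (a : MulAut W) (((a⁻¹ * b : G) : MulAut W) ⟨z, hZW z.2⟩)
    rw [hPfix _ (QuotientGroup.eq.1 hab) z z.2]
    rfl
  have hfix : ∀ (z : Z) (γ : G), (γ : MulAut W) (Tr z) = Tr z := by
    intro z γ
    show (γ : MulAut W) (∏ c : G ⧸ P, _) = ∏ c : G ⧸ P, _
    rw [map_prod]
    refine Fintype.prod_equiv (MulAction.toPerm γ) _ _ fun c => ?_
    show (γ : MulAut W) ((c.out : MulAut W) _) = ((γ • c).out : MulAut W) _
    rw [show ((γ : MulAut W) ((c.out : MulAut W) (Subgroup.inclusion hZW z))) =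
      ((γ * c.out : G) : MulAut W) (Subgroup.inclusion hZW z) from rfl]
    refine hrep z _ _ ?_
    rw [QuotientGroup.out_eq']
    conv_rhs => rw [← QuotientGroup.out_eq' c]
    rfl
  have hcen : ∀ w : W, (∀ γ : G, (γ : MulAut W) w = w) → (w : Ω) ∈ F.center := by
    intro w hw
    have hC : F.IsCentral (Subgroup.zpowers (w : Ω)) := by
      refine ⟨Subgroup.zpowers_le.2 (hW.1 w.2), fun Q φ hφ => ?_⟩
      obtain ⟨ψ, hψ, h1, h2⟩ := exists_ext_of_normal hW hφ
      obtain ⟨α, hα, hαe⟩ := exists_autGroup_of_mem F (res_mem F hψ le_sup_right) h2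
      have hle : Q ⊔ Subgroup.zpowers (w : Ω) ≤ Q ⊔ W := sup_le_sup_left (Subgroup.zpowers_le.2 w.2) _
      refine ⟨res ψ hle, res_mem F hψ hle, fun x => h1 x, ?_⟩
      rintro ⟨y, hy⟩
      obtain ⟨i, rfl⟩ := Subgroup.mem_zpowers_iff.1 hy
      show ψ ⟨(w : Ω) ^ i, _⟩ = (w : Ω) ^ i
      have h3 := hαe (w ^ i)
      rw [map_zpow, hw ⟨α, hα⟩] at h3
      exact h3.symm.trans (by simp)
    exact (le_sSup hC : Subgroup.zpowers (w : Ω) ≤ F.center) (Subgroup.mem_zpowers _)
  obtain ⟨k, hk⟩ := exists_pow_inverse (hS.to_le hW.1) hidx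
  have hcenZ : F.center ≤ Z := hZdef ▸ center_le F
  have hTrc : ∀ (z : Z), (z : Ω) ∈ F.center → Tr z = (Subgroup.inclusion hZW z) ^ P.index := by
    intro z hz
    show ∏ c : G ⧸ P, _ = _
    rw [Finset.prod_eq_pow_card (b := Subgroup.inclusion hZW z), Finset.card_univ,
      Fintype.card_eq_nat_card, Subgroup.index]
    intro c _
    exact Subtype.ext (apply_center F ((mem_autGroup F hW.1).1 (c.out : G).2)
      (x := Subgroup.inclusion hZW z) hz)
  refine ⟨Tr.ker.map Z.subtype, Subgroup.map_subtype_le _, ?_, ?_⟩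
  · rw [eq_bot_iff]
    rintro _ ⟨hc, z, hz, rfl⟩
    have h := hTrc z hc
    rw [show Tr z = 1 from hz] at h
    have h2 := hk (Subgroup.inclusion hZW z)
    rw [← h, one_pow] at h2
    rw [Subgroup.mem_bot]
    exact (congrArg (fun w : W => (w : Ω)) h2).symm
  · refine le_antisymm (sup_le hcenZ (Subgroup.map_subtype_le _)) fun z hz => ?_
    have hcmem : ((Tr ⟨z, hz⟩ : W) : Ω) ^ k ∈ F.center := Subgroup.pow_mem _ (hcen _ (hfix _)) k
    have hTr' : Tr ⟨_, hcenZ hcmem⟩ = Tr ⟨z, hz⟩ := by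
      rw [hTrc _ hcmem]
      have h := hk (Tr ⟨z, hz⟩)
      rw [← pow_mul, mul_comm, pow_mul] at h
      conv_rhs => rw [← h]
      rfl
    rw [show z = ((Tr ⟨z, hz⟩ : W) : Ω) ^ k * ((((Tr ⟨z, hz⟩ : W) : Ω) ^ k)⁻¹ * z) by group]
    refine Subgroup.mul_mem_sup hcmem ⟨⟨_, hcenZ hcmem⟩⁻¹ * ⟨z, hz⟩, ?_, rfl⟩
    show Tr _ = 1
    rw [map_mul, map_inv, hTr', inv_mul_cancel]

end Cfsg.Agent.H96
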