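import Cfsg.Agent.H96.InvariantTrans
import Cfsg.Agent.H94.ResidualLimit
import Cfsg.Agent.H94.SatTools
import Cfsg.Agent.H95.StrongClosed
import Cfsg.Agent.H93.InnerTools
import Cfsg.Agent.S5199

/-!
The step to a subsystem of `p`-power index shrinking the automizer of the base of a normal subsystem.
-/

set_option autoImplicit false

namespace Cfsg.Agent.H96

open Cfsg Cfsg.FusionSystem Cfsg.Agent.H93

universe u

variable {Ω : Type u} [Group Ω] {S T U V : Subgroup Ω} {p : ℕ}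

/-- Conjugates under the ambient system of automorphisms in an invariant subsystem stay in it. -/
theorem congr_mem_of_stronglyInvariant {F : FusionSystem S} {G : FusionSystem U}
    (hsi : H94.StronglyInvariant G F) {P Q : Subgroup Ω} (hPU : P ≤ U) (hQU : Q ≤ U) {φ : P →* Ω}
    (hφ : φ ∈ F.Hom P) (hr : φ.range = Q) {α : MulAut P} (hα : α ∈ G.autGroup P) :
    MulAut.congr (H94.homEquiv φ (F.injective_of_mem hφ) hr) α ∈ G.autGroup Q := by
  obtain ⟨χ, hχ, hχe⟩ := hsi P P le_rfl hPU (P.subtype.comp α.toMonoidHom) ((mem_autGroup G hPU).1 hα)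
    (fun x => (α x).2) φ hφ
  have heq : (P.subgroupOf P).map φ = Q := by
    rw [← hr, MonoidHom.range_eq_map, Subgroup.subgroupOf_self]
  refine (mem_autGroup G hQU).2 (H93.mem_of_eq hχ heq.symm fun y hy hy' => ?_)
  obtain ⟨x, hx⟩ : y ∈ φ.range := hr.symm ▸ hy
  subst hx
  set e := H94.homEquiv φ (F.injective_of_mem hφ) hr
  show ((MulAut.congr e α ⟨φ x, hy⟩ : Q) : Ω) = _
  rw [show (⟨φ x, hy⟩ : Q) = e x from Subtype.ext rfl,
    show MulAut.congr e α (e x) = e (α x) by simp [MulAut.congr]]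
  exact (hχe x hy').symm

/-- A subgroup `U` containing `C_S(T)` has the same centralizer of `T`. -/
theorem centralizerIn_eq_of_le (hUS : U ≤ S) (h : centralizerIn S T ≤ U) :
    centralizerIn U T = centralizerIn S T :=
  le_antisymm (fun _ hx => ⟨hUS hx.1, hx.2⟩) fun _ hx => ⟨h hx, hx.2⟩

variable {F : FusionSystem S} {E : FusionSystem T}

/-- A subsystem of `p`-power index is stable under the automorphisms stabilizing its base. -/
theorem autStable_pPowerIndex [Finite S] [Fact p.Prime] (hS : IsPGroup p S) {G : FusionSystem U}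
    (hGI : G.IsInvariantIn F) (hVU : V ≤ U) {D : FusionSystem V} (hDs : D.IsSaturated p)
    (hDi : D.HasPPowerIndexIn G p) (hstab : ∀ a : Ω → Ω, Mor F U U a → ∀ x ∈ V, a x ∈ V) :
    AutStable F U D := by
  have hVS : V ≤ S := hVU.trans hGI.2.1.1
  have hVp : IsPGroup p V := hS.to_le hVS
  have := finite_of_le hVS
  have hGsi := H94.stronglyInvariant_of_invariant hGI
  intro a ha
  have haV := hstab a ha
  refine ⟨haV, fun P Q f hf => ?_⟩
  obtain ⟨φ, hφ, hr, hv⟩ := hf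
  suffices h : ∃ (P' Q' : Subgroup Ω) (g : Ω → Ω), Mor F P P' a ∧ Mor D P' Q' g ∧
      ∀ x : P, g (a x) = a (φ x) by
    obtain ⟨P', Q', g, h1, h2, h3⟩ := h
    exact ⟨P', Q', g, h1, h2, fun x hx => (h3 ⟨x, hx⟩).trans (congrArg a (hv ⟨x, hx⟩))⟩
  refine H94.alperin_induction hVp hDs (fun P φ => ∃ (P' Q' : Subgroup Ω) (g : Ω → Ω),
    Mor F P P' a ∧ Mor D P' Q' g ∧ ∀ x : P, g (a x) = a (φ x)) ?_ ?_ ?_ hφ
  · rintro P R h φ - ⟨P', Q', g, h1, h2, h3⟩
    obtain ⟨R', hR', hRR'⟩ := h1.restrict h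
    obtain ⟨Q'', -, hg⟩ := h2.restrict hR'
    exact ⟨R', Q'', g, hRR', hg, fun x => h3 ⟨x, h x.2⟩⟩
  · rintro P R φ ψ hφ hψ ⟨P', Q₁, g₁, h1, h2, h3⟩ ⟨R', Q₂, g₂, k1, k2, k3⟩ hh
    have hle : Q₁ ≤ R' := by
      intro z hz
      obtain ⟨w, hw, rfl⟩ := h2.surj hz
      obtain ⟨x, hx, rfl⟩ := h1.surj hw
      rw [h3 ⟨x, hx⟩]
      exact k1.map_mem (hh _)
    obtain ⟨Q₃, -, hg₂⟩ := k2.restrict hle
    refine ⟨P', Q₃, fun z => g₂ (g₁ z), h1, hg₂.comp h2, fun x => ?_⟩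
    show g₂ (g₁ (a x)) = _
    rw [h3]
    exact k3 ⟨φ x, hh x⟩
  · intro W hW _ _ c hc
    have hWV : W ≤ V := hW.1
    have hWU : W ≤ U := hWV.trans hVU
    obtain ⟨W', hW'U, hWW'⟩ := ha.restrict hWU
    have hW'V : W' ≤ V := fun z hz => by
      obtain ⟨x, hx, rfl⟩ := hWW'.surj hz
      exact haV x (hWV hx)
    obtain ⟨φa, hφa, hφar, hφav⟩ := id hWW'
    set e := H94.homEquiv φa (F.injective_of_mem hφa) hφar
    have hev : ∀ x : W, ((e x : W') : Ω) = a x := fun x => hφav x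
    obtain ⟨hA, -⟩ := H94.fullyNormalized_spec hVp hDs hW
    obtain ⟨k, hk, b, hb, rfl⟩ := H94.exists_pResidual_mul_of_fullyAutomized hA hc
    obtain ⟨v, hv, hve⟩ := mem_autInducedBy.1 hb
    have hle : D.autGroup W ≤ G.autGroup W := fun d hd =>
      (mem_autGroup G hWU).2 (hDi.1 W ((mem_autGroup D hWV).1 hd))
    let tr : D.autGroup W →* G.autGroup W' :=
      ((MulAut.congr e).toMonoidHom.comp (D.autGroup W).subtype).codRestrict _
        fun d => congr_mem_of_stronglyInvariant hGsi hWU hW'U hφa hφar (hle d.2)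
    obtain ⟨κ, hκ, rfl⟩ := hk
    have h1 : MulAut.congr e (κ : MulAut W) ∈ D.autGroup W' :=
      hDi.2.2 W' hW'V ⟨tr κ, H50.map_pResidual_le p tr ⟨κ, hκ, rfl⟩, rfl⟩
    have h2 : MulAut.congr e b ∈ D.autGroup W' :=
      (mem_autGroup D hW'V).2 (mem_congr D (D.conj_mem hW'V (haV v hv)) fun y => by
        obtain ⟨x, rfl⟩ := e.surjective y
        show ((MulAut.congr e b (e x) : W') : Ω) = a v * ((e x : W') : Ω) * (a v)⁻¹
        rw [show MulAut.congr e b (e x) = e (b x) by simp [MulAut.congr], hev, hev, hve,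
          ha.map_conj (hVU hv) (hWU x.2)])
    obtain ⟨g, hg, hge⟩ := exists_mor_of_aut hW'V (mul_mem h1 h2)
    refine ⟨W', W', g, hWW', hg, fun x => ?_⟩
    rw [← hev, hge, MulAut.mul_apply, show MulAut.congr e b (e x) = e (b x) by simp [MulAut.congr],
      show MulAut.congr e (κ : MulAut W) (e (b x)) = e ((κ : MulAut W) (b x)) by simp [MulAut.congr], hev]
    rfl

/-- The step. -/
theorem exists_pPower_step [Finite S] [Fact p.Prime] (hS : IsPGroup p S)
    {G : FusionSystem U} (hG : G.IsWeaklyNormalIn F p) (hTU : T ⊔ centralizerIn S T ≤ U)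
    (hE : E.IsNormalIn G p) {N : Subgroup (MulAut T)} (hEN : E.autGroup T ≤ N)
    (hON : (pResidual p (G.autGroup T)).map (G.autGroup T).subtype ≤ N)
    (hN : ∀ a ∈ F.autGroup T, ∀ k ∈ N, a * k * a⁻¹ ∈ N) (hTF : F.StronglyClosed T) :
    ∃ (V : Subgroup Ω) (D : FusionSystem V), T ⊔ centralizerIn S T ≤ V ∧ D.IsWeaklyNormalIn F p ∧
      E.IsNormalIn D p ∧ D.IsSubsystemOf G ∧ D.autGroup T ≤ N ∧
      ∀ (L L' : Subgroup Ω) (Ginf : FusionSystem L) (Dinf : FusionSystem L'), Ginf.IsResidualLimitOf G p →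
        Dinf.IsResidualLimitOf D p → ∀ P : Subgroup Ω, Ginf.Hom P = Dinf.Hom P := by
  obtain ⟨hGs, hF, hGI⟩ := id hG
  have hUS : U ≤ S := hGI.2.1.1
  have := finite_of_le hUS
  have hU : IsPGroup p U := hS.to_le hUS
  have hTU' : T ≤ U := le_sup_left.trans hTU
  have hTS : T ≤ S := hTU'.trans hUS
  have := finite_of_le hTS
  have hTG : G.StronglyClosed T := hE.1.2.2.2.1
  have hUnT : U ≤ Subgroup.normalizer (T : Set Ω) := H94.le_normalizer_of_stronglyClosed hTG
  have hInn : ∀ t ∈ T, ∀ α : MulAut T, (∀ x : T, ((α x : T) : Ω) = t * (x : Ω) * t⁻¹) → α ∈ N :=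
    fun t ht α hα => hEN (autInducedBy_le_autGroup E le_rfl (mem_autInducedBy.2 ⟨t, ht, hα⟩))
  -- the subgroup of `U` acting inside `N`
  obtain ⟨V, hV⟩ : ∃ V : Subgroup Ω, ∀ u, u ∈ V ↔ u ∈ U ∧ ∃ α ∈ N, ∀ x : T,
      ((α x : T) : Ω) = u * (x : Ω) * u⁻¹ := by
    refine ⟨{ carrier := {u | u ∈ U ∧ ∃ α ∈ N, ∀ x : T, ((α x : T) : Ω) = u * (x : Ω) * u⁻¹}
              one_mem' := ⟨U.one_mem, 1, N.one_mem, fun x => by simp⟩
              mul_mem' := ?_
              inv_mem' := ?_ }, fun u => Iff.rfl⟩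
    · rintro u v ⟨hu, α, hα, hαe⟩ ⟨hv, β, hβ, hβe⟩
      refine ⟨U.mul_mem hu hv, α * β, N.mul_mem hα hβ, fun x => ?_⟩
      rw [MulAut.mul_apply, hαe, hβe]
      group
    · rintro u ⟨hu, α, hα, hαe⟩
      refine ⟨U.inv_mem hu, α⁻¹, N.inv_mem hα, fun x => ?_⟩
      have h := hαe (α⁻¹ x)
      rw [MulAut.apply_inv_self] at h
      rw [h]
      group
  have hVU : V ≤ U := fun u hu => ((hV u).1 hu).1
  have hVS : V ≤ S := hVU.trans hUS
  have hTCV : T ⊔ centralizerIn S T ≤ V := by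
    refine sup_le (fun t ht => (hV t).2 ⟨hTU' ht, ?_⟩) (fun c hc => (hV c).2 ⟨hTU (Subgroup.mem_sup_right hc),
      1, N.one_mem, fun x => ?_⟩)
    · obtain ⟨α, -, hαe⟩ := H94.exists_autInducedBy (K := T) ht (Subgroup.le_normalizer ht)
      exact ⟨α, hInn t ht α hαe, hαe⟩
    · show (x : Ω) = c * (x : Ω) * c⁻¹
      rw [← hc.2 x x.2, mul_inv_cancel_right]
  have hTV : T ≤ V := le_sup_left.trans hTCV
  have hAGF : G.autGroup T ≤ F.autGroup T := fun a ha =>
    (mem_autGroup F hTS).2 (hGI.1 T ((mem_autGroup G hTU').1 ha))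
  have hVn : ∀ u ∈ U, ∀ v ∈ V, u * v * u⁻¹ ∈ V := by
    intro u hu v hv
    obtain ⟨hvU, α, hα, hαe⟩ := (hV v).1 hv
    obtain ⟨c, hc, hce⟩ := H94.exists_autInducedBy (K := U) hu (hUnT hu)
    refine (hV _).2 ⟨U.mul_mem (U.mul_mem hu hvU) (U.inv_mem hu), c * α * c⁻¹,
      hN c (hAGF (autInducedBy_le_autGroup G hTU' hc)) α hα, fun x => ?_⟩
    have h : u * (((c⁻¹ x : T)) : Ω) * u⁻¹ = (x : Ω) := by rw [← hce, MulAut.apply_inv_self]
    rw [MulAut.mul_apply, MulAut.mul_apply, hce, hαe, ← h]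
    group
  have hhyp : G.hyperfocalSubgroup p ≤ V := by
    intro x hx
    obtain ⟨α, hα, hαe⟩ := H95.hyperfocal_automizer hU hGs hTG x hx
    refine (hV x).2 ⟨H94.hyperfocal_le G p hx, α, sup_le hON ?_ hα, hαe⟩
    intro β hβ
    obtain ⟨t, ht, hte⟩ := mem_inn_iff.1 hβ
    exact hInn t ht β hte
  obtain ⟨D, hDs, hDi⟩ := H94.exists_pPowerIndex hU hGs hVU hhyp
  have hDn : D.IsNormalIn G p := H94.pPowerIndex_isNormalIn hU hGs hVU hVn hDs hDi
  have := finite_of_le hVS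
  have hVp : IsPGroup p V := hS.to_le hVS
  have hGsi := H94.stronglyInvariant_of_invariant hGI
  -- stability under the automorphisms of `U`
  have hst : AutStable F U D := autStable_pPowerIndex hS hGI hVU hDs hDi fun a ha => by
    have haT : Mor F T T a := by
      obtain ⟨φ, hφ, -, hv⟩ := ha
      refine ⟨res φ hTU', res_mem F hφ hTU', range_eq_of_forall_mem F (res_mem F hφ hTU')
        (hTF.2 T le_rfl _ (res_mem F hφ hTU')), fun x => hv _⟩
    have haV : ∀ x ∈ V, a x ∈ V := by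
      intro v hv
      obtain ⟨hvU, α, hα, hαe⟩ := (hV v).1 hv
      obtain ⟨β, hβ, hβe⟩ := haT.exists_aut
      refine (hV _).2 ⟨ha.map_mem hvU, β * α * β⁻¹, hN β hβ α hα, fun x => ?_⟩
      obtain ⟨y, hy⟩ : ∃ y, β y = x := β.surjective x
      subst hy
      rw [MulAut.mul_apply, MulAut.mul_apply, MulAut.inv_apply_self, hβe, hαe, hβe,
        ha.map_conj hvU (hTU' y.2)]
    exact haV
  have hDI : D.IsInvariantIn F := invariant_trans hS hF hGI hDn.1.2.2 hst
  have hDn' : D.IsWeaklyNormalIn F p := ⟨hDs, hF, hDI⟩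
  -- `E` is normal in `D`
  have hED : E.IsSubsystemOf D :=
    S5199.result p hU G hGs E hE D hDn (sup_le hTV hhyp) hDi
  have hTD : D.StronglyClosed T :=
    ⟨hTV, fun R hR φ hφ x => hTG.2 R hR φ (hDi.1 R hφ) x⟩
  have hEI : E.IsInvariantIn D := (H94.invariant_iff_stronglyInvariant hVp hDs hED hTD).2
    fun P Q hPQ hQT φ hφ hφQ ψ hψ =>
      H94.stronglyInvariant_of_invariant hE.1.2.2 P Q hPQ hQT φ hφ hφQ ψ (hDi.1 Q hψ)
  have hEn : E.IsNormalIn D p := by
    refine ⟨⟨hE.1.1, hDs, hEI⟩, fun α hα => ?_⟩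
    have eC : centralizerIn V T = centralizerIn U T := by
      rw [centralizerIn_eq_of_le hVS (le_sup_right.trans hTCV),
        centralizerIn_eq_of_le hUS (le_sup_right.trans hTU)]
    suffices key : ∀ C' : Subgroup Ω, C' = centralizerIn U T → ∃ β ∈ D.autGroup (T ⊔ C'),
        (∀ x : T, ((β (Subgroup.inclusion le_sup_left x) : ↥(T ⊔ C')) : Ω) = ((α x : T) : Ω)) ∧
        ∀ c : ↥(T ⊔ C'), (c : Ω) ∈ C' →
          (c : Ω)⁻¹ * ((β c : ↥(T ⊔ C')) : Ω) ∈ T ⊓ Subgroup.centralizer (T : Set Ω) from key _ eC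
    rintro C' rfl
    obtain ⟨β, hβ, hβT, hβC⟩ := hE.2 α hα
    refine ⟨β, ?_, hβT, hβC⟩
    set W := T ⊔ centralizerIn U T with hW
    have hWU : W ≤ U := sup_le hTU' inf_le_left
    have hWV : W ≤ V := by rw [hW, ← eC]; exact sup_le hTV inf_le_left
    have hCn : U ≤ Subgroup.normalizer (centralizerIn U T : Set Ω) := fun u hu => by
      have := finite_of_le (show centralizerIn U T ≤ S from inf_le_left.trans hUS)
      refine H94.mem_normalizer_of_forall_conj_mem fun x hx => ⟨U.mul_mem (U.mul_mem hu hx.1) (U.inv_mem hu), fun t ht => ?_⟩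
      have h1 : u⁻¹ * t * u ∈ T := by
        have := (Subgroup.mem_normalizer_iff.1 (hUnT (U.inv_mem hu)) t).1 ht
        simpa using this
      have h2 := hx.2 _ h1
      calc t * (u * x * u⁻¹) = u * ((u⁻¹ * t * u) * x) * u⁻¹ := by group
        _ = u * (x * (u⁻¹ * t * u)) * u⁻¹ := by rw [h2]
        _ = u * x * u⁻¹ * t := by group
    have hWn : normalizerIn U W = U :=
      le_antisymm inf_le_left (le_inf le_rfl fun u hu => by
        have h1 := hUnT hu
        have h2 := hCn hu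
        exact Subgroup.normalizer_inf_normalizer_le_normalizer_sup _ _ ⟨h1, h2⟩)
    obtain ⟨hA, -⟩ := H94.fullyNormalized_spec hU hGs
      (H93.isFullyNormalized_of_normalized (F := G) hWU hWn)
    obtain ⟨k, hk, b, hb, rfl⟩ := H94.exists_pResidual_mul_of_fullyAutomized hA hβ
    obtain ⟨u, hu, hue⟩ := mem_autInducedBy.1 hb
    have hkD := hDi.2.2 W hWV hk
    refine mul_mem hkD ((mem_autGroup D hWV).2 (mem_congr D (D.conj_mem hWV ?_) fun x => hue x))
    -- `u ∈ V`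
    obtain ⟨k', hk', hk'e⟩ := H94.exists_pResidual_restrict (p := p) (F := G) (le_sup_left : T ≤ W) hWU
      (fun a ha x hx => H94.apply_mem_of_stronglyClosed hTG ((mem_autGroup G hWU).1 ha) hx) hk
    obtain ⟨γ, -, hγe⟩ := H94.exists_autInducedBy (K := U) hu (hUnT hu)
    refine (hV u).2 ⟨hu, γ, ?_, hγe⟩
    have e : γ = k'⁻¹ * α := by
      refine MulEquiv.ext fun x => k'.injective ?_
      rw [MulAut.mul_apply, MulAut.apply_inv_self]
      refine Subtype.ext ?_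
      rw [← hβT x, MulAut.mul_apply, hk'e]
      refine congrArg (fun z : W => ((k z : W) : Ω)) (Subtype.ext ?_)
      rw [hue]
      exact hγe x
    rw [e]
    exact N.mul_mem (N.inv_mem (hON hk')) (hEN hα)
  -- the automizer of `T`
  have hDT : D.autGroup T ≤ N := by
    intro a ha
    obtain ⟨hA, -⟩ := H94.fullyNormalized_spec hVp hDs
      (H93.isFullyNormalized_of_normalized (F := D) hTV
        (le_antisymm inf_le_left (le_inf le_rfl (hVU.trans hUnT))))
    obtain ⟨k, hk, b, hb, rfl⟩ := H94.exists_pResidual_mul_of_fullyAutomized hA ha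
    obtain ⟨κ, hκ, rfl⟩ := hk
    have hle : D.autGroup T ≤ G.autGroup T := fun d hd =>
      (mem_autGroup G hTU').2 (hDi.1 T ((mem_autGroup D hTV).1 hd))
    obtain ⟨v, hv, hve⟩ := mem_autInducedBy.1 hb
    obtain ⟨-, β, hβ, hβe⟩ := (hV v).1 hv
    refine N.mul_mem (hON ⟨Subgroup.inclusion hle κ, H50.map_pResidual_le p _ ⟨κ, hκ, rfl⟩, rfl⟩) ?_
    rwa [show b = β from MulEquiv.ext fun x => Subtype.ext ((hve x).trans (hβe x).symm)]
  refine ⟨V, D, hTCV, hDn', hEn, hDi.1, hDT, fun L L' Ginf Dinf h1 h2 => ?_⟩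
  exact H94.limit_eq_of_pPowerIndex hU hGs hDn.1.2.2.2.1 hDs hDi h1 h2

end Cfsg.Agent.H96
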