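import Cfsg.Agent.H96.Transfer
import Cfsg.Agent.H94.SatBasic
import Cfsg.Agent.H22.PResidual
import Cfsg.Agent.H24.PGroupBasic

/-!
Tate's theorem for saturated fusion systems.
-/
set_option autoImplicit false

namespace Cfsg.Agent.H96

open Cfsg
open scoped commutatorElement

variable {Ω : Type*} [Group Ω] {S : Subgroup Ω}

attribute [local instance] Fintype.ofFinite

/-- Left translation on the orbits of right translations. -/
instance leftOrbitAction (a : Subgroup (S × S) → ℕ) : MulAction S (RightOrbits a) where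
  smul u := Quotient.lift (fun x : Pts a => cls (((u, (1 : S)) : S × S) • x))
    (fun (x : Pts a) (y : Pts a) h => by
      obtain ⟨v, hv⟩ := MulAction.orbitRel_apply.1 h
      have hv' : (((1 : S), v) : S × S) • y = x := hv
      refine Quotient.sound ⟨v, ?_⟩
      show (((1 : S), v) : S × S) • ((u, (1 : S)) : S × S) • y = ((u, (1 : S)) : S × S) • x
      rw [← hv', smul_smul, smul_smul]
      simp)
  one_smul t := by
    induction t using Quotient.inductionOn with
    | _ x => exact congrArg cls (one_smul (S × S) (show Pts a from x))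
  mul_smul u w t := by
    induction t using Quotient.inductionOn with
    | _ x =>
      refine congrArg cls ((congrArg (fun γ : S × S => γ • (show Pts a from x)) ?_).trans
        (mul_smul ((u, (1 : S)) : S × S) (w, (1 : S)) (show Pts a from x)))
      simp

theorem smul_cls {a : Subgroup (S × S) → ℕ} (u : S) (x : Pts a) :
    u • cls x = cls (((u, (1 : S)) : S × S) • x) := rfl

theorem cls_sel {a : Subgroup (S × S) → ℕ} (t : RightOrbits a) : cls (sel t) = t := Quotient.out_eq t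

theorem cls_right {a : Subgroup (S × S) → ℕ} (v : S) (x : Pts a) :
    cls ((((1 : S), v) : S × S) • x) = cls x :=
  Quotient.sound (s := MulAction.orbitRel S (Pull (MonoidHom.inr S S) (Pts a))) ⟨v, rfl⟩

/-- A right-invariant function is a function of the orbit. -/
theorem apply_sel_cls {a : Subgroup (S × S) → ℕ} {β : Sort*} {c : Pts a → β}
    (hc : ∀ (v : S) (x : Pts a), c ((((1 : S), v) : S × S) • x) = c x) (x : Pts a) :
    c (sel (cls x)) = c x := by
  obtain ⟨v, hv⟩ := sel_spec x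
  conv_rhs => rw [hv, hc]

variable [Finite S]

/-- Reindexing a product over orbits by a left translation. -/
theorem prod_left {a : Subgroup (S × S) → ℕ} {A : Type*} [CommMonoid A] {c : Pts a → A}
    (hc : ∀ (v : S) (x : Pts a), c ((((1 : S), v) : S × S) • x) = c x) (u : S) :
    ∏ t : RightOrbits a, c (((u, (1 : S)) : S × S) • sel t) = ∏ t : RightOrbits a, c (sel t) :=
  Fintype.prod_bijective (fun t => u • t) (MulAction.bijective u) _ _ fun t => by
    rw [show u • t = cls (((u, (1 : S)) : S × S) • sel t) by rw [← smul_cls, cls_sel],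
      apply_sel_cls hc]

/-- Reindexing a product over orbits by a permutation commuting with right translations. -/
theorem prod_perm {a : Subgroup (S × S) → ℕ} {A : Type*} [CommMonoid A] {c : Pts a → A}
    (hc : ∀ (v : S) (x : Pts a), c ((((1 : S), v) : S × S) • x) = c x) (g : rightCentralizer a) :
    ∏ t : RightOrbits a, c ((g : Equiv.Perm (Pts a)) (sel t)) = ∏ t : RightOrbits a, c (sel t) := by
  refine Fintype.prod_bijective (fun t => cls ((g : Equiv.Perm (Pts a)) (sel t))) ?_ _ _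
    fun t => (apply_sel_cls hc _).symm
  rw [← Finite.injective_iff_bijective]
  intro t t' h
  obtain ⟨v, hv⟩ := MulAction.orbitRel_apply.1 (Quotient.exact h :)
  have h2 : (g : Equiv.Perm (Pts a)) ((((1 : S), v) : S × S) • sel t') =
      (g : Equiv.Perm (Pts a)) (sel t) := (g.2 v _).trans hv
  rw [← cls_sel t, ← cls_sel t', ← (g : Equiv.Perm (Pts a)).injective h2, cls_right]

/-- An invariant product over a set with an action of a `p`-group, with all fixed points of value `a₀`. -/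
theorem prod_eq_pow_of_fixed {G T A : Type*} [Group G] [MulAction G T] [Fintype T] [CommMonoid A] {p : ℕ}
    [Fact p.Prime] (hG : IsPGroup p G) (hA : ∀ x : A, x ^ p = 1) {c : T → A}
    (hc : ∀ (g : G) (t : T), c (g • t) = c t) (a₀ : A)
    (h : ∀ t : T, (∀ g : G, g • t = t) → c t = a₀) : ∏ t, c t = a₀ ^ Fintype.card T := by
  classical
  have hpow : ∀ (x : A) (m m' : ℕ), m ≡ m' [MOD p] → x ^ m = x ^ m' := by
    intro x m m' hm
    rw [← Nat.mod_add_div m p, ← Nat.mod_add_div m' p, hm, pow_add, pow_add, pow_mul, pow_mul, hA,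
      one_pow, one_pow]
  let W : A → SubMulAction G T := fun x =>
    { carrier := {t | c t = x}, smul_mem' := fun g t ht => (hc g t).trans ht }
  have hfib : ∀ x, (Finset.univ.filter fun t => c t = x).card = Nat.card (W x) := fun x => by
    rw [← Nat.card_eq_finsetCard]
    exact Nat.card_congr (Equiv.subtypeEquivRight fun t => by simp [W]; rfl)
  have h0 : ∀ x, x ≠ a₀ → p ∣ Nat.card (W x) := by
    intro x hx
    have := hG.card_modEq_card_fixedPoints (W x)
    have he : IsEmpty (MulAction.fixedPoints G (W x)) :=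
      ⟨fun ⟨⟨t, ht⟩, hf⟩ => hx (ht.symm.trans (h t fun g => congrArg Subtype.val (hf g)))⟩
    rw [Nat.card_of_isEmpty (α := MulAction.fixedPoints G (W x))] at this
    exact Nat.modEq_zero_iff_dvd.1 this
  have hprod : ∀ s : Finset A, (∀ t, c t ∈ s) → ∏ t, c t =
      ∏ x ∈ s, x ^ (Finset.univ.filter fun t => c t = x).card := fun s hs => by
    rw [← Finset.prod_fiberwise_of_maps_to (g := c) (fun t _ => hs t)]
    exact Finset.prod_congr rfl fun x _ => by
      rw [Finset.prod_congr rfl fun t ht => (Finset.mem_filter.1 ht).2, Finset.prod_const]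
  rw [hprod (insert a₀ (Finset.univ.image c)) fun t => Finset.mem_insert_of_mem (by simp),
    Finset.prod_eq_single a₀]
  · refine hpow a₀ _ _ ?_
    have hsum := Finset.card_eq_sum_card_fiberwise (s := (Finset.univ : Finset T))
      (t := insert a₀ (Finset.univ.image c)) (f := c) (fun t _ => Finset.mem_insert_of_mem (by simp))
    rw [Finset.card_univ] at hsum
    rw [hsum, ← Finset.add_sum_erase _ _ (Finset.mem_insert_self _ _)]
    have : p ∣ ∑ x ∈ (insert a₀ (Finset.univ.image c)).erase a₀,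
        (Finset.univ.filter fun t => c t = x).card :=
      Finset.dvd_sum fun x hx => by rw [hfib]; exact h0 x (Finset.ne_of_mem_erase hx)
    conv_lhs => rw [← add_zero (Finset.card _)]
    exact Nat.ModEq.add_left _ (Nat.modEq_zero_iff_dvd.2 this).symm
  · intro x _ hx
    obtain ⟨k, hk⟩ := h0 x hx
    rw [hfib, hk, pow_mul, hA, one_pow]
  · simp

/-- Retraction onto a subgroup of an exponent `p` abelian group. -/
theorem exists_hom_extension {A : Type*} [CommGroup A] [Finite A] {p : ℕ} [Fact p.Prime]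
    (hA : ∀ x : A, x ^ p = 1) {B : Subgroup A} (f : B →* A) : ∃ g : A →* A, ∀ b : B, g b = f b := by
  haveI : Finite (Subgroup A) := Finite.of_injective _ SetLike.coe_injective
  obtain ⟨C, hC⟩ := (Set.toFinite {C : Subgroup A | B ⊓ C = ⊥}).exists_maximal ⟨⊥, inf_bot_eq B⟩
  have hCB : B ⊓ C = ⊥ := hC.prop
  have hsup : ∀ x : A, x ∈ B ⊔ C := by
    intro x
    by_contra hx
    have hxC : x ∉ C := fun h => hx (Subgroup.mem_sup_right h)
    have hne : B ⊓ (C ⊔ Subgroup.zpowers x) ≠ ⊥ := fun h =>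
      hxC (hC.2 h le_sup_left (Subgroup.mem_sup_right (Subgroup.mem_zpowers x)))
    obtain ⟨⟨b, hbB, hb⟩, hb1'⟩ := Subgroup.ne_bot_iff_exists_ne_one.1 hne
    have hb1 : b ≠ 1 := fun h => hb1' (Subtype.ext h)
    obtain ⟨c, hc, y, hy, rfl⟩ := Subgroup.mem_sup.1 hb
    obtain ⟨i, rfl⟩ := Subgroup.mem_zpowers_iff.1 hy
    have hxi : x ^ i ∈ B ⊔ C := by
      have := (B ⊔ C).mul_mem ((B ⊔ C).inv_mem (Subgroup.mem_sup_right hc)) (Subgroup.mem_sup_left hbB)
      rwa [inv_mul_cancel_left] at this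
    by_cases hi : (p : ℤ) ∣ i
    · obtain ⟨k, rfl⟩ := hi
      rw [zpow_mul, zpow_natCast, hA, one_zpow, mul_one] at hbB hb1
      exact hb1 (Subgroup.mem_bot.1 (hCB ▸ ⟨hbB, hc⟩ : c ∈ (⊥ : Subgroup A)))
    · obtain ⟨r, s, hrs⟩ : IsCoprime i (p : ℤ) :=
        ((Nat.prime_iff_prime_int.1 Fact.out).coprime_iff_not_dvd.2 hi).symm
      refine hx ?_
      have hxeq : (x ^ i) ^ r = x := by
        rw [← zpow_mul]
        have : x ^ (i * r) * x ^ ((p : ℤ) * s) = x := by
          rw [← zpow_add, show i * r + (p : ℤ) * s = 1 by linarith, zpow_one]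
        rwa [zpow_mul x (p : ℤ) s, zpow_natCast, hA, one_zpow, mul_one] at this
      exact hxeq ▸ (B ⊔ C).zpow_mem hxi r
  let m : B × C →* A := MonoidHom.coprod B.subtype C.subtype
  have hm : Function.Bijective m := by
    constructor
    · rw [injective_iff_map_eq_one]
      rintro ⟨b, c⟩ h
      have h' : (b : A) * (c : A) = 1 := h
      have hbc : (b : A) ∈ B ⊓ C := ⟨b.2, by rw [mul_eq_one_iff_eq_inv.1 h']; exact C.inv_mem c.2⟩
      rw [hCB, Subgroup.mem_bot] at hbc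
      rw [hbc, one_mul] at h'
      exact Prod.ext (Subtype.ext hbc) (Subtype.ext h')
    · intro x
      obtain ⟨b, hb, c, hc, rfl⟩ := Subgroup.mem_sup.1 (hsup x)
      exact ⟨(⟨b, hb⟩, ⟨c, hc⟩), rfl⟩
  let e : B × C ≃* A := MulEquiv.ofBijective m hm
  refine ⟨(f.comp (MonoidHom.fst B C)).comp e.symm.toMonoidHom, fun b => ?_⟩
  have : e.symm (b : A) = (b, 1) := by
    rw [MulEquiv.symm_apply_eq]
    show (b : A) = (b : A) * 1
    rw [mul_one]
  show f (e.symm (b : A)).1 = f b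
  rw [this]

/-- With inner top automizer and strongly closed Frattini subgroup, every map is the identity modulo `Φ(S)`. -/
theorem map_congr_frattini {F : FusionSystem S} {p : ℕ} [Fact p.Prime] (hS : IsPGroup p S)
    (hF : F.IsSaturated p)
    (htop : ∀ φ ∈ F.Hom S, ∃ g ∈ S, ∀ x : S, φ x = g * (x : Ω) * g⁻¹)
    (hsc : F.StronglyClosed ((frattini S).map S.subtype)) {P : Subgroup Ω} {φ : P →* Ω}
    (hφ : φ ∈ F.Hom P) (x : P) (hx : (x : Ω) ∈ S) (hφx : φ x ∈ S) :
    (⟨x, hx⟩ : S)⁻¹ * ⟨φ x, hφx⟩ ∈ frattini S := by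
  letI cg : CommGroup (S ⧸ frattini S) :=
    { (inferInstance : Group (S ⧸ frattini S)) with
      mul_comm := fun a b => by
        induction a using QuotientGroup.induction_on with | _ a => ?_
        induction b using QuotientGroup.induction_on with | _ b => ?_
        refine QuotientGroup.eq.2 (H24.commutator_le_frattini hS ?_)
        rw [show (a * b)⁻¹ * (b * a) = ⁅b⁻¹, a⁻¹⁆ by rw [commutatorElement_def]; group]
        exact Subgroup.commutator_mem_commutator (Subgroup.mem_top _) (Subgroup.mem_top _) }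
  have hA : ∀ q : S ⧸ frattini S, q ^ p = 1 := fun q => by
    induction q using QuotientGroup.induction_on with
    | _ a => exact (QuotientGroup.eq_one_iff _).2 (H24.pow_mem_frattini hS a)
  let π : S →* S ⧸ frattini S := QuotientGroup.mk' _
  obtain ⟨a, n, ha, hst, hn, hcard⟩ := exists_char_biset hS hF
  have hcT : Fintype.card (RightOrbits a) = n := by
    rw [card_pts_eq ha] at hcard
    rw [Fintype.card_eq_nat_card]
    exact Nat.eq_of_mul_eq_mul_left Nat.card_pos hcard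
  -- the target of the labelling
  letI act : MulAction (S × S) ((S ⧸ frattini S →* S ⧸ frattini S) × (S ⧸ frattini S)) :=
    { smul := fun γ y => (y.1, π γ.2 * (y.1 (π γ.1))⁻¹ * y.2)
      one_smul := fun y => Prod.ext rfl (show π (1 : S × S).2 * (y.1 (π (1 : S × S).1))⁻¹ * y.2 = y.2 by simp)
      mul_smul := fun γ δ y => Prod.ext rfl (show π (γ * δ).2 * (y.1 (π (γ * δ).1))⁻¹ * y.2 =
        π γ.2 * (y.1 (π γ.1))⁻¹ * (π δ.2 * (y.1 (π δ.1))⁻¹ * y.2) by
          simp only [Prod.fst_mul, Prod.snd_mul, map_mul, mul_inv_rev]; ac_rfl) }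
  obtain ⟨ρ, hρ⟩ := exists_equivariant (X := Pts a)
      (Y := (S ⧸ frattini S →* S ⧸ frattini S) × (S ⧸ frattini S)) (L := S × S) fun y => by
    obtain ⟨R, θ, hθ, hR⟩ := isTw_stabilizer ha y
    obtain ⟨hRS, hθS⟩ := F.le_of_mem hθ
    let t : R →* S ⧸ frattini S := π.comp (θ.codRestrict S hθS)
    let u : R →* S ⧸ frattini S := π.comp (Subgroup.inclusion hRS)
    have hker : t.ker ≤ u.ker := by
      intro r hr
      obtain ⟨θi, hθi, -, hinv⟩ := exists_inv F hθ rfl
      have h1 : θ r ∈ (frattini S).map S.subtype :=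
        ⟨⟨θ r, hθS r⟩, (QuotientGroup.eq_one_iff _).1 hr, rfl⟩
      let D : Subgroup Ω := θ.range ⊓ (frattini S).map S.subtype
      have h2 := hsc.2 D inf_le_right _ (res_mem F hθi inf_le_left) ⟨θ r, ⟨r, rfl⟩, h1⟩
      rw [res_apply, hinv r ⟨r, rfl⟩] at h2
      obtain ⟨s, hs, hse⟩ := h2
      exact (QuotientGroup.eq_one_iff _).2 (by
        rw [show Subgroup.inclusion hRS r = s from Subtype.ext hse.symm]; exact hs)
    let f₀ : t.range →* S ⧸ frattini S :=
      t.rangeRestrict.liftOfSurjective t.rangeRestrict_surjective ⟨u, by rwa [t.ker_rangeRestrict]⟩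
    obtain ⟨g, hg⟩ := exists_hom_extension hA f₀
    refine ⟨(g, 1), fun γ hγ => ?_⟩
    have hm : γ ∈ (twist θ : Subgroup (S × S)) := hR ▸ MulAction.mem_stabilizer_iff.2 hγ
    obtain ⟨h1, h2⟩ := hm
    have e : g (π γ.1) = π γ.2 := by
      have e1 : t ⟨γ.2, h1⟩ = π γ.1 := congrArg π (Subtype.ext h2)
      rw [← e1]
      refine (hg ⟨_, ⟨⟨γ.2, h1⟩, rfl⟩⟩).trans ?_
      exact MonoidHom.liftOfRightInverse_comp_apply _ _ _ _ (⟨γ.2, h1⟩ : R)
    exact Prod.ext rfl (show π γ.2 * (g (π γ.1))⁻¹ * 1 = 1 by rw [e]; simp)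
  have hρv : ∀ (γ : S × S) (y : Pts a), (ρ (γ • y)).2 = π γ.2 * ((ρ y).1 (π γ.1))⁻¹ * (ρ y).2 := fun γ y => by
    rw [hρ]; rfl
  have hρg : ∀ (γ : S × S) (y : Pts a), (ρ (γ • y)).1 = (ρ y).1 := fun γ y => by rw [hρ]; rfl
  let ρ₂ : Pts a → S ⧸ frattini S := fun y => (ρ y).2
  have hρR : ∀ (v : S) (y : Pts a), ρ₂ ((((1 : S), v) : S × S) • y) = π v * ρ₂ y := fun v y => by
    simp only [ρ₂, hρv, map_one, inv_one, mul_one]
  have hV : ∀ w : S, transferHom hρR w = (π w)⁻¹ ^ n := by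
    intro w
    rw [transferHom_apply]
    show ∏ t : RightOrbits a, (ρ (((w, (1 : S)) : S × S) • sel t)).2 / (ρ (sel t)).2 = _
    have hpt : ∀ t : RightOrbits a, (ρ (((w, (1 : S)) : S × S) • sel t)).2 / (ρ (sel t)).2 =
        ((ρ (sel t)).1 (π w))⁻¹ := fun t => by
      rw [hρv, map_one, one_mul, mul_div_cancel_right]
    simp only [hpt]
    rw [← hcT]
    refine prod_eq_pow_of_fixed (G := S) hS hA (fun g t => ?_) _ fun t ht => ?_
    · have hinv : ∀ (v : S) (y : Pts a), (fun y => ((ρ y).1 (π w))⁻¹) ((((1 : S), v) : S × S) • y) =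
          (fun y => ((ρ y).1 (π w))⁻¹) y := fun v y => by simp only [hρg]
      have h1 := apply_sel_cls (c := fun y => ((ρ y).1 (π w))⁻¹) hinv (((g, (1 : S)) : S × S) • sel t)
      rw [← smul_cls, cls_sel] at h1
      rw [h1]
      simp only [hρg]
    · obtain ⟨R, θ, hθ, hR⟩ := isTw_stabilizer ha (sel t)
      have hall : ∀ s : S, ∃ v : S, ((s, v) : S × S) ∈ (twist θ : Subgroup (S × S)) := by
        intro s
        have h1 := ht s
        rw [← cls_sel t, smul_cls] at h1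
        obtain ⟨v, hv⟩ := MulAction.orbitRel_apply.1 (Quotient.exact h1 :)
        refine ⟨v⁻¹, hR ▸ MulAction.mem_stabilizer_iff.2 ?_⟩
        have hv' : (((1 : S), v) : S × S) • sel t = ((s, (1 : S)) : S × S) • sel t := hv
        rw [show ((s, v⁻¹) : S × S) = (((1 : S), v) : S × S)⁻¹ * (s, 1) by simp, mul_smul, ← hv', inv_smul_smul]
      obtain ⟨hRS, hθS⟩ := F.le_of_mem hθ
      have hRtop : R = S := by
        refine Subgroup.eq_of_le_of_card_ge hRS ?_
        have := finite_of_le hRS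
        refine Nat.card_le_card_of_surjective (fun r : R => (⟨θ r, hθS r⟩ : S)) fun s => ?_
        obtain ⟨v, hv, hv'⟩ := hall s
        exact ⟨⟨v, hv⟩, Subtype.ext hv'⟩
      subst R
      obtain ⟨c, hc, hce⟩ := htop θ hθ
      obtain ⟨v, hv⟩ := hall w
      have hv' : (π v * ((ρ (sel t)).1 (π w))⁻¹ : S ⧸ frattini S) * (ρ (sel t)).2 = (ρ (sel t)).2 := by
        rw [← hρv ((w, v) : S × S)]
        rw [MulAction.mem_stabilizer_iff.1 (hR.symm ▸ hv)]
      rw [mul_eq_right] at hv'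
      obtain ⟨h1, h2⟩ := hv
      have hw : w = ⟨c, hc⟩ * v * (⟨c, hc⟩ : S)⁻¹ := Subtype.ext (h2.symm.trans (hce _))
      have : π w = π v := by rw [hw, map_mul, map_mul, map_inv, mul_comm (π _) (π v), mul_inv_cancel_right]
      rw [mul_inv_eq_one] at hv'
      rw [← hv', this]
  have hinv := transferHom_map ha hst hρR hφ x hx hφx
  rw [hV, hV] at hinv
  have hAp : IsPGroup p (S ⧸ frattini S) := hS.to_quotient _
  obtain ⟨k, hk⟩ := exists_pow_inverse hAp hn
  have := congrArg (fun q => q ^ k) hinv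
  simp only [hk, inv_inj] at this
  exact QuotientGroup.eq.1 this.symm

/-- Modulo a normal subgroup containing the hyperfocal subgroup, every map is conjugation by an element. -/
theorem exists_conj_congr {F : FusionSystem S} {p : ℕ} [Fact p.Prime] (hS : IsPGroup p S)
    (hF : F.IsSaturated p) (Q : Subgroup S) [Q.Normal]
    (hQ : (F.hyperfocalSubgroup p).subgroupOf S ≤ Q) {P : Subgroup Ω} {φ : P →* Ω} (hφ : φ ∈ F.Hom P) :
    ∃ w : S, ∀ (x : P) (hx : (x : Ω) ∈ S) (hφx : φ x ∈ S),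
      (w * ⟨x, hx⟩ * w⁻¹)⁻¹ * ⟨φ x, hφx⟩ ∈ Q := by
  let π : S →* S ⧸ Q := QuotientGroup.mk' Q
  have hπ : ∀ a b : S, a⁻¹ * b ∈ Q ↔ π a = π b := fun a b => QuotientGroup.eq.symm
  refine H94.alperin_induction hS hF (fun P φ => ∃ w : S, ∀ (x : P) (hx : (x : Ω) ∈ S) (hφx : φ x ∈ S),
      (w * ⟨x, hx⟩ * w⁻¹)⁻¹ * ⟨φ x, hφx⟩ ∈ Q) ?_ ?_ ?_ hφ
  · rintro P R h φ - ⟨w, hw⟩
    exact ⟨w, fun x hx hφx => hw ⟨x, h x.2⟩ hx hφx⟩
  · rintro P R φ ψ hφ' hψ' ⟨w, hw⟩ ⟨w', hw'⟩ h
    refine ⟨w' * w, fun x hx hc => ?_⟩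
    have h1 := (hπ _ _).1 (hw x hx ((F.le_of_mem hφ').2 x))
    have h2 := (hπ _ _).1 (hw' ⟨φ x, h x⟩ ((F.le_of_mem hφ').2 x) hc)
    rw [hπ]
    simp only [map_mul, map_inv] at h1 h2 ⊢
    refine Eq.trans ?_ h2
    rw [← h1]
    group
  · intro U hU _ _ α hα
    have := finite_of_le hU.1
    let H : Subgroup (F.autGroup U) :=
      { carrier := {β | ∃ w : S, ∀ (x : U) (hx : (x : Ω) ∈ S) (hβx : (((β : MulAut U) x : U) : Ω) ∈ S),
          π (w * ⟨x, hx⟩ * w⁻¹) = π ⟨_, hβx⟩}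
        one_mem' := ⟨1, fun x hx hβx => by simp⟩
        mul_mem' := by
          rintro β γ ⟨w, hw⟩ ⟨w', hw'⟩
          refine ⟨w * w', fun x hx hβx => ?_⟩
          have h1 := hw' x hx (hU.1 ((γ : MulAut U) x).2)
          have h2 := hw ((γ : MulAut U) x) (hU.1 ((γ : MulAut U) x).2) hβx
          simp only [map_mul, map_inv] at h1 h2 ⊢
          refine Eq.trans ?_ h2
          rw [← h1]
          group
        inv_mem' := by
          rintro β ⟨w, hw⟩
          refine ⟨w⁻¹, fun x hx hβx => ?_⟩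
          have h1 := hw ((β : MulAut U).symm x) hβx (by rw [MulEquiv.apply_symm_apply]; exact hx)
          simp only [map_mul, map_inv, MulEquiv.apply_symm_apply] at h1 ⊢
          show (π w)⁻¹ * π ⟨(x : Ω), hx⟩ * (π w)⁻¹⁻¹ = π ⟨_, _⟩
          rw [← h1]
          group
          rfl }
    have h1 : pResidual p (F.autGroup U) ≤ H := by
      intro β hβ
      refine ⟨1, fun x hx hβx => ?_⟩
      rw [← hπ]
      have hm : ((⟨x, hx⟩ : S)⁻¹ * (⟨_, hβx⟩ : S)) ∈ (F.hyperfocalSubgroup p).subgroupOf S :=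
        Subgroup.mem_subgroupOf.2 (Subgroup.subset_closure ⟨U, β, x, hU.1, hβ, rfl⟩)
      simpa using hQ hm
    have h2 : (autInducedBy S U).subgroupOf (F.autGroup U) ≤ H := by
      intro β hβ
      obtain ⟨g, hg, hge⟩ := mem_autInducedBy.1 (Subgroup.mem_subgroupOf.1 hβ)
      exact ⟨⟨g, hg⟩, fun x hx hβx => congrArg π (Subtype.ext (hge x).symm)⟩
    obtain ⟨-, T, hT⟩ := (H94.fullyNormalized_spec hS hF hU).1
    have htop : H = ⊤ := top_le_iff.1 (by
      rw [← H22.pResidual_sup_sylow T, hT]; exact sup_le h1 h2)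
    obtain ⟨w, hw⟩ : (⟨α, hα⟩ : F.autGroup U) ∈ H := htop ▸ Subgroup.mem_top _
    exact ⟨w, fun x hx hφx => (hπ _ _).2 (hw x hx hφx)⟩

/-- Tate's theorem: if all maps are trivial modulo the Frattini subgroup then the system is inner. -/
theorem eq_inner_of_congr_frattini {F : FusionSystem S} {p : ℕ} [Fact p.Prime] (hS : IsPGroup p S)
    (hF : F.IsSaturated p)
    (hmod : ∀ {P : Subgroup Ω} {φ : P →* Ω}, φ ∈ F.Hom P → ∀ (x : P) (hx : (x : Ω) ∈ S) (hφx : φ x ∈ S),
      (⟨x, hx⟩ : S)⁻¹ * ⟨φ x, hφx⟩ ∈ frattini S) (P : Subgroup Ω) :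
    F.Hom P = (innerFusionSystem S).Hom P := by
  have hhyp : (F.hyperfocalSubgroup p).subgroupOf S ≤ frattini S := by
    have : F.hyperfocalSubgroup p ≤ (frattini S).map S.subtype := by
      rw [FusionSystem.hyperfocalSubgroup, Subgroup.closure_le]
      rintro _ ⟨R, β, x, hR, -, rfl⟩
      exact ⟨_, hmod ((mem_autGroup F hR).1 β.2) x (hR x.2) (hR ((β : MulAut R) x).2), rfl⟩
    intro s hs
    obtain ⟨t, ht, hts⟩ := this (Subgroup.mem_subgroupOf.1 hs)
    rwa [← Subtype.ext hts]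
  generalize hQ : Subgroup.normalClosure ((F.hyperfocalSubgroup p).subgroupOf S : Set S) = Q
  have hQn : Q.Normal := hQ ▸ Subgroup.normalClosure_normal
  have hQle : (F.hyperfocalSubgroup p).subgroupOf S ≤ Q := hQ ▸ Subgroup.le_normalClosure
  have hQΦ : Q ≤ frattini S := hQ ▸ Subgroup.normalClosure_le_normal hhyp
  by_cases hQ1 : Q = ⊥
  · refine Set.Subset.antisymm (fun φ hφ => ?_) fun φ ⟨hP, g, hg, hge⟩ => mem_congr F (F.conj_mem hP hg) hge
    obtain ⟨hP, hφS⟩ := F.le_of_mem hφ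
    obtain ⟨w, hw⟩ := exists_conj_congr hS hF Q hQle hφ
    refine ⟨hP, w, w.2, fun x => ?_⟩
    have h := hw x (hP x.2) (hφS x)
    rw [hQ1, Subgroup.mem_bot, inv_mul_eq_one] at h
    exact (congrArg Subtype.val h).symm
  exfalso
  -- a central chief factor below `Q`
  obtain ⟨j, hj⟩ := (hS.to_subgroup Q).exists_card_eq
  have hj0 : 1 ≤ j := Nat.one_le_iff_ne_zero.2 fun h => by
    rw [h, pow_zero] at hj
    exact hQ1 (Subgroup.card_eq_one.1 hj)
  obtain ⟨Q₀, hQ₀n, hQ₀le, hQ₀c⟩ := H24.exists_normal_le_card hS hj (Nat.sub_le j 1)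
  let π : S →* S ⧸ Q₀ := QuotientGroup.mk' Q₀
  generalize hZ : Q.map π = Z
  have hZn : Z.Normal := hZ ▸ hQn.map π (QuotientGroup.mk'_surjective _)
  have hZc : Nat.card Z = p := by
    rw [← hZ]
    have h1 := Subgroup.relIndex_ker (K := Q) π
    rw [QuotientGroup.ker_mk'] at h1
    rw [← h1]
    have h2 := Subgroup.card_mul_index (Q₀.subgroupOf Q)
    rw [Nat.card_congr (Subgroup.subgroupOfEquivOfLe hQ₀le).toEquiv, mul_comm] at h2
    change Q₀.relIndex Q * Nat.card Q₀ = _ at h2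
    rw [hQ₀c, hj, show p ^ j = p * p ^ (j - 1) by rw [← pow_succ']; congr 1; omega] at h2
    exact Nat.eq_of_mul_eq_mul_right (pow_pos (Fact.out : p.Prime).pos _) h2
  have hEp : IsPGroup p (S ⧸ Q₀) := hS.to_quotient _
  have hZcen : ∀ z ∈ Z, ∀ e : S ⧸ Q₀, e * z = z * e := by
    have hne : Z ≠ ⊥ := fun h => by
      rw [h, Subgroup.card_bot] at hZc; exact (Fact.out : p.Prime).ne_one hZc.symm
    have h1 := H24.inf_center_ne_bot hEp hne
    have h2 : Z ⊓ Subgroup.center (S ⧸ Q₀) = Z := by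
      apply Subgroup.eq_of_le_of_card_ge inf_le_left
      rw [hZc]
      rcases (Nat.dvd_prime Fact.out).1 (hZc ▸ Subgroup.card_dvd_of_le (inf_le_left : Z ⊓ Subgroup.center (S ⧸ Q₀) ≤ Z)) with h | h
      · exact absurd (Subgroup.card_eq_one.1 h) h1
      · exact h.ge
    intro z hz e
    rw [← h2] at hz
    exact Subgroup.mem_center_iff.1 hz.2 e
  letI cgZ : CommGroup Z :=
    { (inferInstance : Group Z) with mul_comm := fun a b => Subtype.ext (hZcen b b.2 a) }
  have hZp : ∀ z : Z, z ^ p = 1 := fun z => by rw [← hZc]; exact pow_card_eq_one'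
  obtain ⟨a, n, ha, hst, hn, hcard⟩ := exists_char_biset hS hF
  have hcT : Fintype.card (RightOrbits a) = n := by
    rw [card_pts_eq ha] at hcard
    rw [Fintype.card_eq_nat_card]
    exact Nat.eq_of_mul_eq_mul_left Nat.card_pos hcard
  -- the labelling in `S / Q`
  let σ : S →* S ⧸ Q := QuotientGroup.mk' Q
  letI actQ : MulAction (S × S) (S ⧸ Q) :=
    { smul := fun γ y => σ γ.1 * y * (σ γ.2)⁻¹
      one_smul := fun y => show σ (1 : S × S).1 * y * (σ (1 : S × S).2)⁻¹ = y by simp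
      mul_smul := fun γ δ y => show σ (γ * δ).1 * y * (σ (γ * δ).2)⁻¹ =
          σ γ.1 * (σ δ.1 * y * (σ δ.2)⁻¹) * (σ γ.2)⁻¹ by
        simp only [Prod.fst_mul, Prod.snd_mul, map_mul]; group }
  obtain ⟨ρ, hρ⟩ := exists_equivariant (X := Pts a) (Y := S ⧸ Q) (L := S × S) fun y => by
    obtain ⟨R, θ, hθ, hR⟩ := isTw_stabilizer ha y
    obtain ⟨w, hw⟩ := exists_conj_congr hS hF Q hQle hθ
    refine ⟨σ w, fun γ hγ => ?_⟩
    have hm : γ ∈ (twist θ : Subgroup (S × S)) := hR ▸ MulAction.mem_stabilizer_iff.2 hγ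
    obtain ⟨h1, h2⟩ := hm
    have h3 := QuotientGroup.eq.2 (hw ⟨γ.2, h1⟩ γ.2.2 (by rw [h2]; exact γ.1.2))
    have h4 : σ γ.1 = σ (w * γ.2 * w⁻¹) := by
      refine Eq.trans (congrArg σ (Subtype.ext h2.symm)) h3.symm
    show σ γ.1 * σ w * (σ γ.2)⁻¹ = σ w
    rw [h4, map_mul, map_mul, map_inv]; group
  -- a lift to `S / Q₀`, equivariant on the right
  letI actE : MulAction S (S ⧸ Q₀) :=
    { smul := fun v e => e * (π v)⁻¹
      one_smul := fun e => show e * (π 1)⁻¹ = e by simp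
      mul_smul := fun v w e => show e * (π (v * w))⁻¹ = e * (π w)⁻¹ * (π v)⁻¹ by simp [mul_assoc] }
  obtain ⟨ρ₀, hρ₀⟩ := exists_equivariant (X := Pull (MonoidHom.inr S S) (Pts a)) (Y := S ⧸ Q₀) (L := S)
    fun y => ⟨1, fun v hv => by
      rw [eq_one_of_right_fixed ha (x := (y : Pts a)) hv]; exact one_smul S (1 : S ⧸ Q₀)⟩
  let η : S ⧸ Q₀ →* S ⧸ Q := QuotientGroup.map Q₀ Q (MonoidHom.id S) hQ₀le
  have hη : ∀ s, η (π s) = σ s := fun s => rfl
  have hηker : ∀ e, η e = 1 → e ∈ Z := by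
    intro e he
    induction e using QuotientGroup.induction_on with
    | _ s => exact hZ ▸ ⟨s, (QuotientGroup.eq_one_iff _).1 he, rfl⟩
  have hηsurj : Function.Surjective η := fun e => by
    induction e using QuotientGroup.induction_on with | _ s => exact ⟨π s, rfl⟩
  let lft : S ⧸ Q → S ⧸ Q₀ := Function.surjInv hηsurj
  let r : Pts a → S ⧸ Q₀ := fun y => lft (ρ y * (η (ρ₀ y))⁻¹) * ρ₀ y
  have hrR : ∀ (v : S) (y : Pts a), r ((((1 : S), v) : S × S) • y) = r y * (π v)⁻¹ := by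
    intro v y
    have e0 : ρ₀ ((((1 : S), v) : S × S) • y) = ρ₀ y * (π v)⁻¹ := hρ₀ v y
    have e1 : ρ ((((1 : S), v) : S × S) • y) = ρ y * (σ v)⁻¹ := by
      rw [hρ]; show σ 1 * ρ y * (σ v)⁻¹ = _; rw [map_one, one_mul]
    simp only [r, e0, e1, map_mul, map_inv, hη]
    rw [show ρ y * (σ v)⁻¹ * (η (ρ₀ y) * (σ v)⁻¹)⁻¹ = ρ y * (η (ρ₀ y))⁻¹ by group, mul_assoc]
  have hr : ∀ y, η (r y) = ρ y := fun y => by
    simp only [r, map_mul, lft, Function.surjInv_eq hηsurj, inv_mul_cancel_right]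
  -- the defect
  have hd : ∀ (u : S) (y : Pts a), (r (((u, (1 : S)) : S × S) • y))⁻¹ * π u * r y ∈ Z := by
    intro u y
    apply hηker
    rw [map_mul, map_mul, map_inv, hr, hr, hη, hρ]
    show (σ u * ρ y * (σ 1)⁻¹)⁻¹ * σ u * ρ y = 1
    rw [map_one]; group
  let d : S → Pts a → Z := fun u y => ⟨_, hd u y⟩
  have hdR : ∀ (u v : S) (y : Pts a), d u ((((1 : S), v) : S × S) • y) = d u y := by
    intro u v y
    apply Subtype.ext
    show (r (_ • _ • y))⁻¹ * π u * r _ = _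
    rw [show ((u, (1 : S)) : S × S) • (((1 : S), v) : S × S) • y =
        (((1 : S), v) : S × S) • ((u, (1 : S)) : S × S) • y by rw [smul_smul, smul_smul]; simp,
      hrR, hrR]
    calc _ = π v * ((r (((u, (1 : S)) : S × S) • y))⁻¹ * π u * r y) * (π v)⁻¹ := by group
      _ = _ := by rw [hZcen _ (hd u y), mul_inv_cancel_right]
  let D : S →* Z := MonoidHom.mk' (fun u => ∏ t : RightOrbits a, d u (sel t)) fun u w => by
    rw [← prod_left (c := d u) (hdR u) w, ← Finset.prod_mul_distrib]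
    refine Finset.prod_congr rfl fun t _ => Subtype.ext ?_
    show (r (((u * w, (1 : S)) : S × S) • sel t))⁻¹ * π (u * w) * r (sel t) =
      ((r (((u, (1 : S)) : S × S) • ((w, (1 : S)) : S × S) • sel t))⁻¹ * π u * r (((w, (1 : S)) : S × S) • sel t)) *
        ((r (((w, (1 : S)) : S × S) • sel t))⁻¹ * π w * r (sel t))
    rw [smul_smul]
    simp only [Prod.mk_mul_mk, mul_one, map_mul]
    group
  have hDΦ : frattini S ≤ D.ker := by
    refine H24.frattini_le_of (p := p) _ (Abelianization.commutator_subset_ker D) fun y => ?_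
    rw [MonoidHom.mem_ker, map_pow, hZp]
  -- the key invariance
  have hcrit : ∀ {R : Subgroup Ω} {φ : R →* Ω}, φ ∈ F.Hom R → ∀ (u : R) (hu : (u : Ω) ∈ S) (hφu : φ u ∈ S),
      (⟨u, hu⟩ : S) ∈ Q → (⟨φ u, hφu⟩ : S) ∈ Q → π ⟨φ u, hφu⟩ = π ⟨u, hu⟩ := by
    intro R φ hφ u hu hφu hQu hQφu
    have hcen : ∀ (w : S), w ∈ Q → π w ∈ Z := fun w hw => hZ ▸ ⟨w, hw, rfl⟩
    have hdc : ∀ (w : S), w ∈ Q → ∀ y, π w * ((r (((w, (1 : S)) : S × S) • y))⁻¹ * r y) =
        (r (((w, (1 : S)) : S × S) • y))⁻¹ * π w * r y := by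
      intro w hw y
      rw [← mul_assoc, hZcen _ (hcen w hw) (r (((w, (1 : S)) : S × S) • y))⁻¹]
    have hc : ∀ (w : S), w ∈ Q → ∀ y, (r (((w, (1 : S)) : S × S) • y))⁻¹ * r y ∈ Z := by
      intro w hw y
      have h1 := Z.mul_mem (Z.inv_mem (hcen w hw)) (hd w y)
      rwa [← hdc w hw y, inv_mul_cancel_left] at h1
    have hprod : ∀ (w : S) (hw : w ∈ Q),
        ∏ t : RightOrbits a, (⟨_, hc w hw (sel t)⟩ : Z) = ((⟨π w, hcen w hw⟩ : Z) ^ n)⁻¹ := by
      intro w hw
      have h1 : D w = 1 := hDΦ (hQΦ hw)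
      have h2 : D w = (⟨π w, hcen w hw⟩ : Z) ^ n * ∏ t : RightOrbits a, (⟨_, hc w hw (sel t)⟩ : Z) := by
        rw [← hcT, ← Finset.card_univ, ← Finset.prod_const, ← Finset.prod_mul_distrib]
        exact Finset.prod_congr rfl fun t _ => Subtype.ext (hdc w hw (sel t)).symm
      rw [h1] at h2
      exact eq_inv_of_mul_eq_one_right h2.symm
    obtain ⟨g₀, hg₀⟩ := exists_stable_equiv ha hst hφ
    have hgmem : (g₀ : Equiv.Perm (Pts a)) ∈ rightCentralizer a := fun v x => by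
      have h := hg₀ 1 v x S.one_mem (by rw [map_one]; exact S.one_mem)
      simp only [map_one] at h
      exact h
    let g : rightCentralizer a := ⟨g₀, hgmem⟩
    have hcR : ∀ (w : S) (hw : w ∈ Q) (v : S) (y : Pts a),
        (fun y => (⟨_, hc w hw y⟩ : Z)) ((((1 : S), v) : S × S) • y) = (fun y => (⟨_, hc w hw y⟩ : Z)) y := by
      intro w hw v y
      have h1 := congrArg Subtype.val (hdR w v y)
      apply Subtype.ext
      show _ = _
      simp only [d, ← hdc w hw] at h1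
      exact mul_left_cancel h1
    have hperm := prod_perm (c := fun y => (⟨_, hc _ hQφu y⟩ : Z)) (hcR ⟨φ u, hφu⟩ hQφu) g
    simp only [hprod _ hQφu] at hperm
    let K : Pts a → S ⧸ Q₀ := fun y => r (g₀ y) * (r y)⁻¹
    have hKR : ∀ (v : S) (y : Pts a), K ((((1 : S), v) : S × S) • y) = K y := by
      intro v y
      show r (g₀ _) * (r _)⁻¹ = _
      rw [hgmem v y, hrR, hrR]
      simp [K, mul_assoc]
    let sec : S ⧸ Q₀ → Z := fun e =>
      ⟨((e : (S ⧸ Q₀) ⧸ Z).out)⁻¹ * e, QuotientGroup.eq.1 (QuotientGroup.out_eq' (e : (S ⧸ Q₀) ⧸ Z))⟩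
    have hsec : ∀ (e : S ⧸ Q₀) (z : Z), sec (e * z) = sec e * z := by
      intro e z
      apply Subtype.ext
      show (((e * z : S ⧸ Q₀) : (S ⧸ Q₀) ⧸ Z).out)⁻¹ * (e * z) = _
      rw [show ((e * z : S ⧸ Q₀) : (S ⧸ Q₀) ⧸ Z) = (e : (S ⧸ Q₀) ⧸ Z) from
        QuotientGroup.mk_mul_of_mem e z.2, ← mul_assoc]
      rfl
    have hsecR : ∀ (v : S) (y : Pts a), (fun y => sec (K y)) ((((1 : S), v) : S × S) • y) =
        (fun y => sec (K y)) y := fun v y => by simp only [hKR]
    have hshift := prod_left (c := fun y => sec (K y)) hsecR (⟨(u : Ω), hu⟩ : S)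
    have hrel : ∀ t : RightOrbits a, (⟨_, hc _ hQφu (g₀ (sel t))⟩ : Z) =
        (⟨_, hc _ hQu (sel t)⟩ : Z) * (sec (K ((((⟨u, hu⟩ : S), (1 : S)) : S × S) • sel t)))⁻¹ * sec (K (sel t)) := by
      intro t
      generalize hy : sel t = y
      let z : Z := (⟨_, hc _ hQu y⟩ : Z)⁻¹ * ⟨_, hc _ hQφu (g₀ y)⟩
      have hg1 : g₀ ((((⟨u, hu⟩ : S), (1 : S)) : S × S) • y) = (((⟨φ u, hφu⟩ : S), (1 : S)) : S × S) • g₀ y :=
        hg₀ u 1 y hu hφu
      have hz : K y = K ((((⟨u, hu⟩ : S), (1 : S)) : S × S) • y) * (z : S ⧸ Q₀) := by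
        rw [hZcen _ z.2]
        show r (g₀ y) * (r y)⁻¹ = (((r ((((⟨u, hu⟩ : S), (1 : S)) : S × S) • y))⁻¹ * r y)⁻¹ *
          ((r ((((⟨φ u, hφu⟩ : S), (1 : S)) : S × S) • g₀ y))⁻¹ * r (g₀ y))) * (r (g₀ _) * (r _)⁻¹)
        rw [← hg1]
        generalize hA : r (g₀ ((((⟨u, hu⟩ : S), (1 : S)) : S × S) • y)) = A'
        have hzA : A'⁻¹ * r (g₀ y) ∈ Z := by rw [← hA, hg1]; exact hc _ hQφu (g₀ y)
        have hzc := hc _ hQu y
        generalize r (g₀ y) = B' at hzA ⊢
        generalize r ((((⟨u, hu⟩ : S), (1 : S)) : S × S) • y) = C' at hzc ⊢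
        generalize r y = E' at hzc ⊢
        calc B' * E'⁻¹ = A' * (A'⁻¹ * B') * ((C'⁻¹ * E')⁻¹ * C'⁻¹) := by group
          _ = A' * (((C'⁻¹ * E')⁻¹ * (A'⁻¹ * B')) * C'⁻¹) := by
            rw [hZcen _ hzA (C'⁻¹ * E')⁻¹]; group
          _ = ((C'⁻¹ * E')⁻¹ * (A'⁻¹ * B')) * (A' * C'⁻¹) := by
            rw [← mul_assoc, hZcen _ (Z.mul_mem (Z.inv_mem hzc) hzA) A', mul_assoc]
      rw [hz, hsec, mul_assoc, inv_mul_cancel_left]
      show _ = _ * (_⁻¹ * _)
      rw [mul_inv_cancel_left]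
    have hsum : ∏ t : RightOrbits a, (⟨_, hc _ hQφu (g₀ (sel t))⟩ : Z) =
        ∏ t : RightOrbits a, (⟨_, hc _ hQu (sel t)⟩ : Z) := by
      simp only [hrel, Finset.prod_mul_distrib, Finset.prod_inv_distrib, hshift, inv_mul_cancel_right]
    rw [show ∏ t : RightOrbits a, (⟨_, hc _ hQφu ((g : Equiv.Perm (Pts a)) (sel t))⟩ : Z) =
      ∏ t : RightOrbits a, (⟨_, hc _ hQu (sel t)⟩ : Z) from hsum, hprod _ hQu, inv_inj] at hperm
    obtain ⟨k, hk⟩ := exists_pow_inverse (hEp.to_subgroup Z) hn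
    have h2 := congrArg (fun q : Z => q ^ k) hperm
    simp only [hk] at h2
    exact (congrArg Subtype.val h2).symm
  have hall : F.hyperfocalSubgroup p ≤ π.ker.map S.subtype := by
    rw [FusionSystem.hyperfocalSubgroup, Subgroup.closure_le]
    rintro _ ⟨U, β, x, hU, hβ, rfl⟩
    have := finite_of_le hU
    let H : Subgroup (F.autGroup U) :=
      { carrier := {γ | ∀ x : U, π ⟨_, hU ((γ : MulAut U) x).2⟩ = π ⟨(x : Ω), hU x.2⟩}
        one_mem' := fun x => rfl
        mul_mem' := fun {γ δ} hγ hδ x => (hγ _).trans (hδ x)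
        inv_mem' := fun {γ} hγ x => by
          have h := hγ ((γ : MulAut U).symm x)
          simp only [MulEquiv.apply_symm_apply] at h
          exact h.symm }
    have hH : pResidual p (F.autGroup U) ≤ H := by
      rw [pResidual, Subgroup.closure_le]
      intro γ hγ
      have hstep : ∀ y : U, (⟨(y : Ω), hU y.2⟩ : S) ∈ Q →
          π ⟨_, hU ((γ : MulAut U) y).2⟩ = π ⟨(y : Ω), hU y.2⟩ := by
        intro y hy
        refine hcrit ((mem_autGroup F hU).1 γ.2) y (hU y.2) _ hy ?_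
        have hq : (⟨(y : Ω), hU y.2⟩ : S)⁻¹ * ⟨_, hU ((γ : MulAut U) y).2⟩ ∈ Q :=
          hQle (Subgroup.mem_subgroupOf.2 (Subgroup.subset_closure
            ⟨U, γ, y, hU, H22.mem_pResidual_of_coprime hγ, rfl⟩))
        have := Q.mul_mem hy hq
        rwa [mul_inv_cancel_left] at this
      intro x
      generalize hz : (π ⟨(x : Ω), hU x.2⟩)⁻¹ * π ⟨_, hU ((γ : MulAut U) x).2⟩ = z
      have hm : ∀ m : ℕ, π ⟨_, hU (((γ ^ m : F.autGroup U) : MulAut U) x).2⟩ = π ⟨(x : Ω), hU x.2⟩ * z ^ m := by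
        intro m
        induction m with
        | zero => simp
        | succ m ihm =>
          have hq : (⟨(x⁻¹ * ((γ ^ m : F.autGroup U) : MulAut U) x : U), hU (SetLike.coe_mem _)⟩ : S) ∈ Q :=
            hQle (Subgroup.mem_subgroupOf.2 (Subgroup.subset_closure
              ⟨U, γ ^ m, x, hU, Subgroup.pow_mem _ (H22.mem_pResidual_of_coprime hγ) m, rfl⟩))
          have h1 := hstep _ hq
          rw [pow_succ' γ m]
          have e1 : (⟨_, hU (((γ * γ ^ m : F.autGroup U) : MulAut U) x).2⟩ : S) =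
              ⟨_, hU ((γ : MulAut U) x).2⟩ *
                ⟨_, hU ((γ : MulAut U) (x⁻¹ * ((γ ^ m : F.autGroup U) : MulAut U) x)).2⟩ := by
            apply Subtype.ext
            show _ = (((γ : MulAut U) x * (γ : MulAut U) (x⁻¹ * _) : U) : Ω)
            rw [← map_mul, mul_inv_cancel_left]
            rfl
          have e2 : (⟨(x⁻¹ * ((γ ^ m : F.autGroup U) : MulAut U) x : U), hU (SetLike.coe_mem _)⟩ : S) =
              (⟨(x : Ω), hU x.2⟩ : S)⁻¹ * ⟨_, hU (((γ ^ m : F.autGroup U) : MulAut U) x).2⟩ := Subtype.ext rfl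
          rw [e1, map_mul, h1, e2, map_mul, map_inv, ihm, inv_mul_cancel_left,
            show π ⟨_, hU ((γ : MulAut U) x).2⟩ = π ⟨(x : Ω), hU x.2⟩ * z by rw [← hz, mul_inv_cancel_left],
            mul_assoc, ← pow_succ']
      have h1 := hm (orderOf γ)
      simp only [pow_orderOf_eq_one] at h1
      have h3 : z ^ orderOf γ = 1 := mul_eq_left.1 h1.symm
      have hnd : ¬ p ∣ orderOf γ := fun hd =>
        (Fact.out : p.Prime).ne_one (Nat.eq_one_of_dvd_coprimes hγ hd dvd_rfl)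
      obtain ⟨k, hk⟩ := exists_pow_inverse hEp hnd
      have hz1 : z = 1 := by rw [← hk z, h3, one_pow]
      rw [hz1, inv_mul_eq_one] at hz
      exact hz.symm
    refine ⟨(⟨(x : Ω), hU x.2⟩ : S)⁻¹ * ⟨_, hU ((β : MulAut U) x).2⟩, ?_, rfl⟩
    show π _ = 1
    rw [map_mul, map_inv, hH hβ x, inv_mul_cancel]
  have hle : Q ≤ Q₀ := by
    rw [← hQ]
    refine Subgroup.normalClosure_le_normal fun s hs => ?_
    obtain ⟨t, ht, hts⟩ := hall (Subgroup.mem_subgroupOf.1 hs)
    rw [← Subtype.ext hts]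
    exact (QuotientGroup.eq_one_iff _).1 ht
  have h := Subgroup.card_le_of_le hle
  rw [hj, hQ₀c] at h
  have := Nat.pow_lt_pow_right (Fact.out : p.Prime).one_lt (show j - 1 < j by omega)
  omega

end Cfsg.Agent.H96
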