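import Cfsg.Agent.H96.ExtFix
import Cfsg.Agent.H94.SatTools
import Cfsg.Agent.H94.PPowerIndex

/-!
Automizers of centric subgroups of a normal subsystem: lift groups, the Frattini decomposition, restrictions of
`O^{p'}`.
-/

set_option autoImplicit false

namespace Cfsg.Agent.H96

open Cfsg Cfsg.FusionSystem Cfsg.Agent.S5127

variable {Ω : Type*} [Group Ω] {S T : Subgroup Ω} {F : FusionSystem S} {E : FusionSystem T} {p : ℕ}

/-- Conjugation of an extension by a map. -/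
theorem ext_conj_map {J D : Subgroup Ω} {y y' : Ω} {ψ : D →* Ω} (hψ : ψ ∈ F.Hom D) (hJ : J ≤ D) (hy : y ∈ D)
    (hy' : ψ ⟨y, hy⟩ = y') {b a c : MulAut J}
    (hb : ∀ x : J, ψ ⟨x, hJ x.2⟩ = ((b x : J) : Ω)) (hc : b * a * b⁻¹ = c)
    (hext : Ext F (Subgroup.zpowers y) J (J.subtype.comp a.toMonoidHom)) :
    Ext F (Subgroup.zpowers y') J (J.subtype.comp c.toMonoidHom) := by
  obtain ⟨φ, hφ, hφ1, hφy⟩ := ext_apply_gen hext
  have hmem : ∀ w, φ w ∈ D := by
    refine H93.apply_mem_sup (fun x => hJ ?_) fun x => ?_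
    · rw [hφ1]; exact (a x).2
    · obtain ⟨k, hk⟩ := Subgroup.mem_zpowers_iff.1 x.2
      rw [show Subgroup.inclusion le_sup_right x =
        (⟨y, Subgroup.mem_sup_right (Subgroup.mem_zpowers y)⟩ : ↥(J ⊔ Subgroup.zpowers y)) ^ k from
          Subtype.ext (by rw [Subgroup.coe_zpow]; exact hk.symm), map_zpow, hφy]
      exact D.zpow_mem hy k
  obtain ⟨f, hf, hfe⟩ := exists_comp F hφ hψ hmem
  have hle : J ⊔ Subgroup.zpowers y ≤ D := sup_le hJ (Subgroup.zpowers_le.2 hy)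
  obtain ⟨i, hi, hir, hie⟩ := exists_inv F (res_mem F hψ hle) rfl
  obtain ⟨g, hg, hge⟩ := exists_comp F hi hf fun v => hir.le ⟨v, rfl⟩
  have hJr : J ≤ (res ψ hle).range := fun x hx => by
    obtain ⟨x', hx'⟩ := b.surjective ⟨x, hx⟩
    exact ⟨Subgroup.inclusion le_sup_left x', (hb x').trans (congrArg Subtype.val hx')⟩
  have hyr : y' ∈ (res ψ hle).range :=
    ⟨⟨y, Subgroup.mem_sup_right (Subgroup.mem_zpowers y)⟩, hy'⟩
  refine ext_of_map hg hJr hyr ?_ fun x => ?_
  · rw [hge, hfe]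
    refine Eq.trans (congrArg ψ (Subtype.ext ?_)) hy'
    show φ _ = y
    refine Eq.trans (congrArg φ (Subtype.ext ?_)) hφy
    exact (congrArg i (Subtype.ext hy'.symm : (⟨y', hyr⟩ : (res ψ hle).range) =
      ⟨res ψ hle ⟨y, Subgroup.mem_sup_right (Subgroup.mem_zpowers y)⟩, ⟨_, rfl⟩⟩)).trans (hie _ _)
  · obtain ⟨x', rfl⟩ := b.surjective x
    rw [hge, hfe]
    show _ = ((c (b x') : J) : Ω)
    rw [← hc, MulAut.mul_apply, MulAut.mul_apply, MulAut.inv_apply_self]
    refine Eq.trans (congrArg ψ (Subtype.ext ?_)) (hb (a x'))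
    show φ _ = ((a x' : J) : Ω)
    refine Eq.trans (congrArg φ (Subtype.ext ?_)) (hφ1 x')
    exact (congrArg i (Subtype.ext (hb x').symm : (⟨((b x' : J) : Ω), hJr (b x').2⟩ : (res ψ hle).range) =
      ⟨res ψ hle (Subgroup.inclusion le_sup_left x'), ⟨_, rfl⟩⟩)).trans (hie _ _)

/-- The subgroup of the automizer generated by its elements of `p`-power order. -/
def oUpper (E : FusionSystem T) (p : ℕ) (X : Subgroup Ω) : Subgroup (MulAut X) :=
  Subgroup.closure {a | a ∈ E.autGroup X ∧ ∃ k : ℕ, a ^ p ^ k = 1}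

theorem oUpper_le_autGroup (X : Subgroup Ω) : oUpper E p X ≤ E.autGroup X :=
  (Subgroup.closure_le _).2 fun _ h => h.1

theorem oUpper_conj {X : Subgroup Ω} {a b : MulAut X} (ha : a ∈ E.autGroup X) (hb : b ∈ oUpper E p X) :
    a * b * a⁻¹ ∈ oUpper E p X := by
  have h : oUpper E p X ≤ (oUpper E p X).comap (MulAut.conj a).toMonoidHom := by
    refine (Subgroup.closure_le _).2 ?_
    rintro c ⟨hc, k, hk⟩
    refine Subgroup.subset_closure ⟨mul_mem (mul_mem ha hc) (inv_mem ha), k, ?_⟩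
    show (a * c * a⁻¹) ^ p ^ k = 1
    rw [conj_pow, hk, mul_one, mul_inv_cancel]
  exact h hb

/-- Restriction of elements of `O^{p'}` to an invariant subgroup. -/
theorem exists_oUpper_restrict [Finite T] {X J : Subgroup Ω} (hXT : X ≤ T) (hJX : J ≤ X)
    (hinv : ∀ a ∈ E.autGroup X, ∀ x : J, ((a (Subgroup.inclusion hJX x) : X) : Ω) ∈ J) {a : MulAut X}
    (ha : a ∈ oUpper E p X) :
    ∃ b ∈ oUpper E p J, ∀ x : J, a (Subgroup.inclusion hJX x) = Subgroup.inclusion hJX (b x) := by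
  let K : Subgroup (MulAut X) :=
    { carrier := {a | ∃ b ∈ oUpper E p J, ∀ x : J, a (Subgroup.inclusion hJX x) = Subgroup.inclusion hJX (b x)}
      one_mem' := ⟨1, one_mem _, fun _ => rfl⟩
      mul_mem' := by
        rintro a c ⟨b, hb, hbe⟩ ⟨d, hd, hde⟩
        exact ⟨b * d, mul_mem hb hd, fun x => by rw [MulAut.mul_apply, hde, hbe]; rfl⟩
      inv_mem' := by
        rintro a ⟨b, hb, hbe⟩
        refine ⟨b⁻¹, inv_mem hb, fun x => a.injective ?_⟩
        rw [MulAut.apply_inv_self, hbe, MulAut.apply_inv_self] }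
  have h : oUpper E p X ≤ K := by
    refine (Subgroup.closure_le _).2 ?_
    rintro c ⟨hc, k, hk⟩
    obtain ⟨b, hb, hbe⟩ := exists_restrict hXT hJX hc (hinv c hc)
    refine ⟨b, Subgroup.subset_closure ⟨hb, k, MulEquiv.ext fun x => Subgroup.inclusion_injective hJX ?_⟩, hbe⟩
    rw [← pow_intertwine (Subgroup.inclusion hJX) hbe, hk]
    rfl
  exact h ha

variable [Finite S] [Fact p.Prime]

/-- A target with self-centralizing image. -/
theorem exists_target_centric (hS : IsPGroup p S) (hF : F.IsSaturated p) (hE : E.IsNormalIn F p)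
    {X : Subgroup Ω} (hc : E.IsCentric X) :
    ∃ (U₁ : Subgroup Ω) (χ : normalizerIn S X →* Ω) (_ : Target F X U₁ χ), centralizerIn T U₁ ≤ U₁ := by
  have hI := hE.1.2.2
  obtain ⟨U₁, χ, t⟩ := exists_target hS hF (hc.1.trans hI.2.1.1)
  refine ⟨U₁, χ, t, centralizer_le_of_centric hI hc (res_mem F t.hom t.le_normalizerIn) ?_⟩
  ext z
  constructor
  · rintro ⟨x, rfl⟩; exact t.img _ x.2
  · intro hz
    obtain ⟨x, hx, rfl⟩ := t.sur z hz
    exact ⟨⟨x, hx⟩, rfl⟩

/-- The properties of the liftable automorphisms in the subsystem. -/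
theorem liftable_props (hS : IsPGroup p S) (hF : F.IsSaturated p) (hE : E.IsNormalIn F p)
    {X U₁ : Subgroup Ω} {χ : normalizerIn S X →* Ω} (t : Target F X U₁ χ) (hc₁ : centralizerIn T U₁ ≤ U₁)
    (hX : E.IsFullyNormalized X) :
    autInducedBy T X ≤ t.liftGroup ⊓ E.autGroup X ∧
      (∀ a ∈ E.autGroup X, ∀ b ∈ t.liftGroup ⊓ E.autGroup X, a * b * a⁻¹ ∈ t.liftGroup ⊓ E.autGroup X) ∧
      ¬ p ∣ (autInducedBy T X).relIndex (t.liftGroup ⊓ E.autGroup X) ∧
      oUpper E p X ≤ t.liftGroup ⊓ E.autGroup X := by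
  have hI := hE.1.2.2
  have hTS := hI.2.1.1
  have hXS := hX.1.trans hTS
  have := finite_of_le hTS
  have := finite_of_le hXS
  have hTE : autInducedBy T X ≤ E.autGroup X := autInducedBy_le_autGroup E hX.1
  have hTL : autInducedBy T X ≤ t.liftGroup ⊓ E.autGroup X :=
    le_inf (t.autInducedBy_le_liftGroup hI.2.1 hc₁) hTE
  have hconj : ∀ a ∈ E.autGroup X, ∀ b ∈ t.liftGroup ⊓ E.autGroup X,
      a * b * a⁻¹ ∈ t.liftGroup ⊓ E.autGroup X := fun a ha b hb =>
    ⟨t.liftGroup_conj hS hF ((mem_autGroup F hXS).2 (hI.1 X ((mem_autGroup E hX.1).1 ha))) hb.1,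
      (E.autGroup X).mul_mem ((E.autGroup X).mul_mem ha hb.2) ((E.autGroup X).inv_mem ha)⟩
  obtain ⟨⟨-, R, hR⟩, -⟩ := H94.fullyNormalized_spec (hS.to_le hTS) hE.1.1 hX
  refine ⟨hTL, hconj, fun h => ?_, ?_⟩
  · have h1 : (autInducedBy T X).relIndex (t.liftGroup ⊓ E.autGroup X) ∣
        (autInducedBy T X).relIndex (E.autGroup X) :=
      Dvd.intro _ (Subgroup.relIndex_mul_relIndex _ _ _ hTL inf_le_right)
    refine R.not_dvd_index ?_
    rw [hR]
    exact h.trans h1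
  · refine (Subgroup.closure_le _).2 ?_
    rintro a ⟨ha, k, hk⟩
    have hp : IsPGroup p (Subgroup.zpowers (⟨a, ha⟩ : E.autGroup X)) := by
      obtain ⟨j, -, hj⟩ := (Nat.dvd_prime_pow (Fact.out : p.Prime)).1
        (orderOf_dvd_of_pow_eq_one (Subtype.ext hk : (⟨a, ha⟩ : E.autGroup X) ^ p ^ k = 1))
      exact IsPGroup.of_card (n := j) (by rw [Nat.card_zpowers, hj])
    obtain ⟨R', hR'⟩ := hp.exists_le_sylow
    obtain ⟨g, hg⟩ := MulAction.exists_smul_eq (E.autGroup X) R R'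
    have h1 := hR' (Subgroup.mem_zpowers _)
    rw [← hg] at h1
    obtain ⟨r, hr, hre⟩ := h1
    rw [hR] at hr
    have h2 := hconj _ g.2 _ (hTL (Subgroup.mem_subgroupOf.1 hr))
    have e : (g : MulAut X) * (r : MulAut X) * (g : MulAut X)⁻¹ = a := congrArg Subtype.val hre
    rwa [e] at h2

/-- An automizer is handled by its Sylow normalizer and the elements of prime power order of a normal subgroup. -/
theorem ext_autGroup_of_parts (hS : IsPGroup p S) (hE : E.IsNormalIn F p) {X : Subgroup Ω}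
    (hX : E.IsFullyNormalized X) {w : Ω} (hw : w ∈ centralizerIn S T) {N : Subgroup (MulAut X)}
    (hN : N ≤ E.autGroup X) (hNc : ∀ a ∈ E.autGroup X, ∀ b ∈ N, a * b * a⁻¹ ∈ N)
    (hTN : autInducedBy T X ≤ N)
    (hn : ∀ n ∈ E.autGroup X, (∀ b ∈ autInducedBy T X, n * b * n⁻¹ ∈ autInducedBy T X) →
      Ext F (Subgroup.zpowers w) X (X.subtype.comp n.toMonoidHom))
    (hq : ∀ (q : ℕ), q.Prime → q ≠ p → ∀ e : ℕ, ∀ a ∈ N, a ^ q ^ e = 1 →
      Ext F (Subgroup.zpowers w) X (X.subtype.comp a.toMonoidHom)) :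
    ∀ a ∈ E.autGroup X, Ext F (Subgroup.zpowers w) X (X.subtype.comp a.toMonoidHom) := by
  intro α hα
  have hTS : T ≤ S := hE.1.2.2.2.1.1
  have hXS := hX.1.trans hTS
  have := finite_of_le hTS
  have := finite_of_le hXS
  have hWS : X ⊔ Subgroup.zpowers w ≤ S := sup_le hXS (Subgroup.zpowers_le.2 hw.1)
  let Hc : Subgroup (MulAut X) :=
    { carrier := {a | Ext F (Subgroup.zpowers w) X (X.subtype.comp a.toMonoidHom) ∧
        Ext F (Subgroup.zpowers w) X (X.subtype.comp a⁻¹.toMonoidHom)}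
      one_mem' := by
        have h : Ext F (Subgroup.zpowers w) X (X.subtype.comp (1 : MulAut X).toMonoidHom) :=
          ⟨(X ⊔ Subgroup.zpowers w).subtype, subtype_mem F hWS, fun x => rfl, fun x => rfl⟩
        exact ⟨h, by rwa [inv_one]⟩
      mul_mem' := fun {a b} ha hb => ⟨ext_comp hb.1 ha.1 fun x => (b x).2, by
        rw [mul_inv_rev]; exact ext_comp ha.2 hb.2 fun x => (a⁻¹ x).2⟩
      inv_mem' := fun {a} ha => ⟨ha.2, by rw [inv_inv]; exact ha.1⟩ }
  have hTHc : autInducedBy T X ≤ Hc := by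
    suffices h : ∀ a ∈ autInducedBy T X, Ext F (Subgroup.zpowers w) X (X.subtype.comp a.toMonoidHom) from
      fun a ha => ⟨h a ha, h _ (inv_mem ha)⟩
    intro a ha
    obtain ⟨s, hs, hse⟩ := mem_autInducedBy.1 ha
    exact ext_conjHom hXS hw.1 (hTS hs) (hw.2 s hs) hse
  obtain ⟨⟨-, R, hR⟩, -⟩ := H94.fullyNormalized_spec (hS.to_le hTS) hE.1.1 hX
  set L := N.subgroupOf (E.autGroup X) with hL
  have hLn : L.Normal := ⟨fun l hl a => Subgroup.mem_subgroupOf.2 (hNc a a.2 l (Subgroup.mem_subgroupOf.1 hl))⟩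
  have hRL : (R : Subgroup (E.autGroup X)) ≤ L := hR.le.trans (Subgroup.comap_mono hTN)
  obtain ⟨n, hnn, l, hl, he⟩ := H94.exists_mul_normalizer_inf R L ⟨α, hα⟩
  rw [inf_eq_left.2 hRL, hR] at hnn
  have hlHc : ((l : E.autGroup X) : MulAut X) ∈ Hc := by
    obtain ⟨k, hk, r, hr, hlr⟩ := H94.exists_pResidual_mul_sylow (R.subtype hRL) (⟨l, hl⟩ : L)
    have e : ((l : E.autGroup X) : MulAut X) = ((k : E.autGroup X) : MulAut X) * ((r : E.autGroup X) : MulAut X) :=
      congrArg (fun z : L => ((z : E.autGroup X) : MulAut X)) hlr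
    rw [e]
    refine Hc.mul_mem ?_ (hTHc (Subgroup.mem_subgroupOf.1 (hR.le hr)))
    suffices h : pResidual p L ≤ Hc.comap ((E.autGroup X).subtype.comp L.subtype) from h hk
    refine (Subgroup.closure_le _).2 fun a ha => ?_
    refine mem_of_coprime_parts (p := p) (H := Hc.comap ((E.autGroup X).subtype.comp L.subtype))
      (fun q hq' hqp e a ha => ?_) (orderOf a) a (pow_orderOf_eq_one a) ha
    have haN : ((a : E.autGroup X) : MulAut X) ∈ N := Subgroup.mem_subgroupOf.1 a.2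
    have hpe : ((a : E.autGroup X) : MulAut X) ^ q ^ e = 1 :=
      congrArg (fun z : L => ((z : E.autGroup X) : MulAut X)) ha
    exact ⟨hq q hq' hqp e _ haN hpe, hq q hq' hqp e _ (inv_mem haN) (by rw [inv_pow]; exact inv_eq_one.2 hpe)⟩
  have hnExt := hn n n.2 fun b hb => by
    have hbE : b ∈ E.autGroup X := hN (hTN hb)
    exact Subgroup.mem_subgroupOf.1 ((Subgroup.mem_normalizer_iff.1 hnn ⟨b, hbE⟩).1 (Subgroup.mem_subgroupOf.2 hb))
  have h2 := ext_comp hlHc.1 hnExt fun x => ((l : MulAut X) x).2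
  rwa [show ((X.subtype.comp (n : MulAut X).toMonoidHom).comp
      ((X.subtype.comp (l : MulAut X).toMonoidHom).codRestrict X fun x => ((l : MulAut X) x).2)) =
      X.subtype.comp α.toMonoidHom from MonoidHom.ext fun x => by
        show (((n : MulAut X) ((l : MulAut X) x) : X) : Ω) = (α x : X)
        rw [← MulAut.mul_apply, ← Subgroup.coe_mul, ← he]] at h2

/-- An automorphism normalizing the part induced by `T` extends to the normalizer. -/
theorem exists_ext_of_normalizes (hS : IsPGroup p S) (hE : E.IsNormalIn F p) {X : Subgroup Ω}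
    (hX : E.IsFullyNormalized X) {n : MulAut X} (hn : n ∈ E.autGroup X)
    (hnT : ∀ b ∈ autInducedBy T X, n * b * n⁻¹ ∈ autInducedBy T X) :
    ∃ ψ ∈ E.Hom (normalizerIn T X), ∀ (x : X) (hx : (x : Ω) ∈ normalizerIn T X), ψ ⟨x, hx⟩ = ((n x : X) : Ω) := by
  have hTS : T ≤ S := hE.1.2.2.2.1.1
  have := finite_of_le hTS
  have := finite_of_le (hX.1.trans hTS)
  obtain ⟨-, hrec⟩ := H94.fullyNormalized_spec (hS.to_le hTS) hE.1.1 hX
  have hnH := (mem_autGroup E hX.1).1 hn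
  obtain ⟨ψ, hψ, hψe⟩ := hrec.2 X _ hnH (range_eq_of_forall_mem E hnH fun x => (n x).2)
  have hle : normalizerIn T X ≤ extender T X (X.subtype.comp n.toMonoidHom) := fun g hg => by
    obtain ⟨c, hc, hce⟩ := H94.exists_autInducedBy hg.1 hg.2
    exact H94.mem_extender_of_conj hg.1 hg.2 hce (hnT c hc)
  exact ⟨res ψ hle, res_mem E hψ hle, fun x hx => hψe x x.2 _⟩

end Cfsg.Agent.H96
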