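import Cfsg.Agent.H96.GoodAt
import Cfsg.Agent.H96.ThompsonCenter
import Cfsg.Agent.H93.InnerTools
import Cfsg.Agent.H95.InnerThompson
import Cfsg.Agent.H94.FactorSaturated

/-!
A non-inner system at an odd prime contains a non-inner constrained subsystem over the same group.
-/
set_option autoImplicit false

namespace Cfsg.Agent.H96

open Cfsg Cfsg.FusionSystem
open H94 (mem_preimageAlong preimageAlong_le mem_imageAlong)

universe u

variable {Ω : Type u} [Group Ω] {S : Subgroup Ω}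

/-- A map into the inner system gives equality with it. -/
theorem hom_eq_of_le_inner {F : FusionSystem S} (h : F ≤ innerFusionSystem S) (P : Subgroup Ω) :
    F.Hom P = (innerFusionSystem S).Hom P := by
  refine Set.Subset.antisymm (h P) ?_
  rintro φ ⟨hP, g, hg, hge⟩
  rw [show φ = conjHom P g from MonoidHom.ext hge]
  exact F.conj_mem hP hg

variable [Finite S] {p : ℕ} [Fact p.Prime] {F : FusionSystem S}

/-- The system of maps stabilising a subgroup normalized by `S` is saturated and has it as a normal subgroup. -/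
theorem stableSystem_spec (hS : IsPGroup p S) (hF : F.IsSaturated p) {X : Subgroup Ω} (hX : X ≤ S)
    (hn : S ≤ Subgroup.normalizer (X : Set Ω)) :
    (H95.stableSystem F X hX hn).IsSaturated p ∧ (H95.stableSystem F X hX hn).IsNormal X := by
  have e : S = normalizerIn S X := (inf_of_le_left hn).symm
  suffices h : ∀ (T : Subgroup Ω) (E : FusionSystem T), T = normalizerIn S X →
      (∀ P, E.Hom P = F.normalizerHom X P) → E.IsSaturated p ∧ E.IsNormal X from
    h S _ e fun _ => rfl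
  rintro T E rfl hE
  have hfn : F.IsFullyNormalized X :=
    ⟨hX, fun Q _ => by rw [← e]; exact Subgroup.card_le_of_le inf_le_left⟩
  refine ⟨H93.IsNormalizerSystem.isSaturated hS hF hfn hE, ?_⟩
  obtain rfl : E = H93.normalizerSystem F X hX := H93.fs_ext hE
  exact H93.isNormal_normalizerSystem hX

omit [Fact p.Prime] in
/-- An automorphism in the system extends over a normal subgroup, powers included. -/
theorem exists_normal_aut_ext {Q U : Subgroup Ω} (hQ : F.IsNormal Q) (hU : U ≤ S) {a : MulAut U}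
    (ha : a ∈ F.autGroup U) :
    ∃ b ∈ F.autGroup (U ⊔ Q), (∀ x : ↥(U ⊔ Q), (x : Ω) ∈ Q → ((b x : ↥(U ⊔ Q)) : Ω) ∈ Q) ∧
      ∀ (j : ℕ) (x : U),
        (((b ^ j) (Subgroup.inclusion le_sup_left x) : ↥(U ⊔ Q)) : Ω) = ((a ^ j) x : U) := by
  obtain ⟨ψ, hψ, h1, h2⟩ := exists_ext_of_normal hQ ((mem_autGroup F hU).1 ha)
  have hmem : ∀ y, ψ y ∈ U ⊔ Q := H93.apply_mem_sup
    (fun x => Subgroup.mem_sup_left (h1 x ▸ (a x).2)) fun x => Subgroup.mem_sup_right (h2 x)
  obtain ⟨b, hb, hbe⟩ := exists_autGroup_of_mem F hψ hmem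
  refine ⟨b, hb, fun x hx => by rw [hbe]; exact h2 ⟨x, hx⟩, fun j => ?_⟩
  induction j with
  | zero => intro x; rfl
  | succ j ih =>
    intro x
    rw [pow_succ', pow_succ', MulAut.mul_apply, MulAut.mul_apply, hbe]
    rw [show (b ^ j) (Subgroup.inclusion le_sup_left x) = Subgroup.inclusion le_sup_left ((a ^ j) x)
      from Subtype.ext (ih x)]
    exact h1 _

/-- Inner on a normal subgroup and inner modulo it gives inner. -/
theorem le_inner_of_factor (hS : IsPGroup p S) (hF : F.IsSaturated p) {W : Subgroup Ω} (hW : F.IsNormal W)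
    (hAut : F.autGroup W ≤ autInducedBy S W) {Ω' : Type u} [Group Ω'] {S' : Subgroup Ω'} {θ : S →* Ω'}
    {D : FusionSystem S'} (hD : F.IsFactorSystem W θ D) (hin : D ≤ innerFusionSystem S') :
    F ≤ innerFusionSystem S := by
  intro P φ hφ
  rw [← IsInner.hom_eq hS hF ?_ P]
  · exact hφ
  intro U hU a ha
  have hWsc := H93.IsNormal.stronglyClosed hW
  obtain ⟨b, hb, hbW, hpow⟩ := exists_normal_aut_ext hW hU ha
  have hV : U ⊔ W ≤ S := sup_le hU hW.1
  have hbF := (mem_autGroup F hV).1 hb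
  have hWV : W ≤ (U ⊔ W) := le_sup_right
  obtain ⟨c, hc, hce⟩ := exists_autGroup_of_mem F (res_mem F hbF hWV) fun x => hbW _ x.2
  obtain ⟨s, hs, hse⟩ := mem_autInducedBy.1 (hAut hc)
  obtain ⟨φ', hφ', hP, hφS, hmem, hind⟩ :=
    (H94.factor_isSurjectiveMorphism hS hF hWsc hD).1.2 (U ⊔ W) _ hbF
  obtain ⟨-, t, ht, hte⟩ := hin _ hφ'
  obtain ⟨t₀, rfl⟩ : t ∈ θ.range := hD.2.2.1.symm ▸ ht
  have hstep : ∀ y : ↥(U ⊔ W), θ ⟨(b y : ↥(U ⊔ W)), hV (b y).2⟩ = θ t₀ * θ ⟨y, hV y.2⟩ * (θ t₀)⁻¹ := fun y => by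
    refine Eq.trans ?_ (hte ⟨_, hmem y⟩)
    exact (hind y).symm
  have hmodp : ∀ (j : ℕ) (y : ↥(U ⊔ W)),
      θ ⟨((b ^ j) y : ↥(U ⊔ W)), hV ((b ^ j) y).2⟩ = θ (t₀ ^ j) * θ ⟨y, hV y.2⟩ * (θ (t₀ ^ j))⁻¹ := by
    intro j
    induction j with
    | zero => intro y; simp
    | succ j ih =>
      intro y
      have h := hstep ((b ^ j) y)
      rw [ih] at h
      rw [pow_succ' t₀, map_mul, mul_inv_rev]
      refine (congrArg θ (Subtype.ext ?_)).trans (h.trans (by simp only [mul_assoc]))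
      show (((b ^ (j + 1)) y : ↥(U ⊔ W)) : Ω) = (b ((b ^ j) y) : ↥(U ⊔ W))
      rw [pow_succ', MulAut.mul_apply]
  have hfix : ∀ (j : ℕ) (y : ↥(U ⊔ W)), (y : Ω) ∈ W →
      (((b ^ j) y : ↥(U ⊔ W)) : Ω) = s ^ j * y * (s ^ j)⁻¹ ∧ (((b ^ j) y : ↥(U ⊔ W)) : Ω) ∈ W := by
    intro j
    induction j with
    | zero => intro y hy; simpa using hy
    | succ j ih =>
      intro y hy
      obtain ⟨h1, h2⟩ := ih y hy
      rw [pow_succ', MulAut.mul_apply]
      refine ⟨?_, hbW _ h2⟩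
      refine ((hce ⟨_, h2⟩).symm.trans (hse _)).trans ?_
      show s * (((b ^ j) y : ↥(U ⊔ W)) : Ω) * s⁻¹ = _
      rw [h1, pow_succ' s, mul_inv_rev]
      simp only [mul_assoc]
  have := finite_of_le hV
  obtain ⟨k, hk⟩ := IsPGroup.iff_card.1 hS
  have hsk : s ^ p ^ k = 1 := by
    rw [← hk]
    exact congrArg Subtype.val (pow_card_eq_one' (x := (⟨s, hs⟩ : S)))
  have htk : t₀ ^ p ^ k = 1 := by rw [← hk]; exact pow_card_eq_one'
  obtain ⟨l, hl⟩ := H93.exists_pow_eq_one_of_chain (γ := b ^ p ^ k) (hS.to_le hV) 0 (fun _ => W)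
    (fun i hi => absurd hi (by omega))
    (fun y hy => Subtype.ext (by rw [(hfix _ y hy).1, hsk]; simp))
    (fun i hi => absurd hi (by omega))
    (fun y => by
      have h := hmodp (p ^ k) y
      rw [htk, map_one, one_mul, inv_one, mul_one] at h
      refine (hD.2.1 (⟨((b ^ p ^ k) y : ↥(U ⊔ W)), hV ((b ^ p ^ k) y).2⟩ * ⟨(y : Ω), hV y.2⟩⁻¹)).1 ?_
      rw [map_mul, map_inv, h, mul_inv_cancel])
  refine ⟨k + l, MulEquiv.ext fun x => Subtype.ext ?_⟩
  rw [← hpow, pow_add, pow_mul, hl]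
  rfl

/-- A non-inner saturated system at an odd prime has a non-inner constrained subsystem over the same group. -/
theorem exists_constrained_noninner {Ω : Type u} [Group Ω] {S : Subgroup Ω} [Finite S] {p : ℕ} [Fact p.Prime]
    {F : FusionSystem S} (hp : p ≠ 2) (hS : IsPGroup p S) (hF : F.IsSaturated p)
    (hne : ¬ F ≤ innerFusionSystem S) :
    ∃ E : FusionSystem S, E ≤ F ∧ E.IsConstrained p ∧ ¬ E ≤ innerFusionSystem S := by
  suffices H : ∀ (Ω : Type u) [Group Ω] (S : Subgroup Ω) [Finite S] (F : FusionSystem S),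
      Finite S → IsPGroup p S → F.IsSaturated p → ¬ F ≤ innerFusionSystem S →
      ∃ E : FusionSystem S, E ≤ F ∧ E.IsConstrained p ∧ ¬ E ≤ innerFusionSystem S from
    H Ω S F inferInstance hS hF hne
  clear hne hF hS F
  intro Ω _ S _ F
  refine H95.system_induction (C := fun Ω _ S F => Finite S → IsPGroup p S → F.IsSaturated p →
    ¬ F ≤ innerFusionSystem S →
      ∃ E : FusionSystem S, E ≤ F ∧ E.IsConstrained p ∧ ¬ E ≤ innerFusionSystem S) ?_ Ω S F
  intro Ω _ S _ F IHcard IHsub _ hS hF hne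
  set W := centerThompsonAOf S with hWdef
  have hWS : W ≤ S := H35.centerThompsonAOf_le S
  have hWn : S ≤ Subgroup.normalizer (W : Set Ω) := fun g hg =>
    mem_normalizer_centerThompsonAOf le_rfl (Subgroup.le_normalizer hg)
  set N := H95.stableSystem F W hWS hWn with hNdef
  have hNne : ¬ N ≤ innerFusionSystem S := fun h =>
    hne (H95.le_inner_of_centerThompsonA hp hS hF fun P φ hφ => h P hφ)
  by_cases hprop : ∃ (P : Subgroup Ω) (φ : P →* Ω), φ ∈ F.Hom P ∧ φ ∉ N.Hom P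
  · obtain ⟨E, hE, hEc, hEne⟩ := IHsub S N (fun P φ h => h.1) hprop inferInstance hS
      (stableSystem_spec hS hF hWS hWn).1 hNne
    exact ⟨E, fun P φ h => (hE P h).1, hEc, hEne⟩
  push Not at hprop
  have hW : F.IsNormal W := ⟨hWS, fun P φ hφ => (hprop P φ hφ).2.2.2⟩
  have hS1 : S ≠ ⊥ := by
    intro h
    refine hne fun P φ hφ => ⟨(F.le_of_mem hφ).1, 1, S.one_mem, fun x => ?_⟩
    have h1 : φ x ∈ S := (F.le_of_mem hφ).2 x
    have h2 : (x : Ω) ∈ S := (F.le_of_mem hφ).1 x.2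
    rw [h, Subgroup.mem_bot] at h1 h2
    rw [h1, h2, one_mul, one_mul, inv_one]
  have hW1 : W ≠ ⊥ := centerThompsonAOf_ne_bot hS le_rfl hS1
  set R := W ⊔ centralizerIn S W with hRdef
  have hRS : R ≤ S := sup_le hWS inf_le_left
  have hRn : S ≤ Subgroup.normalizer (R : Set Ω) := H95.le_normalizer_sup_centralizerIn hWn
  set E2 := H95.stableSystem F R hRS hRn with hE2
  have hE2c : E2.IsConstrained p := by
    obtain ⟨hsat, hn⟩ := stableSystem_spec hS hF hRS hRn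
    refine ⟨hsat, R, hn, hRS, fun Q hQ => ?_⟩
    rw [eq_of_isConj_normal hn hQ]
    exact fun x hx => Subgroup.mem_sup_right
      ⟨hx.1, Subgroup.centralizer_le (SetLike.coe_subset_coe.2 le_sup_left) hx.2⟩
  by_cases hE2ne : ¬ E2 ≤ innerFusionSystem S
  · exact ⟨E2, fun P φ h => h.1, hE2c, hE2ne⟩
  push Not at hE2ne
  rcases H95.proper_innerOnSystem_or F hWS hWn with hproper | hAut
  · set K := H95.innerOnSystem F W hWS hWn with hK
    have hKne : ¬ K ≤ innerFusionSystem S := fun hKin =>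
      hne (H95.le_of_frattini hS hF hW _ (fun P φ hφ => hE2ne P hφ)
        fun P hQP φ hφ hfix => hKin P (H95.mem_innerOnSystem_of_fix hWS hWn hQP hφ hfix))
    obtain ⟨E, hE, hEc, hEne⟩ := IHsub S K (fun P φ h => h.1) hproper inferInstance hS
      (H95.innerOnSystem_isSaturated hS hF hW hWn) hKne
    exact ⟨E, fun P φ h => (hE P h).1, hEc, hEne⟩
  have hWsc := H93.IsNormal.stronglyClosed hW
  have : (W.subgroupOf S).Normal := (Subgroup.normal_subgroupOf_iff_le_normalizer hWS).2 hWn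
  set θ := QuotientGroup.mk' (W.subgroupOf S) with hθdef
  have hker : ∀ s : S, θ s = 1 ↔ (s : Ω) ∈ W := fun s => QuotientGroup.eq_one_iff s
  have hrange : θ.range = ⊤ := MonoidHom.range_eq_top.2 (QuotientGroup.mk'_surjective _)
  obtain ⟨D, hD⟩ := H94.exists_factorSystem F W hWsc θ hker hrange
  have hlt : Nat.card (⊤ : Subgroup (S ⧸ W.subgroupOf S)) < Nat.card S := by
    rw [Subgroup.card_top, Subgroup.card_eq_card_quotient_mul_card_subgroup (W.subgroupOf S)]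
    refine lt_mul_of_one_lt_right Nat.card_pos ?_
    rw [Subgroup.one_lt_card_iff_ne_bot]
    intro e
    rw [Subgroup.subgroupOf_eq_bot, disjoint_iff, inf_of_le_left hWS] at e
    exact hW1 e
  obtain ⟨E', hE', ⟨-, Q', hQ'n, hQ'c⟩, hE'ne⟩ := IHcard _ _ D hlt inferInstance
    ((hS.to_quotient _).to_subgroup ⊤) (H94.factor_isSaturated hS hF hWsc hD)
    fun h => hne (le_inner_of_factor hS hF hW hAut hD h)
  set R' := preimageAlong θ Q' with hR'
  have hR'S : R' ≤ S := preimageAlong_le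
  have hQ'norm : Q'.Normal := by
    rw [← Subgroup.normalizer_eq_top_iff, ← top_le_iff]
    exact H93.StronglyClosed.le_normalizer (H93.IsNormal.stronglyClosed hQ'n)
  have hR'n : S ≤ Subgroup.normalizer (R' : Set Ω) := by
    refine (Subgroup.normal_subgroupOf_iff_le_normalizer hR'S).1 ?_
    rw [show R'.subgroupOf S = Q'.comap θ from
      Subgroup.comap_map_eq_self_of_injective S.subtype_injective _]
    exact hQ'norm.comap θ
  obtain ⟨hsat, hn⟩ := stableSystem_spec hS hF hR'S hR'n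
  refine ⟨H95.stableSystem F R' hR'S hR'n, fun P φ h => h.1, ⟨hsat, R', hn, hR'S, fun X hX => ?_⟩, ?_⟩
  · rw [eq_of_isConj_normal hn hX]
    intro x hx
    refine mem_preimageAlong.2 ⟨hx.1, hQ'c.2 Q' (isConj_refl E' hQ'c.1) ⟨Subgroup.mem_top _, ?_⟩⟩
    intro y hy
    obtain ⟨z, rfl⟩ := QuotientGroup.mk'_surjective (W.subgroupOf S) y
    exact (map_mul θ z ⟨x, hx.1⟩).symm.trans ((congrArg θ
      (Subtype.ext (hx.2 z (mem_preimageAlong.2 ⟨z.2, hy⟩)))).trans (map_mul θ ⟨x, hx.1⟩ z))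
  intro hin
  refine hE'ne fun P' φ' hφ' => ?_
  obtain ⟨ψ', hψ', h1, h2⟩ := exists_ext_of_normal hQ'n hφ'
  obtain ⟨-, ψ, hψ, hP, hψS, hmem, hind⟩ := (hD.2.2.2 _ _).1 (hE' _ hψ')
  have hR'V : R' ≤ (preimageAlong θ (P' ⊔ Q')) := fun x hx => mem_preimageAlong.2
    ⟨(mem_preimageAlong.1 hx).1, Subgroup.mem_sup_right (mem_preimageAlong.1 hx).2⟩
  have hle : (preimageAlong θ (P' ⊔ Q')) ⊔ R' ≤ (preimageAlong θ (P' ⊔ Q')) := sup_le le_rfl hR'V
  have hψE : ψ ∈ (H95.stableSystem F R' hR'S hR'n).Hom (preimageAlong θ (P' ⊔ Q')) := by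
    refine ⟨hψ, le_inf preimageAlong_le (preimageAlong_le.trans hR'n), fun x => ⟨hψS x, hR'n (hψS x)⟩,
      res ψ hle, res_mem F hψ hle, fun x => rfl, ?_⟩
    rw [map_subgroupOf_eq_range _ le_sup_right]
    refine range_eq_of_forall_mem F (res_mem F (res_mem F hψ hle) _) fun x => ?_
    refine mem_preimageAlong.2 ⟨hψS _, ?_⟩
    show θ ⟨ψ ⟨(x : Ω), hR'V x.2⟩, _⟩ ∈ Q'
    rw [← hind ⟨(x : Ω), hR'V x.2⟩]
    exact h2 ⟨_, (mem_preimageAlong.1 x.2).2⟩
  obtain ⟨-, g, hg, hge⟩ := hin (preimageAlong θ (P' ⊔ Q')) hψE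
  refine ⟨(E'.le_of_mem hφ').1, θ ⟨g, hg⟩, Subgroup.mem_top _, fun y => ?_⟩
  obtain ⟨z, hz⟩ := QuotientGroup.mk'_surjective (W.subgroupOf S) (y : S ⧸ W.subgroupOf S)
  change θ z = (y : S ⧸ W.subgroupOf S) at hz
  have hzV : (z : Ω) ∈ (preimageAlong θ (P' ⊔ Q')) := mem_preimageAlong.2 ⟨z.2, hz ▸ Subgroup.mem_sup_left y.2⟩
  rw [← h1, show (Subgroup.inclusion le_sup_left y : ↥(P' ⊔ Q')) = ⟨θ ⟨(z : Ω), hP hzV⟩, hmem ⟨z, hzV⟩⟩
    from Subtype.ext hz.symm, hind ⟨z, hzV⟩, ← hz]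
  show θ _ = θ ⟨g, hg⟩ * θ z * (θ ⟨g, hg⟩)⁻¹
  rw [← map_inv, ← map_mul, ← map_mul]
  exact congrArg θ (Subtype.ext (hge ⟨z, hzV⟩))

end Cfsg.Agent.H96
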