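import Cfsg.Agent.H96.CentralizeNormal
import Cfsg.Agent.S5127

/-!
Displacements of automorphisms of `T C_S(T)` fixing `T`, of order prime to `p`, are centralized by a normal
subsystem over `T`.
-/

set_option autoImplicit false

namespace Cfsg.Agent.H96

open Cfsg Cfsg.FusionSystem Cfsg.Agent.S5127

variable {Ω : Type*} [Group Ω] {S : Subgroup Ω} {p : ℕ} {F : FusionSystem S} {T : Subgroup Ω} {E : FusionSystem T}
variable [Finite S] [Fact p.Prime]

set_option maxHeartbeats 400000 in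
/-- An element of `C_S(T)` fixed by extensions of all liftable automorphisms is centralized by the subsystem. -/
theorem good_of_fixExt (hS : IsPGroup p S) (hF : F.IsSaturated p) (hE : E.IsNormalIn F p) {y : Ω}
    (hy : y ∈ centralizerIn S T)
    (h : ∀ (U U₁ : Subgroup Ω) (χ : normalizerIn S U →* Ω) (t : Target F U U₁ χ), U ≤ T →
      ∀ a ∈ t.liftGroup, FixExt F U (U.subtype.comp a.toMonoidHom) y) :
    Good F E (Subgroup.zpowers y) := by
  have hI := hE.1.2.2
  have hTS : T ≤ S := hI.2.1.1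
  have := finite_of_le hTS
  have hS' : IsPGroup p T := hS.to_le hTS
  refine good_of_ext hI (Subgroup.zpowers_le.2 hy) fun P φ hφ => ?_
  refine H94.alperin_induction_step hS' hE.1.1 (fun P φ => Ext F (Subgroup.zpowers y) P φ)
    (fun P R h φ _ hC => ext_res h hC) (fun P Q φ ψ _ _ h1 h2 h => ext_comp h1 h2 h)
    (fun U hU hc _ hlarge α hα => ?_) hφ
  have hUT := hU.1
  have hUS := hUT.trans hTS
  have := finite_of_le hUS
  obtain ⟨U₁, χ, t, hE₁, htop⟩ : ∃ (U₁ : Subgroup Ω) (χ : normalizerIn S U →* Ω) (t : Target F U U₁ χ),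
      centralizerIn T U₁ ≤ U₁ ∧ (U = T → E.autGroup U ≤ t.liftGroup) := by
    by_cases hUT' : U = T
    · subst hUT'
      refine ⟨U, _, target_self hI.2.1, ?_, fun _ a ha => ?_⟩
      · exact fun x hx => hx.1
      · obtain ⟨β, hβ, hβT, hβC⟩ := hE.2 a ha
        refine ⟨β, hβ, modTrivial_of_sup (P := centralizerIn S U) inf_le_right (fun x => ?_) (fun x => ?_),
          fun x => Subtype.ext (hβT x)⟩
        · rw [hβT]; exact (a x).2
        · exact (hβC (Subgroup.inclusion le_sup_right x) x.2).1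
    · obtain ⟨U₁, χ, t⟩ := exists_target hS hF hUS
      refine ⟨U₁, χ, t, centralizer_le_of_centric hI hc (res_mem F t.hom t.le_normalizerIn) ?_,
        fun h => absurd h hUT'⟩
      ext z
      constructor
      · rintro ⟨x, rfl⟩; exact t.img _ x.2
      · intro hz
        obtain ⟨x, hx, rfl⟩ := t.sur z hz
        exact ⟨⟨x, hx⟩, rfl⟩
  have hsi := H94.stronglyInvariant_of_invariant hI
  have hAF : E.autGroup U ≤ F.autGroup U := fun a ha =>
    (mem_autGroup F hUS).2 (hI.1 U ((mem_autGroup E hUT).1 ha))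
  obtain ⟨L, hLdef⟩ : ∃ L, L = (t.liftGroup ⊓ E.autGroup U).subgroupOf (E.autGroup U) := ⟨_, rfl⟩
  have hLn : L.Normal := ⟨fun l hl a => by
    rw [hLdef] at hl ⊢
    exact Subgroup.mem_subgroupOf.2 ⟨t.liftGroup_conj hS hF (hAF a.2) (Subgroup.mem_subgroupOf.1 hl).1,
      (a * l * a⁻¹ : E.autGroup U).2⟩⟩
  have hTL : (autInducedBy T U).subgroupOf (E.autGroup U) ≤ L := fun a ha => by
    rw [hLdef]
    exact Subgroup.mem_subgroupOf.2 ⟨t.autInducedBy_le_liftGroup hI.2.1 hE₁ (Subgroup.mem_subgroupOf.1 ha), a.2⟩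
  have hLext : ∀ l ∈ L, Ext F (Subgroup.zpowers y) U (U.subtype.comp (l : MulAut U).toMonoidHom) := fun l hl => by
    rw [hLdef] at hl
    exact h U U₁ χ t hUT _ (Subgroup.mem_subgroupOf.1 hl).1
  obtain ⟨hA, hrec⟩ := H94.fullyNormalized_spec hS' hE.1.1 hU
  obtain ⟨R, hR⟩ := hA.2
  have hRL : (R : Subgroup (E.autGroup U)) ≤ L := hR.le.trans hTL
  obtain ⟨n, hn, l, hl, he⟩ := H94.exists_mul_normalizer_inf R L ⟨α, hα⟩
  rw [inf_eq_left.2 hRL] at hn
  have hnH := (mem_autGroup E hUT).1 n.2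
  have hnExt : Ext F (Subgroup.zpowers y) U (U.subtype.comp (n : MulAut U).toMonoidHom) := by
    by_cases hUT' : U = T
    · subst hUT'
      refine hLext n ?_
      rw [hLdef]
      exact Subgroup.mem_subgroupOf.2 ⟨htop rfl n.2, n.2⟩
    · have hnr : (U.subtype.comp (n : MulAut U).toMonoidHom).range = U :=
        range_eq_of_forall_mem E hnH fun x => ((n : MulAut U) x).2
      obtain ⟨ψ, hψ, hψe⟩ := hrec.2 U _ hnH hnr
      let Nφ := extender T U (U.subtype.comp (n : MulAut U).toMonoidHom)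
      have hUN : U ≤ Nφ := H94.le_extender_aut hUT _
      have hgt : Nat.card U < Nat.card Nφ := by
        have hlt : U < normalizerIn T U := H94.lt_normalizerIn hS' (lt_of_le_of_ne hUT hUT')
        have hNle : normalizerIn T U ≤ Nφ := by
          intro g hg
          obtain ⟨c', hc', hce⟩ := exists_autGroup_of_mem E (E.conj_mem hUT hg.1)
            (fun x => (Subgroup.mem_normalizer_iff.1 hg.2 x).1 x.2)
          refine H94.mem_extender_of_conj (β := c') hg.1 hg.2 hce ?_
          have h1 : (⟨c', hc'⟩ : E.autGroup U) ∈ (R : Subgroup (E.autGroup U)) :=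
            hR.ge (Subgroup.mem_subgroupOf.2 (mem_autInducedBy.2 ⟨g, hg.1, hce⟩))
          exact Subgroup.mem_subgroupOf.1 (hR.le ((Subgroup.mem_normalizer_iff.1 hn _).1 h1))
        have := finite_of_le (E.le_of_mem hψ).1
        exact lt_of_le_of_ne (Subgroup.card_le_of_le hUN) fun h =>
          (hlt.trans_le hNle).ne (Subgroup.eq_of_le_of_card_ge hUN h.ge)
      have h1 := ext_res hUN (hlarge Nφ ψ hψ hgt)
      rwa [show res ψ hUN = U.subtype.comp (n : MulAut U).toMonoidHom from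
        MonoidHom.ext fun x => hψe x x.2 _] at h1
  have h2 := ext_comp (hLext l hl) hnExt fun x => ((l : MulAut U) x).2
  rwa [show ((U.subtype.comp (n : MulAut U).toMonoidHom).comp
      ((U.subtype.comp (l : MulAut U).toMonoidHom).codRestrict U fun x => ((l : MulAut U) x).2)) =
      U.subtype.comp α.toMonoidHom from MonoidHom.ext fun x => by
        show (((n : MulAut U) ((l : MulAut U) x) : U) : Ω) = (α x : U)
        rw [← MulAut.mul_apply, ← Subgroup.coe_mul, ← he]] at h2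

omit [Finite S] [Fact p.Prime] in
/-- An automorphism of `T C` fixing `T` carries `C = C_S(T)` into itself. -/
theorem apply_mem_centralizerIn (hTS : T ≤ S) {C : Subgroup Ω} (hC : C = centralizerIn S T)
    {d : MulAut ↥(T ⊔ C)}
    (hdT : ∀ x : T, d (Subgroup.inclusion le_sup_left x) = Subgroup.inclusion le_sup_left x) (x : C) :
    ((d (Subgroup.inclusion le_sup_right x) : ↥(T ⊔ C)) : Ω) ∈ C := by
  have hx : (x : Ω) ∈ centralizerIn S T := hC ▸ x.2
  have hle : T ⊔ C ≤ S := sup_le hTS (hC ▸ inf_le_left)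
  suffices h : ((d (Subgroup.inclusion le_sup_right x) : ↥(T ⊔ C)) : Ω) ∈ centralizerIn S T by
    generalize ((d (Subgroup.inclusion le_sup_right x) : ↥(T ⊔ C)) : Ω) = z at h ⊢
    rwa [hC]
  refine ⟨hle (d _).2, fun t ht => ?_⟩
  have h1 : Subgroup.inclusion (le_sup_left (b := C)) ⟨t, ht⟩ * Subgroup.inclusion le_sup_right x =
      Subgroup.inclusion le_sup_right x * Subgroup.inclusion le_sup_left ⟨t, ht⟩ := Subtype.ext (hx.2 t ht)
  have h2 := congrArg d h1
  rw [map_mul, map_mul, hdT] at h2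
  exact congrArg Subtype.val h2

set_option maxHeartbeats 200000 in
/-- The normal subsystem centralizes the displacements on `C_S(T)`. -/
theorem good_displacement (hS : IsPGroup p S) (hF : F.IsSaturated p) (hE : E.IsNormalIn F p)
    {C : Subgroup Ω} (hC : C = centralizerIn S T) {d : MulAut ↥(T ⊔ C)} (hd : d ∈ F.autGroup (T ⊔ C))
    (hdT : ∀ x : T, d (Subgroup.inclusion le_sup_left x) = Subgroup.inclusion le_sup_left x)
    {q : ℕ} [Fact q.Prime] (hqp : q ≠ p) {e : ℕ} (hdq : d ^ q ^ e = 1) (c : C) {y : Ω}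
    (hy : y = (c : Ω)⁻¹ * (d (Subgroup.inclusion le_sup_right c) : ↥(T ⊔ C))) :
    Good F E (Subgroup.zpowers y) := by
  have hTS : T ≤ S := hE.1.2.2.2.1.1
  have hdC := apply_mem_centralizerIn hTS hC hdT
  have hyC : y ∈ C := by rw [hy]; exact C.mul_mem (C.inv_mem c.2) (hdC c)
  refine good_of_fixExt hS hF hE (hC ▸ hyC) fun U U₁ χ t hUT a ha => ?_
  have hWS : T ⊔ C ≤ S := sup_le hTS (hC ▸ inf_le_left)
  have hX : U ⊔ C ≤ T ⊔ C := sup_le_sup_right hUT C
  have hXS : U ⊔ C ≤ S := hX.trans hWS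
  have hinv : ∀ x : ↥(U ⊔ C), ((d (Subgroup.inclusion hX x) : ↥(T ⊔ C)) : Ω) ∈ U ⊔ C := by
    let f : ↥(U ⊔ C) →* Ω := (T ⊔ C).subtype.comp (d.toMonoidHom.comp (Subgroup.inclusion hX))
    have hle : U ⊔ C ≤ ((U ⊔ C).comap f).map (U ⊔ C).subtype := by
      refine sup_le (fun g hg => ⟨⟨g, le_sup_left (b := C) hg⟩, ?_, rfl⟩)
        (fun g hg => ⟨⟨g, le_sup_right (a := U) hg⟩, ?_, rfl⟩)
      · show ((d (Subgroup.inclusion le_sup_left ⟨g, hUT hg⟩) : ↥(T ⊔ C)) : Ω) ∈ U ⊔ C
        rw [hdT]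
        exact Subgroup.mem_sup_left hg
      · exact Subgroup.mem_sup_right (hdC ⟨g, hg⟩)
    intro x
    obtain ⟨x', hx', e⟩ := hle x.2
    rw [show x = x' from Subtype.ext e.symm]
    exact hx'
  obtain ⟨φ, hφ, hφe⟩ := exists_restrict hWS hX hd hinv
  have hCU : C ≤ centralizerIn S U :=
    hC ▸ inf_le_inf_left S (Subgroup.centralizer_le hUT)
  obtain ⟨b, hb, hbm, hbR⟩ := t.pullback ha hCU
  have hφR : ∀ x : U, φ (Subgroup.inclusion le_sup_left x) = Subgroup.inclusion le_sup_left x := fun x => by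
    refine Subgroup.inclusion_injective hX ?_
    rw [← hφe]
    exact hdT ⟨x, hUT x.2⟩
  have hφC : ∀ x : C, ((φ (Subgroup.inclusion le_sup_right x) : ↥(U ⊔ C)) : Ω) =
      ((d (Subgroup.inclusion le_sup_right x) : ↥(T ⊔ C)) : Ω) := fun x =>
    (congrArg Subtype.val (hφe (Subgroup.inclusion le_sup_right x))).symm
  have hφq : φ ^ q ^ e = 1 := MulEquiv.ext fun w => Subgroup.inclusion_injective hX (by
    rw [← pow_intertwine (Subgroup.inclusion hX) hφe, hdq]; rfl)
  have hfix := fixExt_displacement hS (R := U) (P := C) hXS (hCU.trans inf_le_right)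
    (γ := U.subtype.comp a.toMonoidHom) (fun x => (a x).2) hφ hφR
    (fun x => by rw [hφC]; exact hdC x) hqp ⟨e, hφq⟩ hb (fun x => congrArg Subtype.val (hbR x)) hbm c
  rw [hφC, ← hy] at hfix
  exact hfix

end Cfsg.Agent.H96
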