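import Cfsg.Agent.H96.Displacement

/-!
Extensions fixing an element: inverses, conjugations, and coprime lifts fixing whatever an extension fixes.
-/

set_option autoImplicit false

namespace Cfsg.Agent.H96

open Cfsg Cfsg.FusionSystem Cfsg.Agent.S5127

variable {Ω : Type*} [Group Ω] {S : Subgroup Ω} {F : FusionSystem S} {p : ℕ}

/-- An element of a join with a cyclic subgroup is the generator. -/
theorem ext_apply_gen {P : Subgroup Ω} {y : Ω} {φ : P →* Ω} (h : Ext F (Subgroup.zpowers y) P φ) :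
    ∃ ψ ∈ F.Hom (P ⊔ Subgroup.zpowers y), (∀ x : P, ψ (Subgroup.inclusion le_sup_left x) = φ x) ∧
      ψ ⟨y, Subgroup.mem_sup_right (Subgroup.mem_zpowers y)⟩ = y := by
  obtain ⟨ψ, hψ, h1, h2⟩ := h
  exact ⟨ψ, hψ, h1, h2 ⟨y, Subgroup.mem_zpowers y⟩⟩

/-- A map fixing `y` gives an extension of its restrictions. -/
theorem ext_of_map {D P : Subgroup Ω} {y : Ω} {ψ : D →* Ω} (hψ : ψ ∈ F.Hom D) (hP : P ≤ D) (hy : y ∈ D)
    (hψy : ψ ⟨y, hy⟩ = y) {φ : P →* Ω} (he : ∀ x : P, ψ ⟨x, hP x.2⟩ = φ x) :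
    Ext F (Subgroup.zpowers y) P φ := by
  have hle : P ⊔ Subgroup.zpowers y ≤ D := sup_le hP (Subgroup.zpowers_le.2 hy)
  refine ⟨res ψ hle, res_mem F hψ hle, fun x => he x, fun x => ?_⟩
  obtain ⟨k, hk⟩ := Subgroup.mem_zpowers_iff.1 x.2
  show ψ ⟨(x : Ω), _⟩ = x
  rw [show (⟨(x : Ω), hle (Subgroup.mem_sup_right x.2)⟩ : D) = ⟨y, hy⟩ ^ k from
    Subtype.ext (by rw [Subgroup.coe_zpow]; exact hk.symm), map_zpow, hψy, hk]

/-- Pointwise equal maps extend simultaneously. -/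
theorem ext_congr {C P : Subgroup Ω} {φ φ' : P →* Ω} (h : Ext F C P φ) (e : ∀ x, φ' x = φ x) :
    Ext F C P φ' := by
  rwa [MonoidHom.ext e]

/-- The inverse of a map extending to one fixing `C` does so. -/
theorem ext_inverse {C P Q : Subgroup Ω} {φ : P →* Ω} (h : Ext F C P φ) (hQ : φ.range = Q) {χ : Q →* Ω}
    (hχ : ∀ x : P, ∀ hx : φ x ∈ Q, χ ⟨φ x, hx⟩ = x) : Ext F C Q χ := by
  obtain ⟨ψ, hψ, h1, h2⟩ := h
  obtain ⟨ι, hι, hιe⟩ := F.inv_mem hψ
  have hle : Q ⊔ C ≤ ψ.range := by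
    refine sup_le ?_ fun c hc => ⟨_, h2 ⟨c, hc⟩⟩
    rw [← hQ]
    rintro _ ⟨x, rfl⟩
    exact ⟨_, h1 x⟩
  refine ⟨res ι hle, res_mem F hι hle, fun z => ?_, fun c => ?_⟩
  · obtain ⟨x, hx⟩ := hQ.ge z.2
    rw [show z = (⟨φ x, hx ▸ z.2⟩ : Q) from Subtype.ext hx.symm, hχ]
    rw [res_apply]
    exact (congrArg ι (Subtype.ext (h1 x).symm : _ = (⟨ψ (Subgroup.inclusion le_sup_left x), ⟨_, rfl⟩⟩ : ψ.range))).trans (hιe _)
  · rw [res_apply]
    exact (congrArg ι (Subtype.ext (h2 c).symm : _ = (⟨ψ (Subgroup.inclusion le_sup_right c), ⟨_, rfl⟩⟩ : ψ.range))).trans (hιe _)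

/-- Conjugations by elements commuting with `y`. -/
theorem ext_conjHom {P : Subgroup Ω} {y t : Ω} (hP : P ≤ S) (hy : y ∈ S) (ht : t ∈ S) (hty : Commute t y)
    {φ : P →* Ω} (he : ∀ x : P, φ x = t * x * t⁻¹) : Ext F (Subgroup.zpowers y) P φ :=
  ext_of_map (F.conj_mem (sup_le hP (Subgroup.zpowers_le.2 hy)) ht) le_sup_left
    (Subgroup.mem_sup_right (Subgroup.mem_zpowers y)) (by
      show t * y * t⁻¹ = y
      rw [hty.eq, mul_inv_cancel_right]) fun x => (he x).symm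

/-- An extension fixing `y` fixes `y u` if the map fixes `u`. -/
theorem ext_mul_of_fixed {P : Subgroup Ω} {y : Ω} {φ : P →* Ω} (h : Ext F (Subgroup.zpowers y) P φ) {u : P}
    (hu : φ u = u) : Ext F (Subgroup.zpowers (y * (u : Ω))) P φ := by
  obtain ⟨ψ, hψ, h1, h2⟩ := ext_apply_gen h
  refine ext_of_map hψ le_sup_left
    (Subgroup.mul_mem _ (Subgroup.mem_sup_right (Subgroup.mem_zpowers y)) (Subgroup.mem_sup_left u.2)) ?_
    fun x => h1 x
  show ψ (⟨y, Subgroup.mem_sup_right (Subgroup.mem_zpowers y)⟩ * Subgroup.inclusion le_sup_left u) = y * u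
  rw [map_mul, h2, h1, hu]

variable [Finite S] [Fact p.Prime]

/-- A lift of prime power order prime to `p` fixes what some extension fixes. -/
theorem fixed_of_ext (hS : IsPGroup p S) (hF : F.IsSaturated p) {U U₁ : Subgroup Ω}
    {χ : normalizerIn S U →* Ω} (t : Target F U U₁ χ) {a : MulAut U} (ha : a ∈ t.liftGroup) {W : Subgroup Ω}
    (hW : W ≤ S) (hUW : U ≤ W) {b : MulAut W} (hb : b ∈ F.autGroup W)
    (hbm : ModTrivial U b) (hbR : ∀ x : U, b (Subgroup.inclusion hUW x) = Subgroup.inclusion hUW (a x))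
    {q : ℕ} [Fact q.Prime] (hqp : q ≠ p) {e : ℕ} (hbq : b ^ q ^ e = 1) {y : Ω} (hy : y ∈ W)
    (hyU : y ∈ centralizerIn S U) (hext : Ext F (Subgroup.zpowers y) U (U.subtype.comp a.toMonoidHom)) :
    b ⟨y, hy⟩ = ⟨y, hy⟩ := by
  set Y : ↥(U ⊔ Subgroup.zpowers y) := ⟨y, Subgroup.mem_sup_right (Subgroup.mem_zpowers y)⟩
  have hX : U ⊔ Subgroup.zpowers y ≤ W := sup_le hUW (Subgroup.zpowers_le.2 hy)
  have := finite_of_le (hX.trans hW)
  obtain ⟨b', hb', hb'e⟩ := exists_restrict hW hX hb fun w => modTrivial_invariant hbm le_sup_left hX w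
  have hb'm : ModTrivial U b' := fun w => by
    have h := hbm (Subgroup.inclusion hX w)
    rw [hb'e] at h
    exact h
  have hb'R : ∀ x : U, b' (Subgroup.inclusion le_sup_left x) = Subgroup.inclusion le_sup_left (a x) := fun x =>
    Subgroup.inclusion_injective hX (by rw [← hb'e]; exact hbR x)
  have hb'q : b' ^ q ^ e = 1 := MulEquiv.ext fun w => Subgroup.inclusion_injective hX (by
    rw [← pow_intertwine (Subgroup.inclusion hX) hb'e, hbq]; rfl)
  obtain ⟨ψ, hψ, hψ1, hψ2⟩ := hext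
  have hmem : ∀ w, ψ w ∈ U ⊔ Subgroup.zpowers y := by
    have h1 : U ⊔ Subgroup.zpowers y ≤
        ((U ⊔ Subgroup.zpowers y).comap ψ).map (U ⊔ Subgroup.zpowers y).subtype :=
      sup_le (fun g hg => ⟨⟨g, le_sup_left (b := Subgroup.zpowers y) hg⟩,
          Subgroup.mem_sup_left ((hψ1 ⟨g, hg⟩).symm ▸ (a ⟨g, hg⟩).2), rfl⟩)
        (fun g hg => ⟨⟨g, le_sup_right (a := U) hg⟩, Subgroup.mem_sup_right ((hψ2 ⟨g, hg⟩).symm ▸ hg), rfl⟩)
    intro w
    obtain ⟨w', hw, e⟩ := h1 w.2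
    rw [show w = w' from Subtype.ext e.symm]
    exact hw
  obtain ⟨b₀, hb₀, hb₀e⟩ := exists_autGroup_of_mem F hψ hmem
  have hb₀R : ∀ x : U, b₀ (Subgroup.inclusion le_sup_left x) = Subgroup.inclusion le_sup_left (a x) :=
    fun x => Subtype.ext ((hb₀e _).trans (hψ1 x))
  have hb₀m : ModTrivial U b₀ := by
    refine modTrivial_of_sup ((Subgroup.zpowers_le.2 hyU).trans inf_le_right) (fun x => ?_) (fun x => ?_)
    · rw [hb₀R]; exact (a x).2
    · rw [hb₀e, hψ2, inv_mul_cancel]; exact U.one_mem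
  have hb₀y : b₀ Y = Y :=
    Subtype.ext ((hb₀e _).trans (hψ2 ⟨y, Subgroup.mem_zpowers y⟩))
  have := t.fixed_of_lift hS hF hqp ha hyU hb₀ hb₀m hb₀R hb₀y hb' hb'm hb'R hb'q
  exact (hb'e Y).trans (congrArg (Subgroup.inclusion hX) this)

/-- An automorphism of prime power order prime to `p` in the lift group has a lift to `U C_S(U)` of prime power
order fixing all that extensions fix. -/
theorem exists_lift_fixing (hS : IsPGroup p S) (hF : F.IsSaturated p) {U U₁ : Subgroup Ω}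
    {χ : normalizerIn S U →* Ω} (t : Target F U U₁ χ) {a : MulAut U} (ha : a ∈ t.liftGroup)
    {q : ℕ} [Fact q.Prime] (hqp : q ≠ p) {e : ℕ} (haq : a ^ q ^ e = 1) :
    ∃ (b : MulAut ↥(U ⊔ centralizerIn S U)) (e' : ℕ), b ∈ F.autGroup (U ⊔ centralizerIn S U) ∧
      ModTrivial U b ∧ b ^ q ^ e' = 1 ∧
      (∀ x : U, b (Subgroup.inclusion le_sup_left x) = Subgroup.inclusion le_sup_left (a x)) ∧
      ∀ (y : Ω) (hy : y ∈ centralizerIn S U), Ext F (Subgroup.zpowers y) U (U.subtype.comp a.toMonoidHom) →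
        b ⟨y, Subgroup.mem_sup_right hy⟩ = ⟨y, Subgroup.mem_sup_right hy⟩ := by
  have hWS : U ⊔ centralizerIn S U ≤ S := sup_le t.le inf_le_left
  have := finite_of_le hWS
  have : Finite (MulAut ↥(U ⊔ centralizerIn S U)) :=
    Finite.of_injective (fun a : MulAut _ => (a : _ → _)) DFunLike.coe_injective
  obtain ⟨b, hb, hbm, hbR⟩ := t.pullback ha (le_refl (centralizerIn S U))
  obtain ⟨s, ⟨e', hbq⟩, hbu⟩ := exists_qLift (Subgroup.inclusion le_sup_left) hbR ⟨e, haq⟩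
  have hbm' : ModTrivial U (b ^ s) := by
    clear hbq hbu
    induction s with
    | zero => exact modTrivial_one
    | succ s ih => rw [pow_succ]; exact modTrivial_mul ih hbm
  exact ⟨b ^ s, e', pow_mem hb s, hbm', hbq, hbu, fun y hy hext =>
    fixed_of_ext hS hF t ha hWS le_sup_left (pow_mem hb s) hbm' hbu hqp hbq _ hy hext⟩

/-- If extensions of a coprime automorphism fix `y` and `y u`, the automorphism fixes `u`. -/
theorem apply_eq_of_ext_pair (hS : IsPGroup p S) (hF : F.IsSaturated p) {U U₁ : Subgroup Ω}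
    {χ : normalizerIn S U →* Ω} (t : Target F U U₁ χ) {a : MulAut U} (ha : a ∈ t.liftGroup)
    {q : ℕ} [Fact q.Prime] (hqp : q ≠ p) {e : ℕ} (haq : a ^ q ^ e = 1) {y : Ω} {u : U}
    (hy : y ∈ centralizerIn S U) (hyu : y * (u : Ω) ∈ centralizerIn S U)
    (h1 : Ext F (Subgroup.zpowers y) U (U.subtype.comp a.toMonoidHom))
    (h2 : Ext F (Subgroup.zpowers (y * (u : Ω))) U (U.subtype.comp a.toMonoidHom)) : a u = u := by
  obtain ⟨b, e', -, -, -, hbR, hfix⟩ := exists_lift_fixing hS hF t ha hqp haq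
  have e1 := hfix y hy h1
  have e2 := hfix _ hyu h2
  rw [show (⟨y * (u : Ω), Subgroup.mem_sup_right hyu⟩ : ↥(U ⊔ centralizerIn S U)) =
    ⟨y, Subgroup.mem_sup_right hy⟩ * Subgroup.inclusion le_sup_left u from rfl, map_mul, e1, hbR] at e2
  exact Subgroup.inclusion_injective _ (mul_left_cancel e2)

/-- An extension on a smaller subgroup `J` carrying an element fixes it also on the larger one. -/
theorem ext_of_ext_restrict (hS : IsPGroup p S) (hF : F.IsSaturated p) {U U₁ J J₁ : Subgroup Ω}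
    {χ : normalizerIn S U →* Ω} (t : Target F U U₁ χ) {χJ : normalizerIn S J →* Ω} (tJ : Target F J J₁ χJ)
    (hJU : J ≤ U) (hJc : centralizerIn U J ≤ J) {a : MulAut U} (ha : a ∈ t.liftGroup) {aJ : MulAut J}
    (haJ : aJ ∈ tJ.liftGroup) (he : ∀ x : J, a (Subgroup.inclusion hJU x) = Subgroup.inclusion hJU (aJ x))
    {q : ℕ} [Fact q.Prime] (hqp : q ≠ p) {e : ℕ} (haq : a ^ q ^ e = 1) {y : Ω}
    (hy : y ∈ centralizerIn S U) (hext : Ext F (Subgroup.zpowers y) J (J.subtype.comp aJ.toMonoidHom)) :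
    Ext F (Subgroup.zpowers y) U (U.subtype.comp a.toMonoidHom) := by
  obtain ⟨b, e', hb, hbm, hbq, hbR, -⟩ := exists_lift_fixing hS hF t ha hqp haq
  have hVS : (U ⊔ centralizerIn S U : Subgroup Ω) ≤ S := sup_le t.le inf_le_left
  have hyJ : y ∈ centralizerIn S J := ⟨hy.1, Subgroup.centralizer_le hJU hy.2⟩
  have hzy : Subgroup.zpowers y ≤ Subgroup.centralizer (J : Set Ω) :=
    Subgroup.zpowers_le.2 hyJ.2
  have hWV : J ⊔ Subgroup.zpowers y ≤ (U ⊔ centralizerIn S U : Subgroup Ω) :=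
    sup_le (hJU.trans le_sup_left) (Subgroup.zpowers_le.2 (Subgroup.mem_sup_right hy))
  have hJb : ∀ x : J, ((b (Subgroup.inclusion (hJU.trans le_sup_left) x) : (U ⊔ centralizerIn S U : Subgroup Ω)) : Ω) = (aJ x : J) := fun x => by
    rw [show Subgroup.inclusion (hJU.trans le_sup_left) x =
      Subgroup.inclusion le_sup_left (Subgroup.inclusion hJU x) from rfl, hbR, he]
    rfl
  -- the displacement of `y`
  have hd : y⁻¹ * ((b ⟨y, Subgroup.mem_sup_right hy⟩ : (U ⊔ centralizerIn S U : Subgroup Ω)) : Ω) ∈ J := by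
    refine hJc ⟨hbm ⟨y, Subgroup.mem_sup_right hy⟩, fun j hj => ?_⟩
    obtain ⟨x, hx⟩ := aJ.surjective ⟨j, hj⟩
    have e1 : j = ((b (Subgroup.inclusion (hJU.trans le_sup_left) x) : (U ⊔ centralizerIn S U : Subgroup Ω)) : Ω) := by rw [hJb, hx]
    have h1 : Commute j y := hyJ.2 j hj
    have h2 : Commute j ((b ⟨y, Subgroup.mem_sup_right hy⟩ : (U ⊔ centralizerIn S U : Subgroup Ω)) : Ω) := by
      rw [e1, Commute, SemiconjBy, ← Subgroup.coe_mul, ← Subgroup.coe_mul, ← map_mul, ← map_mul]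
      exact congrArg (fun w => ((b w : (U ⊔ centralizerIn S U : Subgroup Ω)) : Ω)) (Subtype.ext (hyJ.2 x x.2))
    exact (h1.inv_right.mul_right h2).eq
  have hinv : ∀ x : ↥(J ⊔ Subgroup.zpowers y),
      ((b (Subgroup.inclusion hWV x) : (U ⊔ centralizerIn S U : Subgroup Ω)) : Ω) ∈ J ⊔ Subgroup.zpowers y := by
    let f : ↥(J ⊔ Subgroup.zpowers y) →* Ω :=
      (U ⊔ centralizerIn S U).subtype.comp (b.toMonoidHom.comp (Subgroup.inclusion hWV))
    refine H93.apply_mem_sup (ψ := f) (fun x => Subgroup.mem_sup_left ?_) fun x => ?_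
    · show ((b (Subgroup.inclusion (hJU.trans le_sup_left) x) : (U ⊔ centralizerIn S U : Subgroup Ω)) : Ω) ∈ J
      rw [hJb]; exact (aJ x).2
    · obtain ⟨k, hk⟩ := Subgroup.mem_zpowers_iff.1 x.2
      rw [show Subgroup.inclusion le_sup_right x =
        (⟨y, Subgroup.mem_sup_right (Subgroup.mem_zpowers y)⟩ : ↥(J ⊔ Subgroup.zpowers y)) ^ k from
          Subtype.ext (by rw [Subgroup.coe_zpow]; exact hk.symm), map_zpow]
      refine Subgroup.zpow_mem _ ?_ k
      show ((b ⟨y, _⟩ : (U ⊔ centralizerIn S U : Subgroup Ω)) : Ω) ∈ _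
      have := Subgroup.mul_mem (J ⊔ Subgroup.zpowers y) (Subgroup.mem_sup_right (Subgroup.mem_zpowers y))
        (Subgroup.mem_sup_left hd)
      rwa [mul_inv_cancel_left] at this
  obtain ⟨c, hc, hce⟩ := exists_restrict hVS hWV hb hinv
  have hcm : ModTrivial J c := by
    refine modTrivial_of_sup hzy (fun x => ?_) fun x => ?_
    · have e1 : ((b (Subgroup.inclusion hWV (Subgroup.inclusion le_sup_left x)) : ↥(U ⊔ centralizerIn S U)) : Ω) =
          ((c (Subgroup.inclusion le_sup_left x) : ↥(J ⊔ Subgroup.zpowers y)) : Ω) := congrArg Subtype.val (hce _)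
      rw [← e1]
      show ((b (Subgroup.inclusion (hJU.trans le_sup_left) x) : (U ⊔ centralizerIn S U : Subgroup Ω)) : Ω) ∈ J
      rw [hJb]; exact (aJ x).2
    · obtain ⟨k, hk⟩ := Subgroup.mem_zpowers_iff.1 x.2
      have e1 : ((b (Subgroup.inclusion hWV (Subgroup.inclusion le_sup_right x)) : ↥(U ⊔ centralizerIn S U)) : Ω) =
          ((c (Subgroup.inclusion le_sup_right x) : ↥(J ⊔ Subgroup.zpowers y)) : Ω) := congrArg Subtype.val (hce _)
      rw [← e1]
      rw [show Subgroup.inclusion hWV (Subgroup.inclusion le_sup_right x) =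
        (⟨y, Subgroup.mem_sup_right hy⟩ : (U ⊔ centralizerIn S U : Subgroup Ω)) ^ k from
          Subtype.ext (by rw [Subgroup.coe_zpow]; exact hk.symm), map_zpow, Subgroup.coe_zpow, ← hk]
      generalize hd' : y⁻¹ * ((b ⟨y, Subgroup.mem_sup_right hy⟩ : (U ⊔ centralizerIn S U : Subgroup Ω)) : Ω) = d at hd
      rw [show ((b ⟨y, Subgroup.mem_sup_right hy⟩ : (U ⊔ centralizerIn S U : Subgroup Ω)) : Ω) = y * d by rw [← hd', mul_inv_cancel_left],
        (show Commute y d from (hyJ.2 d hd).symm).mul_zpow, inv_mul_cancel_left]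
      exact J.zpow_mem hd k
  have hcR : ∀ x : J, c (Subgroup.inclusion le_sup_left x) = Subgroup.inclusion le_sup_left (aJ x) := fun x =>
    Subgroup.inclusion_injective hWV (by rw [← hce]; exact Subtype.ext (hJb x))
  have hcq : c ^ q ^ e' = 1 := MulEquiv.ext fun w => Subgroup.inclusion_injective hWV (by
    rw [← pow_intertwine (Subgroup.inclusion hWV) hce, hbq]; rfl)
  have hfix := fixed_of_ext hS hF tJ haJ (hWV.trans hVS) le_sup_left hc hcm hcR hqp hcq
    (Subgroup.mem_sup_right (Subgroup.mem_zpowers y)) hyJ hext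
  refine ext_of_map ((mem_autGroup F hVS).1 hb) le_sup_left (Subgroup.mem_sup_right hy) ?_
    fun x => congrArg Subtype.val (hbR x)
  show ((b ⟨y, _⟩ : (U ⊔ centralizerIn S U : Subgroup Ω)) : Ω) = y
  exact congrArg Subtype.val ((hce ⟨y, _⟩).trans (congrArg (Subgroup.inclusion hWV) hfix))

end Cfsg.Agent.H96
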