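import Cfsg.Agent.H96.GoodAt
import Cfsg.Agent.H96.ThompsonCenter
import Cfsg.Agent.H96.Subnormal
import Cfsg.Agent.H94.FactorSaturated

/-!
Steps of the Glauberman–Thompson criterion for fusion systems: goodness and factor systems.
-/
set_option autoImplicit false

namespace Cfsg.Agent.H96

open Cfsg Cfsg.FusionSystem
open H94 (mem_preimageAlong preimageAlong_le mem_imageAlong)

universe u

variable {Ω : Type u} [Group Ω] {S : Subgroup Ω} [Finite S] {F : FusionSystem S} {p : ℕ}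
  {D : Subgroup Ω}

/-- If `D` is normal, goodness at `Z(J(D))` makes the system inner. -/
theorem isInner_of_normal (hD : F.IsNormal D) (hW : GoodAt F p (centerThompsonAOf D)) : IsInner F p := by
  intro U hU a ha
  obtain ⟨ψ, hψ, h1, h2⟩ := exists_ext_of_normal hD ((mem_autGroup F hU).1 ha)
  have hsc := H93.IsNormal.stronglyClosed hD
  have hmem : ∀ y, ψ y ∈ U ⊔ D := H93.apply_mem_sup
    (fun x => Subgroup.mem_sup_left (h1 x ▸ (a x).2)) fun x => Subgroup.mem_sup_right (h2 x)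
  obtain ⟨b, hb, hbe⟩ := exists_autGroup_of_mem F hψ hmem
  have hle : U ⊔ D ≤ S := sup_le hU hD.1
  obtain ⟨k, hk⟩ := hW (U ⊔ D) hle ((H35.centerThompsonAOf_le D).trans le_sup_right)
    (fun g hg => mem_normalizer_centerThompsonAOf hD.1 (H93.StronglyClosed.le_normalizer hsc (hle hg)))
    b hb fun x hx => by
      rw [hbe]
      refine apply_mem_centerThompsonAOf (F.injective_of_mem hψ) le_sup_right ?_ hx
      rw [map_subgroupOf_eq_range ψ le_sup_right]
      exact range_eq_of_forall_mem F (res_mem F hψ le_sup_right) fun x => h2 x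
  have hpow : ∀ (j : ℕ) (x : U),
      (((b ^ j) (Subgroup.inclusion le_sup_left x) : ↥(U ⊔ D)) : Ω) = ((a ^ j) x : U) := by
    intro j
    induction j with
    | zero => intro x; rfl
    | succ j ih =>
      intro x
      rw [pow_succ', pow_succ', MulAut.mul_apply, MulAut.mul_apply, hbe]
      rw [show (b ^ j) (Subgroup.inclusion le_sup_left x) = Subgroup.inclusion le_sup_left ((a ^ j) x)
        from Subtype.ext (ih x)]
      exact h1 _
  refine ⟨k, MulEquiv.ext fun x => Subtype.ext ?_⟩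
  rw [← hpow, hk]
  rfl

/-- The intersection of a normal and a strongly closed subgroup is normal. -/
theorem isNormal_inf_stronglyClosed [Fact p.Prime] (hS : IsPGroup p S) (hF : F.IsSaturated p)
    {C : Subgroup Ω} (hC : F.IsNormal C) (hD : F.StronglyClosed D) : F.IsNormal (C ⊓ D) := by
  refine isNormal_of_aut_extend hS hF (inf_le_left.trans hC.1) fun P hP φ hφ => ?_
  obtain ⟨ψ, hψ, h1, h2⟩ := exists_ext_of_normal hC hφ
  have hle : C ⊓ D ≤ P ⊔ C := inf_le_left.trans le_sup_right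
  obtain ⟨a, -, hae⟩ := exists_autGroup_of_mem F (res_mem F hψ hle) fun x =>
    ⟨h2 ⟨x, x.2.1⟩, H93.StronglyClosed.apply_mem hD hψ _ x.2.2⟩
  refine ⟨a, fun x => ?_⟩
  rw [hae, ← h1 x]
  exact congrArg ψ (Subtype.ext rfl)

/-- The statement that is proved by induction. -/
def GTStatement (p n m : ℕ) : Prop :=
  ∀ {Ω : Type u} [Group Ω] {S : Subgroup Ω} [Finite S], IsPGroup p S → Nat.card S = n →
    ∀ (F : FusionSystem S), (mapGraphs F).ncard = m → F.IsSaturated p → ∀ D : Subgroup Ω,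
      F.StronglyClosed D → GoodAt F p (centerThompsonAOf D) → IsInner F p

variable [Fact p.Prime]

/-- A fully normalized subgroup that is not normal is good when `Z(J)` of the part of `D` normalizing it is. -/
theorem goodAt_of_not_normal (hS : IsPGroup p S) (hF : F.IsSaturated p) (hD : F.StronglyClosed D)
    {n m : ℕ} (hn : Nat.card S = n) (hm : (mapGraphs F).ncard = m)
    (ihn : ∀ n' < n, ∀ m', GTStatement.{u} p n' m') (ihm : ∀ m' < m, GTStatement.{u} p n m')
    {Q : Subgroup Ω} (hQ : F.IsFullyNormalized Q) (hnn : ¬ F.IsNormal Q)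
    (hgood : GoodAt F p (centerThompsonAOf (D ⊓ normalizerIn S Q))) : GoodAt F p Q := by
  refine goodAt_of_isInner_normalizerSystem hQ.1 ?_
  set E := H93.normalizerSystem F Q hQ.1
  have hle := H93.normalizerIn_le S Q
  have := finite_of_le hle
  have hE : E.IsSaturated p :=
    H93.IsNormalizerSystem.isSaturated hS hF hQ (show F.IsNormalizerSystem Q E from fun _ => rfl)
  have hDE : E.StronglyClosed (D ⊓ normalizerIn S Q) :=
    ⟨inf_le_right, fun R hR φ hφ x => ⟨hD.2 R (hR.trans inf_le_left) φ hφ.1 x, hφ.2.2.1 x⟩⟩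
  have hgE : GoodAt E p (centerThompsonAOf (D ⊓ normalizerIn S Q)) :=
    fun U hU hWU hUN a ha hst => hgood U (hU.trans hle) hWU hUN a
      ((mem_autGroup F (hU.trans hle)).2 ((mem_autGroup E hU).1 ha).1) hst
  rcases eq_or_lt_of_le (Subgroup.card_le_of_le hle) with hc | hc
  · refine ihm _ ?_ (hS.to_le hle) (hc.trans hn) E rfl hE _ hDE hgE
    refine hm ▸ mapGraphs_ncard_lt (fun P φ hφ => hφ.1) ?_
    by_contra hcon
    push Not at hcon
    refine hnn ⟨hQ.1, fun P φ hφ => ?_⟩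
    exact (hcon P φ hφ).2.2.2
  · exact ihn _ (hn ▸ hc) _ (hS.to_le hle) rfl E rfl hE _ hDE hgE

/-- Without a nontrivial normal subgroup, the system is inner. -/
theorem isInner_of_core_eq_bot (hS : IsPGroup p S) (hF : F.IsSaturated p) (hD : F.StronglyClosed D)
    {n m : ℕ} (hn : Nat.card S = n) (hm : (mapGraphs F).ncard = m)
    (ihn : ∀ n' < n, ∀ m', GTStatement.{u} p n' m') (ihm : ∀ m' < m, GTStatement.{u} p n m')
    (hW : GoodAt F p (centerThompsonAOf D)) (hcore : F.core = ⊥) : IsInner F p := by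
  refine isInner_of_goodAt hS hF ?_
  have hnn : ∀ Q : Subgroup Ω, Q ≠ ⊥ → ¬ F.IsNormal Q := fun Q hne hQ =>
    hne (le_bot_iff.1 (hcore ▸ (le_sSup hQ : Q ≤ F.core)))
  set B := Nat.card D
  suffices hk : ∀ k (Q : Subgroup Ω), Q ≠ ⊥ → F.IsFullyNormalized Q →
      B - Nat.card ↥(D ⊓ normalizerIn S Q) = k → GoodAt F p Q from
    fun Q h1 h2 => hk _ Q h1 h2 rfl
  intro k
  induction k using Nat.strong_induction_on with
  | _ k ih =>
  intro Q hne hQ hk
  refine goodAt_of_not_normal hS hF hD hn hm ihn ihm hQ (hnn Q hne) ?_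
  set DE := D ⊓ normalizerIn S Q with hDEdef
  by_cases hfull : DE = D
  · rw [hfull]; exact hW
  have hlt : DE < D := lt_of_le_of_ne inf_le_left hfull
  have hDfin := finite_of_le hD.1
  have hDES : DE ≤ S := inf_le_left.trans hD.1
  have hDEne : DE ≠ ⊥ := by
    intro e
    have hDne : D ≠ ⊥ := fun e' => hfull (by rw [e, e'])
    refine inf_center_ne_bot' hS hD.1 (H93.StronglyClosed.le_normalizer hD) hDne (eq_bot_iff.2 ?_)
    intro z hz
    rw [← e]
    refine ⟨hz.1, hD.1 hz.1, Subgroup.centralizer_le_normalizer (Q : Set Ω) ?_⟩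
    intro q hq
    exact hz.2 q (hQ.1 hq)
  set W := centerThompsonAOf DE
  have hWS : W ≤ S := (H35.centerThompsonAOf_le DE).trans hDES
  have hWne : W ≠ ⊥ := centerThompsonAOf_ne_bot hS hDES hDEne
  have hlt2 : DE < D ⊓ normalizerIn S W := by
    refine (H93.lt_inf_normalizer (hS.to_le hD.1) hlt).trans_le ?_
    exact le_inf inf_le_left fun g hg =>
      ⟨hD.1 hg.1, mem_normalizer_centerThompsonAOf hDES hg.2⟩
  obtain ⟨W', ι, hW', hι, hval, hconj, htr⟩ := exists_fn_transport hS hF hWS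
  refine htr (ih (B - Nat.card ↥(D ⊓ normalizerIn S W')) ?_ W' ?_ hW' rfl)
  · have hX : D ⊓ normalizerIn S W ≤ normalizerIn S W := inf_le_right
    have hY : (res ι hX).range ≤ D ⊓ normalizerIn S W' := by
      rintro _ ⟨x, rfl⟩
      exact ⟨H93.StronglyClosed.apply_mem hD hι _ x.2.1, hval _⟩
    have := finite_of_le (S := S) (P := D ⊓ normalizerIn S W') (inf_le_left.trans hD.1)
    have h1 := Subgroup.card_le_of_le hY
    rw [card_range_eq F (res_mem F hι hX)] at h1
    have := finite_of_le (S := S) (P := D ⊓ normalizerIn S W) (inf_le_left.trans hD.1)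
    have hc : Nat.card DE < Nat.card ↥(D ⊓ normalizerIn S W) :=
      lt_of_le_of_ne (Subgroup.card_le_of_le hlt2.le) fun e =>
        hlt2.ne (Subgroup.eq_of_le_of_card_ge hlt2.le e.ge)
    have h2 : Nat.card ↥(D ⊓ normalizerIn S W') ≤ B := Subgroup.card_le_of_le inf_le_left
    omega
  · rintro rfl
    refine hWne ?_
    have := finite_of_le hWS
    exact Subgroup.eq_bot_of_card_eq W ((H93.isConj_card_eq hconj).trans Subgroup.card_bot)

/-- Modulo a nontrivial normal subgroup `A` with `D ∩ O_p(F) ≤ A`, either the system is inner or automorphisms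
of subgroups above `A` are `p`-elements. -/
theorem isInner_or_pow_mem (hS : IsPGroup p S) (hF : F.IsSaturated p) (hD : F.StronglyClosed D)
    {n m : ℕ} (hn : Nat.card S = n) (hm : (mapGraphs F).ncard = m)
    (ihn : ∀ n' < n, ∀ m', GTStatement.{u} p n' m') (ihm : ∀ m' < m, GTStatement.{u} p n m')
    (hW : GoodAt F p (centerThompsonAOf D)) {A : Subgroup Ω} (hA : F.IsNormal A) (hAne : A ≠ ⊥)
    (hDA : F.core ⊓ D ≤ A) (hDA' : D ≤ A → F.IsNormal D) :
    IsInner F p ∨ ∀ V : Subgroup Ω, V ≤ S → A ≤ V → ∀ b ∈ F.autGroup V,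
      ∃ k : ℕ, ∀ x : V, ((x⁻¹ * (b ^ p ^ k) x : V) : Ω) ∈ A := by
  have hAsc := H93.IsNormal.stronglyClosed hA
  set N := A.subgroupOf S with hN
  have : N.Normal := (Subgroup.normal_subgroupOf_iff_le_normalizer hA.1).2
    (H93.StronglyClosed.le_normalizer hAsc)
  set θ := QuotientGroup.mk' N with hθ
  have hker : ∀ s : S, θ s = 1 ↔ (s : Ω) ∈ A := fun s => QuotientGroup.eq_one_iff s
  have hrange : θ.range = ⊤ := MonoidHom.range_eq_top.2 (QuotientGroup.mk'_surjective N)
  obtain ⟨E, hE⟩ := H94.exists_factorSystem F A hAsc θ hker hrange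
  have hEsat := H94.factor_isSaturated hS hF hAsc hE
  have hq : IsPGroup p (S ⧸ N) := hS.to_quotient N
  have htop : IsPGroup p (⊤ : Subgroup (S ⧸ N)) := hq.to_subgroup ⊤
  have hcard : Nat.card (⊤ : Subgroup (S ⧸ N)) < n := by
    rw [Subgroup.card_top, ← hn, Subgroup.card_eq_card_quotient_mul_card_subgroup N]
    refine lt_mul_of_one_lt_right Nat.card_pos ?_
    rw [Subgroup.one_lt_card_iff_ne_bot]
    intro e
    rw [hN, Subgroup.subgroupOf_eq_bot, disjoint_iff, inf_of_le_left hA.1] at e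
    exact hAne e
  have hDbar : E.StronglyClosed (imageAlong θ D) := by
    refine ⟨le_top, fun R hR φ' hφ' y => ?_⟩
    obtain ⟨-, φ, hφ, hP, hφS, hmem, hind⟩ := (hE.2.2.2 R φ').1 hφ'
    obtain ⟨s, hs, hsy⟩ := mem_imageAlong.1 (hR y.2)
    have hsR : (s : Ω) ∈ preimageAlong θ R := mem_preimageAlong.2 ⟨s.2, hsy ▸ y.2⟩
    have h := hind ⟨s, hsR⟩
    rw [show (⟨θ ⟨(s : Ω), hP hsR⟩, hmem ⟨s, hsR⟩⟩ : R) = y from Subtype.ext hsy] at h
    rw [h]
    exact mem_imageAlong.2 ⟨_, H93.StronglyClosed.apply_mem hD hφ ⟨s, hsR⟩ hs, rfl⟩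
  set Wb := centerThompsonAOf (imageAlong θ D) with hWb
  set W2 := preimageAlong θ Wb with hW2
  have hDn : (D.subgroupOf S).Normal :=
    (Subgroup.normal_subgroupOf_iff_le_normalizer hD.1).2 (H93.StronglyClosed.le_normalizer hD)
  have hWbn : Wb.Normal := by
    rw [← Subgroup.normalizer_eq_top_iff, ← top_le_iff]
    refine le_trans ?_ (H35.normalizer_le_normalizer_centerThompsonAOf _)
    rw [Subgroup.normalizer_eq_top_iff.2]
    exact hDn.map θ (QuotientGroup.mk'_surjective N)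
  have hW2S : W2 ≤ S := preimageAlong_le
  have hW2n : S ≤ Subgroup.normalizer (W2 : Set Ω) := by
    refine (Subgroup.normal_subgroupOf_iff_le_normalizer hW2S).1 ?_
    have e : W2.subgroupOf S = Wb.comap θ :=
      Subgroup.comap_map_eq_self_of_injective S.subtype_injective _
    rw [e]
    exact hWbn.comap θ
  have hfin : Finite (S ⧸ N) := inferInstance
  by_cases hW2F : F.IsNormal W2
  · left
    refine isInner_of_normal (hDA' ?_) hW
    have hDbot : imageAlong θ D = ⊥ := by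
      by_contra hne
      refine centerThompsonAOf_ne_bot htop le_top hne (eq_bot_iff.2 fun y hy => ?_)
      obtain ⟨s, hs, rfl⟩ := mem_imageAlong.1 (H35.centerThompsonAOf_le _ hy)
      have hsA : (s : Ω) ∈ A := hDA ⟨(le_sSup hW2F : W2 ≤ F.core) (mem_preimageAlong.2 ⟨s.2, hy⟩), hs⟩
      exact Subgroup.mem_bot.2 ((hker s).2 hsA)
    intro d hd
    refine (hker ⟨d, hD.1 hd⟩).1 ?_
    rw [← Subgroup.mem_bot, ← hDbot]
    exact mem_imageAlong.2 ⟨⟨d, hD.1 hd⟩, hd, rfl⟩
  right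
  have hNS : normalizerIn S W2 = S := inf_of_le_left hW2n
  have hW2fn : F.IsFullyNormalized W2 :=
    ⟨hW2S, fun Q _ => by rw [hNS]; exact Subgroup.card_le_of_le inf_le_left⟩
  have hgood : GoodAt F p W2 := goodAt_of_not_normal hS hF hD hn hm ihn ihm hW2fn hW2F
    (by rw [hNS, inf_of_le_left hD.1]; exact hW)
  have hAV : ∀ P' : Subgroup (S ⧸ N), A ≤ preimageAlong θ P' :=
    H94.le_preimageAlong hAsc hker
  have hgE : GoodAt E p Wb := by
    intro U' hU' hWU hUN a' ha' hst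
    obtain ⟨-, φ, hφ, hP, hφS, hmem, hind⟩ := (hE.2.2.2 U' _).1 ((mem_autGroup E hU').1 ha')
    have hself : ∀ x : preimageAlong θ U', φ x ∈ preimageAlong θ U' := fun x => by
      refine mem_preimageAlong.2 ⟨hφS x, ?_⟩
      rw [← hind x]
      exact (a' _).2
    obtain ⟨b, hb, hbe⟩ := exists_autGroup_of_mem F hφ hself
    obtain ⟨k, hk⟩ := hgood _ preimageAlong_le
      (fun x hx => mem_preimageAlong.2 ⟨(mem_preimageAlong.1 hx).1, hWU (mem_preimageAlong.1 hx).2⟩)
      (preimageAlong_le.trans hW2n) b hb fun x hx => by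
        rw [hbe]
        refine mem_preimageAlong.2 ⟨hφS x, ?_⟩
        rw [← hind x]
        exact hst _ (mem_preimageAlong.1 hx).2
    have hpow : ∀ (j : ℕ) (x : preimageAlong θ U'),
        (((a' ^ j) ⟨θ ⟨x, hP x.2⟩, hmem x⟩ : U') : S ⧸ N) = θ ⟨((b ^ j) x : _), hP ((b ^ j) x).2⟩ := by
      intro j
      induction j with
      | zero => intro x; rfl
      | succ j ih =>
        intro x
        rw [pow_succ', MulAut.mul_apply]
        rw [show (a' ^ j) ⟨θ ⟨x, hP x.2⟩, hmem x⟩ = ⟨_, hmem ((b ^ j) x)⟩ from Subtype.ext (ih x)]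
        refine (hind _).trans (congrArg θ (Subtype.ext ?_))
        rw [pow_succ', MulAut.mul_apply, hbe]
    refine ⟨k, MulEquiv.ext fun y => Subtype.ext ?_⟩
    obtain ⟨x, hxS, hxP, hxy⟩ := H94.exists_lift_preimageAlong hrange hU' y
    rw [show y = ⟨θ ⟨x, hP hxP⟩, hmem ⟨x, hxP⟩⟩ from Subtype.ext hxy.symm, hpow _ ⟨x, hxP⟩, hk]
    rfl
  have hEin : IsInner E p := ihn _ hcard _ htop rfl E rfl hEsat _ hDbar hgE
  intro V hV hAV' b hb
  obtain ⟨φ', hφ', hP, hφS, hmem, hind⟩ :=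
    (H94.factor_isSurjectiveMorphism hS hF hAsc hE).1.2 V _ ((mem_autGroup F hV).1 hb)
  have hself : ∀ y : imageAlong θ V, φ' y ∈ imageAlong θ V := by
    intro y
    obtain ⟨s, hs, hsy⟩ := mem_imageAlong.1 y.2
    rw [show y = ⟨θ ⟨s, hP hs⟩, hmem ⟨s, hs⟩⟩ from Subtype.ext hsy.symm, hind ⟨s, hs⟩]
    exact mem_imageAlong.2 ⟨_, (b ⟨s, hs⟩).2, rfl⟩
  obtain ⟨a', ha', hae⟩ := exists_autGroup_of_mem E hφ' hself
  obtain ⟨k, hk⟩ := hEin _ le_top a' ha'
  have hpow : ∀ (j : ℕ) (x : V),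
      (((a' ^ j) ⟨θ ⟨x, hP x.2⟩, hmem x⟩ : imageAlong θ V) : S ⧸ N) = θ ⟨((b ^ j) x : V), hV ((b ^ j) x).2⟩ := by
    intro j
    induction j with
    | zero => intro x; rfl
    | succ j ih =>
      intro x
      rw [pow_succ', MulAut.mul_apply]
      rw [show (a' ^ j) ⟨θ ⟨x, hP x.2⟩, hmem x⟩ = ⟨_, hmem ((b ^ j) x)⟩ from Subtype.ext (ih x), hae]
      refine (hind _).trans (congrArg θ (Subtype.ext ?_))
      rw [pow_succ', MulAut.mul_apply]
      rfl
  refine ⟨k, fun x => ?_⟩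
  have h := hpow (p ^ k) x
  rw [hk] at h
  refine (hker (⟨(x : Ω), hV x.2⟩⁻¹ * ⟨((b ^ p ^ k) x : V), hV ((b ^ p ^ k) x).2⟩)).1 ?_
  rw [map_mul, map_inv, ← h]
  exact inv_mul_cancel _

end Cfsg.Agent.H96
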