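import Cfsg.Agent.H22.Frobenius

/-!
A normal `p`-complement from `p`-power local automisers inside one Sylow subgroup.
-/
set_option autoImplicit false

namespace Cfsg.Agent.H96

open Cfsg Subgroup

variable {G : Type*} [Group G] {K : Type*} [Group K] {p : ℕ}

/-- If, modulo a `p`-group kernel, every element normalizing a subgroup of a Sylow subgroup has a
`p`-power centralizing it, then the quotient has a normal `p`-complement. -/
theorem hasNormalPComplement_of_local_pow [Fact p.Prime] [Finite G] [Finite K] (P : Sylow p G) (f : G →* K)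
    (hf : Function.Surjective f) (hker : f.ker ≤ P)
    (h : ∀ X : Subgroup G, f.ker ≤ X → X ≤ P → ∀ g ∈ normalizer (X : Set G),
      ∃ k : ℕ, ∀ x ∈ X, f (g ^ p ^ k) * f x = f x * f (g ^ p ^ k)) :
    HasNormalPComplement p K := by
  refine H22.hasNormalPComplement_of_frobenius
    (H22.frobeniusCondition_of_sylow (P.mapSurjective hf) fun Y hY γ hγ hord => ?_)
  obtain ⟨g, rfl⟩ := hf γ
  have hXP : Y.comap f ≤ (P : Subgroup G) := by
    refine (comap_mono hY).trans ?_
    rw [Sylow.coe_mapSurjective, comap_map_eq]
    exact sup_le le_rfl hker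
  have hg : g ∈ normalizer (Y.comap f : Set G) := by
    refine mem_normalizer_iff.2 fun x => ?_
    rw [mem_comap, mem_comap, map_mul, map_mul, map_inv]
    exact mem_normalizer_iff.1 hγ (f x)
  obtain ⟨k, hk⟩ := h _ (f.ker_le_comap Y) hXP g hg
  obtain ⟨m, hm⟩ := exists_pow_eq_self_of_coprime (hord.symm.pow_left k)
  refine mem_centralizer_iff.2 fun y hy => ?_
  obtain ⟨x, rfl⟩ := hf y
  rw [← hm, ← map_pow]
  exact Commute.pow_right (hk x hy).symm m

end Cfsg.Agent.H96
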