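import Cfsg.Agent.H75.ZJClosed
import Cfsg.Agent.H23.MinimalNPC
import Cfsg.Agent.H23.MinimalStable
import Cfsg.Agent.H23.PPrimeQuotient
import Cfsg.Agent.H35.ThompsonA

/-!
A group of characteristic `p` with a normal `p`-complement above `O_p` and in the normalizer of
`Z(J(D))`, `D` strongly closed, has a normal `p`-complement.
-/
set_option autoImplicit false

namespace Cfsg.Agent.H96

open Cfsg Subgroup

universe u

/-- The characteristic `p` case of the Glauberman–Thompson criterion for a strongly closed subgroup. -/
theorem hasNormalPComplement_charP {p : ℕ} [Fact p.Prime] (hp2 : p ≠ 2) (n : ℕ) :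
    ∀ (G : Type u) [Group G] [Finite G], Nat.card G = n → ∀ (P : Sylow p G) (D : Subgroup G),
      IsStronglyClosed D (P : Subgroup G) →
      centralizer (pCore p G : Set G) ≤ pCore p G →
      (∀ [(pCore p G).Normal], HasNormalPComplement p (G ⧸ pCore p G)) →
      HasNormalPComplement p (normalizer (centerThompsonAOf D : Set G)) →
      HasNormalPComplement p G := by
  induction n using Nat.strong_induction_on with
  | _ n ih =>
  intro G _ _ hn P D hD hcent hquot hW
  by_contra hnot
  set U := pCore p G with hU
  have hUn : U.Normal := H19.pCore_normal p G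
  have hUP : U ≤ (P : Subgroup G) := H19.pCore_le_sylow P
  have hcore : ∀ N : Subgroup G, N.Normal → ¬ p ∣ Nat.card N → N = ⊥ := by
    intro N hN hd
    have hdis : U ⊓ N = ⊥ := H19.inf_eq_bot_of_isPGroup_coprime (H19.pCore_isPGroup p)
      ((Fact.out : p.Prime).coprime_iff_not_dvd.2 hd).symm
    have hle : N ≤ U := fun x hx => hcent fun u hu =>
      (Subgroup.commute_of_normal_of_disjoint U N hUn hN (disjoint_iff.2 hdis) u x hu hx).eq
    rw [← inf_eq_right.2 hle]
    exact hdis
  have hproper : ∀ X : Subgroup G, (P : Subgroup G) ≤ X → X ≠ ⊤ → HasNormalPComplement p X := by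
    intro X hPX hX
    have hXn : (pCore p X).Normal := H19.pCore_normal p X
    have hUX : U.subgroupOf X ≤ pCore p X := H19.le_pCore (hUn.subgroupOf X)
      ((H19.pCore_isPGroup p).comap_subtype)
    refine ih _ (hn ▸ H19.card_lt_of_ne_top X hX) X rfl (P.subtype hPX) (D.subgroupOf X) ?_ ?_ ?_ ?_
    · refine ⟨fun x hx => hD.1 hx, fun x hx g hg => ?_⟩
      exact hD.2 x hx g hg
    · intro x hx
      refine hUX (mem_subgroupOf.2 (hcent fun u hu => ?_))
      exact congrArg Subtype.val (hx ⟨u, hPX (hUP hu)⟩ (hUX (mem_subgroupOf.2 hu)))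
    · intro _
      have hq : HasNormalPComplement p (G ⧸ U) := hquot
      let f : X →* G ⧸ U := (QuotientGroup.mk' U).comp X.subtype
      have hker : f.ker = U.subgroupOf X := by
        ext x
        rw [MonoidHom.mem_ker, mem_subgroupOf]
        exact QuotientGroup.eq_one_iff (x : G)
      have h1 : HasNormalPComplement p (X ⧸ f.ker) :=
        H22.hasNormalPComplement_of_injective (QuotientGroup.kerLift f) (QuotientGroup.kerLift_injective f) hq
      refine H22.hasNormalPComplement_of_surjective
        (QuotientGroup.map f.ker (pCore p X) (MonoidHom.id X) (by rw [hker]; exact hUX)) ?_ h1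
      intro q
      obtain ⟨x, rfl⟩ := QuotientGroup.mk_surjective q
      exact ⟨x, rfl⟩
    · refine H23.hasNormalPComplement_of_map_le ((le_normalizer_map _).trans ?_) hW
      rw [H35.map_centerThompsonAOf _ _ X.subtype_injective.injOn, subgroupOf_map_subtype,
        inf_of_le_left (hD.1.trans hPX)]
  by_cases hneU : U = (P : Subgroup G)
  · apply hnot
    have hDn : D.Normal := ⟨fun x hx g => hD.2 x hx g (hneU.le (hUn.conj_mem x (hneU.ge (hD.1 hx)) g))⟩
    have htop : normalizer (centerThompsonAOf D : Set G) = ⊤ := top_le_iff.1 <| by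
      rw [← normalizer_eq_top_iff.2 hDn]
      exact H35.normalizer_le_normalizer_centerThompsonAOf _
    rw [htop] at hW
    exact (H22.hasNormalPComplement_congr Subgroup.topEquiv).1 hW
  have hm := H23.minimalNPC_of P hcore U hU hneU hproper hquot
  have hn' := H75.centerThompsonAOf_closed_normal hp2 P hD hcent
    (fun V _ hV => hm.isPStableOn hp2 V hV)
  rw [normalizer_eq_top_iff.2 hn'] at hW
  exact hnot ((H22.hasNormalPComplement_congr Subgroup.topEquiv).1 hW)

end Cfsg.Agent.H96
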