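import Cfsg.Agent.H96.GTFactor
import Cfsg.Agent.H96.LocalPow
import Cfsg.Agent.H96.ZJCharPGroup
import Cfsg.Agent.S5090
import Cfsg.Agent.H93.Realized

/-!
The Glauberman–Thompson criterion for fusion systems relative to a strongly closed subgroup.
-/
set_option autoImplicit false

namespace Cfsg.Agent.H96

open Cfsg Cfsg.FusionSystem

universe u

variable {Ω : Type u} [Group Ω] {S : Subgroup Ω} [Finite S] {F : FusionSystem S} {p : ℕ} [Fact p.Prime]

/-- An element of a realizing group normalizing the image of `U` gives an automorphism of `U` in the system. -/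
theorem exists_aut_of_normalizing {G : Type*} [Group G] {ι : S →* G} (hr : F.IsRealizedBy ι)
    {U : Subgroup Ω} (hU : U ≤ S) {g : G}
    (hg : g ∈ Subgroup.normalizer ((U.subgroupOf S).map ι : Set G)) :
    ∃ a ∈ F.autGroup U, ∀ x : U, ι ⟨(a x : U), hU (a x).2⟩ = g * ι ⟨x, hU x.2⟩ * g⁻¹ := by
  have hmem : ∀ x : U, ∃ y : U, ι ⟨y, hU y.2⟩ = g * ι ⟨x, hU x.2⟩ * g⁻¹ := fun x => by
    obtain ⟨s, hs, e⟩ := (Subgroup.mem_normalizer_iff.1 hg (ι ⟨x, hU x.2⟩)).1
      ⟨_, Subgroup.mem_subgroupOf.2 x.2, rfl⟩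
    exact ⟨⟨s, hs⟩, e⟩
  choose f hf using hmem
  let φ : U →* Ω :=
    { toFun := fun x => (f x : Ω)
      map_one' := by
        have h := hf 1
        rw [show (⟨((1 : U) : Ω), hU (1 : U).2⟩ : S) = 1 from rfl, map_one, mul_one, mul_inv_cancel,
          ← map_one ι] at h
        exact congrArg Subtype.val (hr.1 h)
      map_mul' := fun x y => by
        have h : ι ⟨f (x * y), hU (f (x * y)).2⟩ =
            ι (⟨f x, hU (f x).2⟩ * ⟨f y, hU (f y).2⟩) := by
          rw [map_mul, hf, hf, hf, show (⟨((x * y : U) : Ω), hU (x * y).2⟩ : S) =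
            ⟨x, hU x.2⟩ * ⟨y, hU y.2⟩ from rfl, map_mul]
          group
        exact congrArg Subtype.val (hr.1 h) }
  obtain ⟨a, ha, hae⟩ := exists_autGroup_of_mem F
    ((hr.2 U hU φ fun x => hU (f x).2).2 ⟨g, hf⟩) fun x => (f x).2
  refine ⟨a, ha, fun x => ?_⟩
  rw [← hf]
  exact congrArg ι (Subtype.ext (hae x))

/-- Powers of such an automorphism. -/
theorem realized_pow_apply {G : Type*} [Group G] {ι : S →* G} {U : Subgroup Ω} (hU : U ≤ S) {g : G}
    {a : MulAut U} (ha : ∀ x : U, ι ⟨(a x : U), hU (a x).2⟩ = g * ι ⟨x, hU x.2⟩ * g⁻¹) :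
    ∀ (j : ℕ) (x : U), ι ⟨((a ^ j) x : U), hU ((a ^ j) x).2⟩ = g ^ j * ι ⟨x, hU x.2⟩ * (g ^ j)⁻¹ := by
  intro j
  induction j with
  | zero => intro x; simp
  | succ j ih =>
    intro x
    have h := ha ((a ^ j) x)
    rw [show (⟨((a ^ j) x : U), hU ((a ^ j) x).2⟩ : S) = ⟨((a ^ j) x : U), hU ((a ^ j) x).2⟩ from rfl,
      ih] at h
    rw [pow_succ' g, mul_inv_rev]
    refine (congrArg ι (Subtype.ext ?_)).trans (h.trans (by simp only [mul_assoc]))
    show (((a ^ (j + 1)) x : U) : Ω) = (a ((a ^ j) x) : U)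
    rw [pow_succ', MulAut.mul_apply]

/-- A `p`-element of a realizing group yields `p`-power automorphisms. -/
theorem isInner_of_realized_pGroup {G : Type*} [Group G] {ι : S →* G} (hr : F.IsRealizedBy ι)
    (hG : IsPGroup p G) : IsInner F p := by
  intro U hU a ha
  obtain ⟨g, hg⟩ := (hr.2 U hU _ fun x => hU (a x).2).1 ((mem_autGroup F hU).1 ha)
  obtain ⟨k, hk⟩ := hG g
  refine ⟨k, MulEquiv.ext fun x => Subtype.ext ?_⟩
  have h := realized_pow_apply hU hg (p ^ k) x
  rw [hk, one_mul, inv_one, mul_one] at h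
  exact (Subtype.ext_iff.1 (hr.1 h) :)

/-- The final step: a constrained system with `p`-nilpotent quotient and `p`-nilpotent normalizer of `Z(J(D))`. -/
theorem isInner_of_model (hp2 : p ≠ 2) (hS : IsPGroup p S) {D A : Subgroup Ω} (hD : F.StronglyClosed D)
    (hW : GoodAt F p (centerThompsonAOf D)) (hA : F.IsNormal A)
    (hmod : ∀ V : Subgroup Ω, V ≤ S → A ≤ V → ∀ b ∈ F.autGroup V,
      ∃ k : ℕ, ∀ x : V, ((x⁻¹ * (b ^ p ^ k) x : V) : Ω) ∈ A)
    {H : Type u} [Group H] {ι : S →* H} (hm : F.IsModel p H ι) : IsInner F p := by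
  obtain ⟨hfin, hr, ⟨T, hT⟩, hcent⟩ := hm
  refine isInner_of_realized_pGroup hr (p := p) ?_
  set R := pCore p H with hR
  have hRn : R.Normal := H19.pCore_normal p H
  have hRT : R ≤ ι.range := hT ▸ H19.pCore_le_sylow T
  set Ah := (A.subgroupOf S).map ι with hAh
  have hAS := hA.1
  have hAn : Ah.Normal := by
    constructor
    rintro _ ⟨a, ha, rfl⟩ g
    -- the map induced by `g` on the preimage of `R`
    set Q := ((R.comap ι).map S.subtype) with hQdef
    have hQS : Q ≤ S := Subgroup.map_subtype_le _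
    have hQR : (Q.subgroupOf S).map ι = R := by
      rw [show Q.subgroupOf S = R.comap ι from
        Subgroup.comap_map_eq_self_of_injective S.subtype_injective _, Subgroup.map_comap_eq,
        inf_eq_right.2 hRT]
    have hgQ : g ∈ Subgroup.normalizer ((Q.subgroupOf S).map ι : Set H) := by
      rw [hQR, Subgroup.normalizer_eq_top_iff.2 hRn]
      exact Subgroup.mem_top g
    obtain ⟨b, hb, hbe⟩ := exists_aut_of_normalizing hr hQS hgQ
    obtain ⟨ψ, hψ, h1, h2⟩ := exists_ext_of_normal hA ((mem_autGroup F hQS).1 hb)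
    obtain ⟨g', hg'⟩ := (hr.2 _ (sup_le hQS hAS) ψ fun x => (F.le_of_mem hψ).2 x).1 hψ
    have hc : g'⁻¹ * g ∈ Subgroup.centralizer (R : Set H) := by
      refine Subgroup.mem_centralizer_iff.2 fun r hr' => ?_
      rw [SetLike.mem_coe, ← hQR] at hr'
      obtain ⟨x, hx, rfl⟩ := hr'
      have hxQ : (x : Ω) ∈ Q := hx
      have e1 := hbe ⟨x, hxQ⟩
      have e2 := hg' (Subgroup.inclusion le_sup_left ⟨(x : Ω), hxQ⟩)
      rw [show (⟨ψ (Subgroup.inclusion le_sup_left ⟨(x : Ω), hxQ⟩), (F.le_of_mem hψ).2 _⟩ : S) =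
        ⟨(b ⟨x, hxQ⟩ : Q), hQS (b ⟨x, hxQ⟩).2⟩ from Subtype.ext (h1 ⟨x, hxQ⟩), e1] at e2
      have e3 : g * ι x * g⁻¹ = g' * ι x * g'⁻¹ := e2
      calc ι x * (g'⁻¹ * g) = g'⁻¹ * (g' * ι x * g'⁻¹) * g := by group
        _ = g'⁻¹ * g * ι x := by rw [← e3]; group
    obtain ⟨t, ht⟩ := hRT (hcent hc)
    have hga : g = g' * ι t := by rw [ht]; group
    have hta : (t : Ω) * a * (t : Ω)⁻¹ ∈ A :=
      H93.StronglyClosed.conj_mem (H93.IsNormal.stronglyClosed hA) t.2 ha
    refine ⟨⟨ψ (Subgroup.inclusion le_sup_right ⟨_, hta⟩), (F.le_of_mem hψ).2 _⟩, h2 ⟨_, hta⟩, ?_⟩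
    rw [hg']
    show g' * ι (t * a * t⁻¹) * g'⁻¹ = _
    rw [hga, map_mul, map_mul, map_inv]
    group
  have hTp : IsPGroup p ι.range := hT ▸ T.isPGroup'
  have hAR : Ah ≤ R := H19.le_pCore hAn (hTp.to_le (Subgroup.map_le_range _ _))
  -- the quotient by `R`
  have hquot : HasNormalPComplement p (H ⧸ R) := by
    refine hasNormalPComplement_of_local_pow T (QuotientGroup.mk' R) (QuotientGroup.mk'_surjective R)
      (by rw [QuotientGroup.ker_mk', hT]; exact hRT) fun X hRX hXT g hg => ?_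
    rw [QuotientGroup.ker_mk'] at hRX
    rw [hT] at hXT
    set U := (X.comap ι).map S.subtype with hUdef
    have hUS : U ≤ S := Subgroup.map_subtype_le _
    have hUX : (U.subgroupOf S).map ι = X := by
      rw [show U.subgroupOf S = X.comap ι from
        Subgroup.comap_map_eq_self_of_injective S.subtype_injective _, Subgroup.map_comap_eq,
        inf_eq_right.2 hXT]
    obtain ⟨b, hb, hbe⟩ := exists_aut_of_normalizing hr hUS (g := g) (hUX.symm ▸ hg)
    obtain ⟨k, hk⟩ := hmod U hUS (fun a ha =>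
      ⟨⟨a, hAS ha⟩, hRX (hAR ⟨⟨a, hAS ha⟩, ha, rfl⟩), rfl⟩) b hb
    refine ⟨k, fun x hx => ?_⟩
    rw [← hUX] at hx
    obtain ⟨s, hs, rfl⟩ := hx
    have hsU : (s : Ω) ∈ U := hs
    have h := hk ⟨s, hsU⟩
    have h' : (ι s)⁻¹ * (g ^ p ^ k * ι s * (g ^ p ^ k)⁻¹) ∈ R := by
      refine hAR ⟨⟨_, hAS h⟩, h, ?_⟩
      rw [show g ^ p ^ k * ι s * (g ^ p ^ k)⁻¹ =
        ι ⟨((b ^ p ^ k) ⟨s, hsU⟩ : U), hUS ((b ^ p ^ k) ⟨s, hsU⟩).2⟩ from (realized_pow_apply hUS hbe (p ^ k) ⟨s, hsU⟩).symm,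
        ← map_inv, ← map_mul]
      rfl
    have h'' : (QuotientGroup.mk' R) ((ι s)⁻¹ * (g ^ p ^ k * ι s * (g ^ p ^ k)⁻¹)) = 1 :=
      (QuotientGroup.eq_one_iff _).2 h'
    rw [map_mul, map_inv, inv_mul_eq_one, map_mul, map_mul, map_inv, eq_mul_inv_iff_mul_eq] at h''
    exact h''.symm
  -- the normalizer of `Z(J(D))`
  set W := centerThompsonAOf D
  have hWS : W ≤ S := (H35.centerThompsonAOf_le D).trans hD.1
  have hSW : S ≤ Subgroup.normalizer (W : Set Ω) := fun s hs =>
    mem_normalizer_centerThompsonAOf hD.1 (H93.StronglyClosed.le_normalizer hD hs)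
  set Dh := (D.subgroupOf S).map ι with hDh
  have hWh : (W.subgroupOf S).map ι = centerThompsonAOf Dh := map_centerThompsonAOf_hom hr.1 hD.1
  have hnorm : HasNormalPComplement p (Subgroup.normalizer (centerThompsonAOf Dh : Set H)) := by
    set M := Subgroup.normalizer (centerThompsonAOf Dh : Set H)
    have hTM : (T : Subgroup H) ≤ M := by
      rw [hT]
      refine le_trans ?_ (H35.normalizer_le_normalizer_centerThompsonAOf _)
      rintro _ ⟨s, rfl⟩
      refine H94.mem_normalizer_of_forall_conj_mem fun y hy => ?_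
      obtain ⟨d, hd, rfl⟩ := hy
      exact ⟨s * d * s⁻¹, H93.StronglyClosed.conj_mem hD s.2 hd, by simp⟩
    refine hasNormalPComplement_of_local_pow (T.subtype hTM) (MonoidHom.id M) Function.surjective_id
      (by rw [MonoidHom.ker_id]; exact bot_le) fun X _ hXT g hg => ?_
    set U := ((X.map M.subtype).comap ι).map S.subtype ⊔ W with hUdef
    have hUS : U ≤ S := sup_le (Subgroup.map_subtype_le _) hWS
    have hXr : X.map M.subtype ≤ ι.range := by
      rintro _ ⟨x, hx, rfl⟩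
      exact hT ▸ hXT hx
    have hUX : (U.subgroupOf S).map ι = X.map M.subtype ⊔ centerThompsonAOf Dh := by
      rw [hUdef, Subgroup.subgroupOf_sup (Subgroup.map_subtype_le _) hWS, Subgroup.map_sup, hWh,
        show (((X.map M.subtype).comap ι).map S.subtype).subgroupOf S = (X.map M.subtype).comap ι from
          Subgroup.comap_map_eq_self_of_injective S.subtype_injective _,
        Subgroup.map_comap_eq, inf_eq_right.2 hXr]
    have hgX : (X.map M.subtype).map (MulAut.conj (g : H) : H →* H) = X.map M.subtype :=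
      Subgroup.mem_normalizer_iff_map_conj_eq.1 (Subgroup.le_normalizer_map M.subtype ⟨g, hg, rfl⟩)
    have hgU : (g : H) ∈ Subgroup.normalizer ((U.subgroupOf S).map ι : Set H) := by
      rw [hUX]
      exact Subgroup.mem_normalizer_iff_map_conj_eq.2 (by
        rw [Subgroup.map_sup, hgX, Subgroup.mem_normalizer_iff_map_conj_eq.1 g.2])
    obtain ⟨b, hb, hbe⟩ := exists_aut_of_normalizing hr hUS hgU
    obtain ⟨k, hk⟩ := hW U hUS le_sup_right (hUS.trans hSW) b hb fun x hx => by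
      have hm : ι ⟨(x : Ω), hUS x.2⟩ ∈ centerThompsonAOf Dh := hWh ▸ ⟨_, hx, rfl⟩
      have := (Subgroup.mem_normalizer_iff.1 g.2 _).1 hm
      rw [← hbe, ← hWh] at this
      obtain ⟨s, hs, e⟩ := this
      rw [show ((b x : U) : Ω) = (s : Ω) from (congrArg Subtype.val (hr.1 e)).symm]
      exact hs
    refine ⟨k, fun x hx => ?_⟩
    obtain ⟨s, hs, e⟩ : (x : H) ∈ (U.subgroupOf S).map ι :=
      hUX.ge (Subgroup.mem_sup_left ⟨x, hx, rfl⟩)
    have h := realized_pow_apply hUS hbe (p ^ k) ⟨s, hs⟩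
    rw [hk] at h
    have h2 : ι s = (g : H) ^ p ^ k * ι s * ((g : H) ^ p ^ k)⁻¹ := h
    refine Subtype.ext ?_
    show (g : H) ^ p ^ k * (x : H) = (x : H) * (g : H) ^ p ^ k
    rw [← e]
    exact (eq_mul_inv_iff_mul_eq.1 h2).symm
  have hDc : IsStronglyClosed Dh (T : Subgroup H) := by
    rw [hT]
    refine ⟨Subgroup.map_le_range _ _, ?_⟩
    rintro _ ⟨d, hd, rfl⟩ g ⟨s, hs⟩
    have hd' : (d : Ω) ∈ D := hd
    let Z := Subgroup.zpowers (d : Ω)
    have hZ : Z ≤ D := Subgroup.zpowers_le.2 hd'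
    have hZι : ∀ z : Z, g * ι ⟨z, hD.1 (hZ z.2)⟩ * g⁻¹ ∈ ι.range := by
      rintro ⟨z, hz⟩
      obtain ⟨i, rfl⟩ := Subgroup.mem_zpowers_iff.1 hz
      rw [show (⟨(d : Ω) ^ i, hD.1 (hZ hz)⟩ : S) = d ^ i from Subtype.ext (by simp), map_zpow, ← conj_zpow]
      exact zpow_mem (show g * ι d * g⁻¹ ∈ ι.range from ⟨s, hs⟩) i
    choose f hf using hZι
    let φ : Z →* Ω :=
      { toFun := fun z => (f z : Ω)
        map_one' := by
          have h := hf 1
          rw [show (⟨((1 : Z) : Ω), hD.1 (hZ (1 : Z).2)⟩ : S) = 1 from rfl, map_one, mul_one, mul_inv_cancel,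
            ← map_one ι] at h
          exact congrArg Subtype.val (hr.1 h)
        map_mul' := fun x y => by
          have h : ι (f (x * y)) = ι (f x * f y) := by
            rw [map_mul, hf, hf, hf, show (⟨((x * y : Z) : Ω), hD.1 (hZ (x * y).2)⟩ : S) =
              ⟨x, hD.1 (hZ x.2)⟩ * ⟨y, hD.1 (hZ y.2)⟩ from rfl, map_mul]
            group
          exact congrArg Subtype.val (hr.1 h) }
    have hφ : φ ∈ F.Hom Z := (hr.2 Z (hZ.trans hD.1) φ fun z => (f z).2).2 ⟨g, hf⟩
    refine ⟨f ⟨d, Subgroup.mem_zpowers _⟩, hD.2 Z hZ φ hφ ⟨d, Subgroup.mem_zpowers _⟩, ?_⟩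
    exact hf _
  have hnpc := hasNormalPComplement_charP hp2 _ H rfl T Dh hDc hcent (fun {_} => hquot) hnorm
  obtain ⟨P, N, hN, hc⟩ := hnpc
  have hdN : ¬ p ∣ Nat.card N := hc.index_eq_card ▸ P.not_dvd_index
  have hdis : R ⊓ N = ⊥ := H19.inf_eq_bot_of_isPGroup_coprime (H19.pCore_isPGroup p)
    ((Fact.out : p.Prime).coprime_iff_not_dvd.2 hdN).symm
  have hNle : N ≤ R := fun x hx => hcent fun u hu =>
    (Subgroup.commute_of_normal_of_disjoint R N hRn hN (disjoint_iff.2 hdis) u x hu hx).eq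
  rw [inf_eq_right.2 hNle] at hdis
  rw [hdis, Subgroup.isComplement'_bot_left] at hc
  exact P.2.of_surjective (P : Subgroup H).subtype fun x =>
    ⟨⟨x, hc ▸ Subgroup.mem_top x⟩, rfl⟩

/-- The Glauberman–Thompson criterion for fusion systems, by induction. -/
theorem gtStatement (hp2 : p ≠ 2) : ∀ n m, GTStatement.{u} p n m := by
  intro n
  induction n using Nat.strong_induction_on with
  | _ n ihn =>
  intro m
  induction m using Nat.strong_induction_on with
  | _ m ihm =>
  intro Ω _ S _ hS hn F hm hF D hD hW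
  by_cases hcore : F.core = ⊥
  · exact isInner_of_core_eq_bot hS hF hD hn hm ihn ihm hW hcore
  have hC := isNormal_core F
  obtain ⟨A, hA, hAne, hAC, hDA, hDA'⟩ : ∃ A, F.IsNormal A ∧ A ≠ ⊥ ∧ A ≤ F.core ∧ F.core ⊓ D ≤ A ∧
      (D ≤ A → F.IsNormal D) := by
    by_cases h : F.core ⊓ D = ⊥
    · refine ⟨F.core, hC, hcore, le_rfl, by rw [h]; exact bot_le, fun hle => ?_⟩
      rw [show D = ⊥ from le_bot_iff.1 (h ▸ le_inf hle le_rfl)]
      exact isNormal_bot F
    · refine ⟨F.core ⊓ D, isNormal_inf_stronglyClosed hS hF hC hD, h, inf_le_left, le_rfl, fun hle => ?_⟩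
      rw [show D = F.core ⊓ D from le_antisymm hle inf_le_right]
      exact isNormal_inf_stronglyClosed hS hF hC hD
  rcases isInner_or_pow_mem hS hF hD hn hm ihn ihm hW hA hAne hDA hDA' with h | hmod
  · exact h
  have hAsc := H93.IsNormal.stronglyClosed hA
  set C1 := centralizerIn S A with hC1
  have hsc : F.StronglyClosed C1 := by
    refine ⟨inf_le_left, fun X hX φ hφ x => ⟨(F.le_of_mem hφ).2 x, ?_⟩⟩
    obtain ⟨ψ, hψ, h1, h2⟩ := exists_ext_of_normal hA hφ
    have hr := range_eq_of_forall_mem F (res_mem F hψ (le_sup_right : A ≤ X ⊔ A)) h2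
    intro y hy
    obtain ⟨r, rfl⟩ := hr.ge hy
    rw [← h1, res_apply, ← map_mul, ← map_mul]
    exact congrArg ψ (Subtype.ext ((hX x.2).2 r r.2))
  have hC1n : F.IsNormal C1 := by
    refine (H93.isNormal_iff_le_centric_radical hS hF).2 ⟨hsc, fun U hUc hUr => ?_⟩
    have hUS := hUc.1
    have := finite_of_le hUS
    have hAU : A ≤ U := ((H93.isNormal_iff_le_centric_radical hS hF).1 hA).2 U hUc hUr
    refine H93.le_of_centric_radical hS hsc hUc hUr (fun a => ∀ x : U, (x : Ω) ∈ A → a x = x)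
      (fun x _ => rfl) (fun a _ b _ ha hb x hx => by rw [MulAut.mul_apply, hb x hx, ha x hx]) ?_ ?_
    · intro a ha hfix
      obtain ⟨k, hk⟩ := hmod U hUS hAU a ha
      have hfix' : ∀ (j : ℕ) (x : U), (x : Ω) ∈ A → (a ^ j) x = x := by
        intro j
        induction j with
        | zero => intro x _; rfl
        | succ j ih => intro x hx; rw [pow_succ, MulAut.mul_apply, hfix x hx, ih x hx]
      obtain ⟨l, hl⟩ := H93.exists_pow_eq_one_of_chain (γ := a ^ p ^ k) (hS.to_le hUS) 0 (fun _ => A)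
        (fun i hi => absurd hi (by omega)) (fun x hx => hfix' _ x hx) (fun i hi => absurd hi (by omega))
        (fun x => by
          have h := H93.StronglyClosed.conj_mem hAsc (hUS x.2) (hk x)
          simpa using h)
      exact ⟨k + l, by rw [pow_add, pow_mul]; exact hl⟩
    · intro α hα γ hγ x hx
      obtain ⟨g, hg, hge⟩ := mem_autInducedBy.1 hγ
      have hx' : ((α⁻¹ x : U) : Ω) ∈ A := H93.IsNormal.aut_mem hA hUS (inv_mem hα) _ hx
      have hfix : γ (α⁻¹ x) = α⁻¹ x := Subtype.ext (by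
        rw [hge, ← hg.2 _ hx', mul_inv_cancel_right])
      rw [MulAut.mul_apply, MulAut.mul_apply, hfix]
      exact α.apply_symm_apply x
  have hconstr : F.IsConstrained p := by
    refine ⟨hF, F.core, hC, hC.1, fun Q hQ => ?_⟩
    rw [eq_of_isConj_normal hC hQ]
    exact fun x hx => (le_sSup hC1n : C1 ≤ F.core)
      (show x ∈ C1 from ⟨hx.1, Subgroup.centralizer_le (SetLike.coe_subset_coe.2 hAC) hx.2⟩)
  obtain ⟨H, _, ι, hmodel⟩ := S5090.result p hS F hconstr
  exact isInner_of_model hp2 hS hD hW hA hmod hmodel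

/-- Goodness at `Z(J(D))` for a strongly closed `D` makes the system inner. -/
theorem isInner_of_goodAt_centerThompson (hp2 : p ≠ 2) (hS : IsPGroup p S) (hF : F.IsSaturated p)
    {D : Subgroup Ω} (hD : F.StronglyClosed D) (hW : GoodAt F p (centerThompsonAOf D)) : IsInner F p :=
  gtStatement hp2 _ _ hS rfl F rfl hF D hD hW

/-- An inner system has inner normalizer systems. -/
theorem normalizerSystem_inner_of_inner {Ω : Type*} [Group Ω] {S W : Subgroup Ω} {F : FusionSystem S}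
    (hWS : W ≤ S) (hn : S ≤ Subgroup.normalizer (W : Set Ω))
    (h : ∀ P : Subgroup Ω, F.Hom P = (innerFusionSystem S).Hom P) (N : FusionSystem (normalizerIn S W))
    (hN : F.IsNormalizerSystem W N) (P : Subgroup Ω) :
    N.Hom P = (innerFusionSystem (normalizerIn S W)).Hom P := by
  have hNS : normalizerIn S W = S := inf_of_le_left hn
  ext φ
  constructor
  · intro hφ
    have hφ' := (hN P).le hφ
    obtain ⟨-, g, hg, hge⟩ := (h P).le hφ'.1
    exact ⟨hφ'.2.1, g, hNS.symm ▸ hg, hge⟩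
  · rintro ⟨hP, g, hg, hge⟩
    rw [← show conjHom P g = φ from MonoidHom.ext fun x => (hge x).symm]
    exact N.conj_mem hP hg

/-- The criterion in terms of the normalizer system of `Z(J(D))`. -/
theorem inner_iff_normalizer_inner (hp2 : p ≠ 2) (hS : IsPGroup p S) (hF : F.IsSaturated p)
    {D : Subgroup Ω} (hD : F.StronglyClosed D) :
    (∀ P : Subgroup Ω, F.Hom P = (innerFusionSystem S).Hom P) ↔
      ∀ N : FusionSystem (normalizerIn S (centerThompsonAOf D)),
        F.IsNormalizerSystem (centerThompsonAOf D) N → ∀ P : Subgroup Ω,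
          N.Hom P = (innerFusionSystem (normalizerIn S (centerThompsonAOf D))).Hom P := by
  have hWS : centerThompsonAOf D ≤ S := (H35.centerThompsonAOf_le D).trans hD.1
  refine ⟨fun h => normalizerSystem_inner_of_inner hWS (fun s hs =>
    mem_normalizer_centerThompsonAOf hD.1 (H93.StronglyClosed.le_normalizer hD hs)) h, fun h => ?_⟩
  exact IsInner.hom_eq hS hF (isInner_of_goodAt_centerThompson hp2 hS hF hD
    (goodAt_of_normalizerSystem_inner hS hWS h))

end Cfsg.Agent.H96
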