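import Cfsg.Agent.H96.Basic
import Cfsg.Agent.H96.CoreCenter
import Cfsg.Agent.H93.Local
import Cfsg.Agent.H93.LocalSaturated
import Cfsg.Agent.H94.SatBasic
import Cfsg.Agent.S5083

/-!
Local `p`-nilpotence: automorphisms stabilising a subgroup have `p`-power order; a morphism count.
-/
set_option autoImplicit false

namespace Cfsg.Agent.H96

open Cfsg Cfsg.FusionSystem

variable {Ω : Type*} [Group Ω] {S : Subgroup Ω}

/-- All automorphisms of the system have `p`-power order. -/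
def IsInner (F : FusionSystem S) (p : ℕ) : Prop :=
  ∀ U : Subgroup Ω, U ≤ S → ∀ a ∈ F.autGroup U, ∃ k : ℕ, a ^ p ^ k = 1

/-- Automorphisms in the system of subgroups above `W` preserving `W` have `p`-power order. -/
def GoodAt (F : FusionSystem S) (p : ℕ) (W : Subgroup Ω) : Prop :=
  ∀ U : Subgroup Ω, U ≤ S → W ≤ U → U ≤ Subgroup.normalizer (W : Set Ω) → ∀ a ∈ F.autGroup U,
    (∀ x : U, (x : Ω) ∈ W → ((a x : U) : Ω) ∈ W) → ∃ k : ℕ, a ^ p ^ k = 1

theorem GoodAt.of_isInner {F : FusionSystem S} {p : ℕ} (h : IsInner F p) (W : Subgroup Ω) : GoodAt F p W :=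
  fun U hU _ _ a ha _ => h U hU a ha

variable [Finite S] {F : FusionSystem S} {p : ℕ}

theorem IsInner.hom_eq [Fact p.Prime] (hS : IsPGroup p S) (hF : F.IsSaturated p) (h : IsInner F p) :
    ∀ P : Subgroup Ω, F.Hom P = (innerFusionSystem S).Hom P := by
  intro P
  rw [S5083.result p hS F hF fun U hU a => ?_]
  obtain ⟨k, hk⟩ := h U hU a a.2
  exact ⟨k, Subtype.ext hk⟩

theorem isInner_of_hom_eq [Fact p.Prime] (hS : IsPGroup p S)
    (h : ∀ P : Subgroup Ω, F.Hom P = (innerFusionSystem S).Hom P) : IsInner F p := by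
  intro U hU a ha
  have ha' := (mem_autGroup F hU).1 ha
  rw [h] at ha'
  obtain ⟨-, g, hg, hge⟩ := ha'
  obtain ⟨k, hk⟩ := H93.isPGroup_autInducedBy hS U ⟨a, mem_autInducedBy.2 ⟨g, hg, hge⟩⟩
  exact ⟨k, congrArg Subtype.val hk⟩

/-- An inner normalizer system gives goodness. -/
theorem goodAt_of_isInner_normalizerSystem {W : Subgroup Ω} (hW : W ≤ S)
    (hN : IsInner (H93.normalizerSystem F W hW) p) : GoodAt F p W := by
  intro U hU hWU hUN a ha hst
  have hUNS : U ≤ normalizerIn S W := le_inf hU hUN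
  have := finite_of_le (H93.normalizerIn_le S W)
  refine hN U hUNS a ((mem_autGroup _ hUNS).2 ?_)
  have hsup : U ⊔ W ≤ U := sup_le le_rfl hWU
  have ham := (mem_autGroup F hU).1 ha
  refine ⟨ham, hUNS, fun x => hUNS (a x).2, res (U.subtype.comp a.toMonoidHom) hsup, res_mem F ham hsup,
    fun x => rfl, ?_⟩
  rw [map_subgroupOf_eq_range _ le_sup_right]
  exact range_eq_of_forall_mem F (res_mem F (res_mem F ham hsup) _) fun x => hst _ x.2

/-- The inner normalizer system, as a set of maps, gives goodness. -/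
theorem goodAt_of_normalizerSystem_inner [Fact p.Prime] (hS : IsPGroup p S) {W : Subgroup Ω} (hW : W ≤ S)
    (h : ∀ N : FusionSystem (normalizerIn S W), F.IsNormalizerSystem W N →
      ∀ P : Subgroup Ω, N.Hom P = (innerFusionSystem (normalizerIn S W)).Hom P) : GoodAt F p W := by
  have := finite_of_le (H93.normalizerIn_le S W)
  exact goodAt_of_isInner_normalizerSystem hW (isInner_of_hom_eq (hS.to_le (H93.normalizerIn_le S W))
    (h (H93.normalizerSystem F W hW) fun _ => rfl))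

/-- Goodness passes along maps of normalizers. -/
theorem goodAt_transport {W W' : Subgroup Ω} {D : Subgroup Ω} {ι : D →* Ω} (hι : ι ∈ F.Hom D)
    (hWD : normalizerIn S W ≤ D) (hW' : ∀ x : D, (x : Ω) ∈ W ↔ ι x ∈ W') (hWS : W ≤ S)
    (hι' : ∀ y ∈ W', ∃ x : D, ι x = y) (h : GoodAt F p W') : GoodAt F p W := by
  intro U hU hWU hUN a ha hst
  have hUD : U ≤ D := (le_inf hU hUN).trans hWD
  have := finite_of_le hU
  have hb := H93.autCongr_mem (res_mem F hι hUD) rfl ha
  set U' := (res ι hUD).range with hU'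
  have hW'U' : W' ≤ U' := fun y hy => by
    obtain ⟨x, rfl⟩ := hι' y hy
    exact ⟨⟨x, hWU ((hW' x).2 hy)⟩, rfl⟩
  have hstab : ∀ y : U', (y : Ω) ∈ W' →
      (((H93.autCongr (res ι hUD) (F.injective_of_mem (res_mem F hι hUD)) rfl a) y : U') : Ω) ∈ W' := by
    intro y hy
    obtain ⟨x, rfl⟩ :=
      (H93.homEquiv (res ι hUD) (F.injective_of_mem (res_mem F hι hUD)) rfl).surjective y
    rw [H93.autCongr_apply, res_apply]
    exact (hW' _).1 (hst x ((hW' ⟨x, hUD x.2⟩).2 hy))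
  have hnorm : U' ≤ Subgroup.normalizer (W' : Set Ω) := by
    rintro _ ⟨x, rfl⟩
    have : Finite W' := finite_of_le (fun y hy => (hW'U' hy |> fun h => by
      obtain ⟨z, hz⟩ := h; rw [← hz]; exact (F.le_of_mem hι).2 _))
    refine H94.mem_normalizer_of_forall_conj_mem fun r hr => ?_
    obtain ⟨w, rfl⟩ := hι' r hr
    have hw : (x : Ω) * w * (x : Ω)⁻¹ ∈ W :=
      (Subgroup.mem_normalizer_iff.1 (hUN x.2) _).1 ((hW' w).2 hr)
    have hm := (hW' ⟨_, hUD (hWU hw)⟩).1 hw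
    rw [res_apply, ← map_inv, ← map_mul, ← map_mul]
    exact hm
  have hU'S : U' ≤ S := by rintro _ ⟨x, rfl⟩; exact (F.le_of_mem hι).2 _
  obtain ⟨k, hk⟩ := h U' hU'S hW'U' hnorm _ hb hstab
  refine ⟨k, ?_⟩
  rw [← map_pow] at hk
  exact (H93.autCongr (res ι hUD) _ rfl).injective (hk.trans (map_one _).symm)

/-- Goodness at a subgroup follows from goodness at a fully normalized conjugate. -/
theorem exists_fn_transport [Fact p.Prime] (hS : IsPGroup p S) (hF : F.IsSaturated p) {W : Subgroup Ω}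
    (hW : W ≤ S) : ∃ (W' : Subgroup Ω) (ι : normalizerIn S W →* Ω), F.IsFullyNormalized W' ∧
      ι ∈ F.Hom (normalizerIn S W) ∧ (∀ x, ι x ∈ normalizerIn S W') ∧ F.IsConj W W' ∧
      (GoodAt F p W' → GoodAt F p W) := by
  obtain ⟨W', hWW', hW'⟩ := H94.exists_fullyNormalized (F := F) hW
  obtain ⟨hA, hR⟩ := H94.fullyNormalized_spec hS hF hW'
  obtain ⟨ι, hι, hval, himg⟩ := H93.exists_normalizer_map hS hA hR hWW'
  refine ⟨W', ι, hW', hι, hval, hWW', fun h => goodAt_transport hι le_rfl (fun x => ?_) hW ?_ h⟩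
  · rw [← himg]
    exact ⟨H93.apply_mem_imgIn, H93.mem_of_apply_mem_imgIn (F.injective_of_mem hι)⟩
  · intro y hy
    rw [← himg] at hy
    obtain ⟨x, -, hx⟩ := H93.mem_imgIn.1 hy
    exact ⟨x, hx⟩

/-- Goodness at every nontrivial fully normalized subgroup gives an inner system. -/
theorem isInner_of_goodAt [Fact p.Prime] (hS : IsPGroup p S) (hF : F.IsSaturated p)
    (h : ∀ Q : Subgroup Ω, Q ≠ ⊥ → F.IsFullyNormalized Q → GoodAt F p Q) : IsInner F p := by
  intro U hU a ha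
  by_cases hUb : U = ⊥
  · refine ⟨0, MulEquiv.ext fun x => ?_⟩
    subst hUb
    exact Subsingleton.elim _ _
  obtain ⟨U', ι, hU'fn, -, -, hconj, htr⟩ := exists_fn_transport hS hF hU
  refine htr (h U' ?_ hU'fn) U hU le_rfl Subgroup.le_normalizer a ha fun x _ => (a x).2
  rintro rfl
  have := finite_of_le hU
  have hc := H93.isConj_card_eq hconj
  rw [Subgroup.card_bot] at hc
  exact hUb (Subgroup.eq_bot_of_card_eq U hc)

/-- The graphs of the maps of the system. -/
def mapGraphs (F : FusionSystem S) : Set (Set (Ω × Ω)) :=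
  {G | ∃ (P : Subgroup Ω) (φ : P →* Ω), φ ∈ F.Hom P ∧ G = {z | ∃ x : P, z = ((x : Ω), φ x)}}

theorem mapGraphs_finite (F : FusionSystem S) : (mapGraphs F).Finite := by
  have hfin : ((S : Set Ω) ×ˢ (S : Set Ω)).Finite := (Set.toFinite _).prod (Set.toFinite _)
  refine Set.Finite.subset hfin.finite_subsets ?_
  rintro G ⟨P, φ, hφ, rfl⟩ z ⟨x, rfl⟩
  exact ⟨(F.le_of_mem hφ).1 x.2, (F.le_of_mem hφ).2 x⟩

/-- A proper subsystem has fewer maps. -/
theorem mapGraphs_ncard_lt {T : Subgroup Ω} {E : FusionSystem T} (hsub : E.IsSubsystemOf F)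
    (hne : ∃ (P : Subgroup Ω) (φ : P →* Ω), φ ∈ F.Hom P ∧ φ ∉ E.Hom P) :
    (mapGraphs E).ncard < (mapGraphs F).ncard := by
  refine Set.ncard_lt_ncard ⟨?_, fun hle => ?_⟩ (mapGraphs_finite F)
  · rintro G ⟨P, φ, hφ, rfl⟩
    exact ⟨P, φ, hsub P hφ, rfl⟩
  · obtain ⟨P, φ, hφ, hnot⟩ := hne
    obtain ⟨P', φ', hφ', he⟩ := hle ⟨P, φ, hφ, rfl⟩
    have hP : P = P' := by
      apply le_antisymm
      · intro x hx
        have hm : ((x, φ ⟨x, hx⟩) : Ω × Ω) ∈ {z : Ω × Ω | ∃ y : P, z = ((y : Ω), φ y)} := ⟨⟨x, hx⟩, rfl⟩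
        rw [he] at hm
        obtain ⟨y, hy⟩ := hm
        rw [show x = (y : Ω) from congrArg Prod.fst hy]
        exact y.2
      · intro x hx
        have hm : ((x, φ' ⟨x, hx⟩) : Ω × Ω) ∈ {z : Ω × Ω | ∃ y : P', z = ((y : Ω), φ' y)} := ⟨⟨x, hx⟩, rfl⟩
        rw [← he] at hm
        obtain ⟨y, hy⟩ := hm
        rw [show x = (y : Ω) from congrArg Prod.fst hy]
        exact y.2
    subst hP
    apply hnot
    refine mem_congr E hφ' fun x => ?_
    have hm : (((x : Ω), φ x) : Ω × Ω) ∈ {z : Ω × Ω | ∃ y : P, z = ((y : Ω), φ y)} := ⟨x, rfl⟩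
    rw [he] at hm
    obtain ⟨y, hy⟩ := hm
    obtain rfl : x = y := Subtype.ext (congrArg Prod.fst hy)
    exact congrArg Prod.snd hy

end Cfsg.Agent.H96
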