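import Cfsg.Agent.H94.Invariance
import Cfsg.Agent.H93.Mor
import Cfsg.Agent.H96.Basic

/-!
An invariant subsystem of an invariant subsystem is invariant once it is invariant under the automorphisms of
the base of the middle system.
-/

set_option autoImplicit false

namespace Cfsg.Agent.H96

open Cfsg Cfsg.FusionSystem Cfsg.Agent.H93

variable {Ω : Type*} [Group Ω] {S U V : Subgroup Ω}

/-- The automorphisms of `U` in `F` carry `V` into itself and the maps of `D` to maps of `D`. -/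
def AutStable (F : FusionSystem S) (U : Subgroup Ω) (D : FusionSystem V) : Prop :=
  ∀ a : Ω → Ω, Mor F U U a → (∀ x ∈ V, a x ∈ V) ∧ ∀ (P Q : Subgroup Ω) (f : Ω → Ω), Mor D P Q f →
    ∃ (P' Q' : Subgroup Ω) (g : Ω → Ω), Mor F P P' a ∧ Mor D P' Q' g ∧ ∀ x ∈ P, g (a x) = a (f x)

/-- Transitivity of invariance. -/
theorem invariant_trans [Finite S] {p : ℕ} [Fact p.Prime] (hS : IsPGroup p S) {F : FusionSystem S}
    (hF : F.IsSaturated p) {G : FusionSystem U} {D : FusionSystem V} (hG : G.IsInvariantIn F)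
    (hD : D.IsInvariantIn G) (hst : AutStable F U D) : D.IsInvariantIn F := by
  have hVU : V ≤ U := hD.2.1.1
  have hUS : U ≤ S := hG.2.1.1
  have hsub : D.IsSubsystemOf F := fun P φ hφ => hG.1 P (hD.1 P hφ)
  -- decomposition of a map on a subgroup of `V`
  have hdec : ∀ (R : Subgroup Ω), R ≤ V → ∀ ψ ∈ F.Hom R, ∃ a : Ω → Ω, Mor F U U a ∧
      ∃ ψ₀ ∈ G.Hom R, (∀ x, ψ₀ x ∈ V) ∧ ∀ x, ψ x = a (ψ₀ x) := by
    intro R hR ψ hψ
    obtain ⟨α, hα, ψ₀, hψ₀, he⟩ := hG.2.2.2 R (hR.trans hVU) ψ hψ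
    obtain ⟨a, ha, hae⟩ := exists_mor_of_aut hUS hα
    exact ⟨a, ha, ψ₀, hψ₀, fun x => hD.2.1.2 R hR ψ₀ hψ₀ x,
      fun x => (he x ((G.le_of_mem hψ₀).2 x)).trans (hae _).symm⟩
  have hclosed : F.StronglyClosed V := by
    refine ⟨hVU.trans hUS, fun R hR ψ hψ x => ?_⟩
    obtain ⟨a, ha, ψ₀, -, hv, he⟩ := hdec R hR ψ hψ
    rw [he]
    exact (hst a ha).1 _ (hv x)
  refine (H94.invariant_iff_stronglyInvariant hS hF hsub hclosed).2 ?_
  intro P Q hPQ hQV φ hφ hφQ ψ hψ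
  obtain ⟨a, ha, ψ₀, hψ₀, hv, he⟩ := hdec Q hQV ψ hψ
  obtain ⟨χ₀, hχ₀, hχ₀e⟩ := H94.stronglyInvariant_of_invariant hD P Q hPQ hQV φ hφ hφQ ψ₀ hψ₀
  obtain ⟨f, hf, hfe⟩ := exists_mor hχ₀ rfl
  obtain ⟨P', Q', g, hPP', hg, hge⟩ := (hst a ha).2 _ _ f hf
  obtain ⟨χ, hχ, -, hχv⟩ := hg
  have heq : (P.subgroupOf Q).map ψ = P' := by
    apply le_antisymm
    · rintro _ ⟨x, hx, rfl⟩
      rw [he]
      exact hPP'.map_mem ⟨x, hx, rfl⟩
    · intro z hz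
      obtain ⟨w, hw, rfl⟩ := hPP'.surj hz
      obtain ⟨x, hx, rfl⟩ := hw
      exact ⟨x, hx, he x⟩
  refine ⟨χ.comp (Subgroup.inclusion heq.le), H93.mem_of_eq hχ heq fun _ _ _ => rfl, fun x hx => ?_⟩
  show χ ⟨_, _⟩ = _
  rw [hχv]
  show g (ψ (Subgroup.inclusion hPQ x)) = _
  have hxP : ψ₀ (Subgroup.inclusion hPQ x) ∈ (P.subgroupOf Q).map ψ₀ := ⟨_, x.2, rfl⟩
  rw [he, hge _ hxP, he]
  exact congrArg a ((hfe ⟨_, hxP⟩).trans (hχ₀e x hxP))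

end Cfsg.Agent.H96
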