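import Cfsg.Agent.H96.Displacement
import Cfsg.Agent.H96.LimitPrime
import Cfsg.Agent.H95.HyperfocalFactor
import Cfsg.Agent.S5127

/-!
A subsystem over `T C_S(T)` whose automizer at `T` is that of the normal subsystem acts trivially modulo `T`
when the centralizer of the normal subsystem lies in `T`.
-/

set_option autoImplicit false

namespace Cfsg.Agent.H96

open Cfsg Cfsg.FusionSystem Cfsg.Agent.S5127

variable {Ω : Type*} [Group Ω] {S T : Subgroup Ω} {p : ℕ} {F : FusionSystem S} {E : FusionSystem T}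
variable [Finite S] [Fact p.Prime]

/-- The commutators in `C_S(T)` are centralized by the subsystem. -/
theorem good_commutator (hS : IsPGroup p S) (hF : F.IsSaturated p) (hE : E.IsNormalIn F p)
    {C : Subgroup Ω} (hC : C = centralizerIn S T) {x s : Ω} (hx : x ∈ C) (hs : s ∈ C) :
    Good F E (Subgroup.zpowers (x⁻¹ * (s * x * s⁻¹))) := by
  subst hC
  have hTS : T ≤ S := hE.1.2.2.2.1.1
  refine good_of_fixExt hS hF hE ?_ fun U U₁ χ t hUT a ha => ?_
  · exact Subgroup.mul_mem _ (Subgroup.inv_mem _ hx)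
      (Subgroup.mul_mem _ (Subgroup.mul_mem _ hs hx) (Subgroup.inv_mem _ hs))
  have hCU : centralizerIn S T ≤ centralizerIn S U := inf_le_inf_left S (Subgroup.centralizer_le hUT)
  obtain ⟨b, hb, hbm, hbR⟩ := t.pullback ha hCU
  exact fixExt_commutator (sup_le (hUT.trans hTS) inf_le_left) (hCU.trans inf_le_right) hb
    (γ := U.subtype.comp a.toMonoidHom) (fun x => congrArg Subtype.val (hbR x)) (fun x => (a x).2) hbm hx hs

/-- Commutators of the elements of a join with the centralizer of the first part lie in the first part. -/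
theorem comm_mem_of_sup {C : Subgroup Ω} (hCT : C ≤ Subgroup.centralizer (T : Set Ω))
    (h : ∀ x ∈ C, ∀ s ∈ C, x⁻¹ * (s * x * s⁻¹) ∈ T) {g x : Ω} (hg : g ∈ T ⊔ C) (hx : x ∈ T ⊔ C) :
    x⁻¹ * (g * x * g⁻¹) ∈ T := by
  set W := T ⊔ C with hW
  have hn : W ≤ Subgroup.normalizer (T : Set Ω) :=
    sup_le Subgroup.le_normalizer (hCT.trans (Subgroup.centralizer_le_normalizer _))
  have : (T.subgroupOf W).Normal := (Subgroup.normal_subgroupOf_iff_le_normalizer le_sup_left).2 hn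
  set π := QuotientGroup.mk' (T.subgroupOf W) with hπ
  have key : ∀ z : W, ∃ c : W, (c : Ω) ∈ C ∧ π z = π c := by
    let K : Subgroup W := ((C.subgroupOf W).map π).comap π
    have hle : W ≤ K.map W.subtype := by
      refine sup_le (fun t ht => ⟨⟨t, le_sup_left (b := C) ht⟩, ?_, rfl⟩)
        (fun c hc => ⟨⟨c, le_sup_right (a := T) hc⟩, ⟨_, hc, rfl⟩, rfl⟩)
      refine ⟨1, one_mem _, ?_⟩
      rw [map_one]
      exact ((QuotientGroup.eq_one_iff (N := T.subgroupOf W) ⟨t, le_sup_left (b := C) ht⟩).2 ht).symm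
    intro z
    obtain ⟨z', ⟨c, hc, hce⟩, e⟩ := hle z.2
    obtain rfl : z' = z := Subtype.ext e
    exact ⟨c, hc, hce.symm⟩
  obtain ⟨c, hc, hgc⟩ := key ⟨g, hg⟩
  obtain ⟨d, hd, hxd⟩ := key ⟨x, hx⟩
  have h1 : π (⟨x, hx⟩⁻¹ * (⟨g, hg⟩ * ⟨x, hx⟩ * ⟨g, hg⟩⁻¹)) = π (d⁻¹ * (c * d * c⁻¹)) := by
    simp only [map_mul, map_inv, hgc, hxd]
  have h2 : π (d⁻¹ * (c * d * c⁻¹)) = 1 := (QuotientGroup.eq_one_iff _).2 (h d hd c hc)
  exact Subgroup.mem_subgroupOf.1 ((QuotientGroup.eq_one_iff (N := T.subgroupOf W)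
    ((⟨x, hx⟩ : W)⁻¹ * ((⟨g, hg⟩ : W) * (⟨x, hx⟩ : W) * (⟨g, hg⟩ : W)⁻¹))).1 (h1.trans h2))

/-- The systems of maps trivial modulo `T`. -/
theorem exists_modSystem {W : Subgroup Ω} (G : FusionSystem W)
    (hab : ∀ g ∈ W, ∀ x ∈ W, x⁻¹ * (g * x * g⁻¹) ∈ T) :
    ∃ G' : FusionSystem W, ∀ (P : Subgroup Ω) (φ : P →* Ω),
      φ ∈ G'.Hom P ↔ φ ∈ G.Hom P ∧ ∀ x : P, (x : Ω)⁻¹ * φ x ∈ T := by
  refine ⟨{
    Hom := fun P => {φ | φ ∈ G.Hom P ∧ ∀ x : P, (x : Ω)⁻¹ * φ x ∈ T}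
    le_of_mem := fun hφ => G.le_of_mem hφ.1
    injective_of_mem := fun hφ => G.injective_of_mem hφ.1
    conj_mem := fun hP hg => ⟨G.conj_mem hP hg, fun x => hab _ hg _ (hP x.2)⟩
    comp_mem := fun {P Q φ ψ} hφ hψ h => ⟨G.comp_mem hφ.1 hψ.1 h, fun x => ?_⟩
    inv_mem := fun {P φ} hφ => ?_ }, fun P φ => Iff.rfl⟩
  · show (x : Ω)⁻¹ * ψ ⟨φ x, h x⟩ ∈ T
    have h1 := T.mul_mem (hφ.2 x) (hψ.2 ⟨φ x, h x⟩)
    rwa [mul_assoc, mul_inv_cancel_left] at h1
  · obtain ⟨ψ, hψ, hψe⟩ := G.inv_mem hφ.1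
    refine ⟨ψ, ⟨hψ, ?_⟩, hψe⟩
    rintro ⟨_, x, rfl⟩
    rw [hψe]
    have h1 := T.inv_mem (hφ.2 x)
    rwa [mul_inv_rev, inv_inv] at h1

/-- If the automorphisms of the top act trivially modulo `T`, then so do all maps. -/
theorem hyperfocal_le_of_top {W : Subgroup Ω} [Finite W] (hW : IsPGroup p W) {G : FusionSystem W}
    (hG : G.IsSaturated p) (hT : G.StronglyClosed T)
    (hab : ∀ g ∈ W, ∀ x ∈ W, x⁻¹ * (g * x * g⁻¹) ∈ T)
    (htop : ∀ a ∈ G.autGroup W, ModTrivial T a) : G.hyperfocalSubgroup p ≤ T := by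
  obtain ⟨G', hG'⟩ := exists_modSystem G hab
  have hle : ∀ U : Subgroup Ω, U ≤ W → ∀ a ∈ G'.autGroup U, a ∈ G.autGroup U ∧ ModTrivial T a :=
    fun U hU a ha => by
      obtain ⟨h1, h2⟩ := (hG' _ _).1 ((mem_autGroup G' hU).1 ha)
      exact ⟨(mem_autGroup G hU).2 h1, fun x => h2 x⟩
  have hmk : ∀ U : Subgroup Ω, U ≤ W → ∀ a ∈ G.autGroup U, ModTrivial T a → a ∈ G'.autGroup U :=
    fun U hU a ha hm => (mem_autGroup G' hU).2 ((hG' _ _).2 ⟨(mem_autGroup G hU).1 ha, fun x => hm x⟩)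
  have h : G ≤ G' := by
    refine H94.le_of_autGroup_top_le hW hG (fun U hU a ha k hk => ?_) fun a ha => hmk W le_rfl a ha (htop a ha)
    obtain ⟨hkG, hkm⟩ := hle U hU k hk
    refine hmk U hU _ (mul_mem (mul_mem ha hkG) (inv_mem ha)) fun y => ?_
    obtain ⟨z, rfl⟩ := a.surjective y
    rw [MulAut.mul_apply, MulAut.mul_apply, MulAut.inv_apply_self, ← Subgroup.coe_inv, ← map_inv,
      ← Subgroup.coe_mul, ← map_mul]
    exact H94.apply_mem_of_stronglyClosed hT ((mem_autGroup G hU).1 ha) (x := z⁻¹ * k z) (hkm z)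
  refine H95.hyperfocal_le_of_coprime fun P α x hP _ => ?_
  exact ((hG' _ _).1 (h P ((mem_autGroup G hP).1 α.2))).2 x

/-- A subgroup containing the `p`-part and the `p'`-part of an element contains the element. -/
theorem mem_of_parts {G : Type*} [Group G] [Finite G] {H : Subgroup G}
    (hp : ∀ a : G, ∀ k : ℕ, a ^ p ^ k = 1 → a ∈ H)
    (hq : ∀ (q : ℕ), q.Prime → q ≠ p → ∀ e : ℕ, ∀ a : G, a ^ q ^ e = 1 → a ∈ H) (a : G) : a ∈ H := by
  obtain ⟨k, m, hm, hkm⟩ :=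
    Nat.exists_eq_pow_mul_and_not_dvd (orderOf_pos a).ne' p (Fact.out : p.Prime).ne_one
  have hc : m.Coprime p := ((Fact.out : p.Prime).coprime_iff_not_dvd.2 hm).symm
  have h1 : a ^ m ∈ H := hp _ k (by rw [← pow_mul, mul_comm, ← hkm, pow_orderOf_eq_one])
  have h2 : a ^ p ^ k ∈ H := mem_of_coprime_parts (p := p) hq m _
    (by rw [← pow_mul, ← hkm, pow_orderOf_eq_one]) hc
  have e := Nat.gcd_eq_gcd_ab m (p ^ k)
  rw [(hc.pow_right k).gcd_eq_one, Nat.cast_one] at e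
  rw [← zpow_one a, e, zpow_add, zpow_mul, zpow_mul, zpow_natCast, zpow_natCast]
  exact H.mul_mem (H.zpow_mem h1 _) (H.zpow_mem h2 _)

/-- The `p`-automorphisms of the top of a saturated system are inner. -/
theorem exists_conj_of_pow_eq_one {W : Subgroup Ω} [Finite W] (hW : IsPGroup p W) {G : FusionSystem W}
    (hG : G.IsSaturated p) {a : MulAut W} (ha : a ∈ G.autGroup W) {k : ℕ} (hk : a ^ p ^ k = 1) :
    ∃ g ∈ W, ∀ x : W, ((a x : W) : Ω) = g * (x : Ω) * g⁻¹ := by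
  obtain ⟨⟨-, R, hR⟩, -⟩ := H94.fullyNormalized_spec hW hG
    (H93.isFullyNormalized_of_normalized (F := G) le_rfl
      (le_antisymm inf_le_left (le_inf le_rfl Subgroup.le_normalizer)))
  have : (R : Subgroup (G.autGroup W)).Normal := ⟨fun c hc b => by
    rw [hR] at hc ⊢
    obtain ⟨g, hg, hge⟩ := mem_autInducedBy.1 (Subgroup.mem_subgroupOf.1 hc)
    refine Subgroup.mem_subgroupOf.2 (mem_autInducedBy.2 ⟨_, ((b : MulAut W) ⟨g, hg⟩).2, fun x => ?_⟩)
    obtain ⟨z, rfl⟩ := (b : MulAut W).surjective x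
    rw [Subgroup.coe_mul, Subgroup.coe_mul, Subgroup.coe_inv, MulAut.mul_apply, MulAut.mul_apply,
      MulAut.inv_apply_self, ← Subgroup.coe_inv, ← map_inv, ← Subgroup.coe_mul, ← map_mul,
      ← Subgroup.coe_mul, ← map_mul]
    exact congrArg (fun w : W => (((b : MulAut W) w : W) : Ω)) (Subtype.ext (hge z))⟩
  have hp : IsPGroup p (Subgroup.zpowers (⟨a, ha⟩ : G.autGroup W)) := by
    obtain ⟨j, -, hj⟩ := (Nat.dvd_prime_pow (Fact.out : p.Prime)).1
      (orderOf_dvd_of_pow_eq_one (Subtype.ext hk : (⟨a, ha⟩ : G.autGroup W) ^ p ^ k = 1))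
    exact IsPGroup.of_card (n := j) (by rw [Nat.card_zpowers, hj])
  have hmem : (⟨a, ha⟩ : G.autGroup W) ∈ (R : Subgroup (G.autGroup W)) := by
    rw [← R.3 (hp.to_sup_of_normal_right R.2) le_sup_right]
    exact Subgroup.mem_sup_left (Subgroup.mem_zpowers _)
  rw [hR] at hmem
  exact mem_autInducedBy.1 (Subgroup.mem_subgroupOf.1 hmem)

/-- The automorphisms of `T C_S(T)` in the subsystem act trivially modulo `T`. -/
theorem modTrivial_top (hS : IsPGroup p S) (hF : F.IsSaturated p) (hE : E.IsNormalIn F p)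
    (hgood : ∀ y, Good F E (Subgroup.zpowers y) → y ∈ T)
    {C : Subgroup Ω} (hC : C = centralizerIn S T) {G : FusionSystem (T ⊔ C)} (hG : G.IsSaturated p)
    (hGF : G.IsSubsystemOf F) (hEG : E.IsNormalIn G p) (haut : G.autGroup T = E.autGroup T) :
    (∀ g ∈ T ⊔ C, ∀ x ∈ T ⊔ C, x⁻¹ * (g * x * g⁻¹) ∈ T) ∧
      ∀ a ∈ G.autGroup (T ⊔ C), ModTrivial T a := by
  have hTS : T ≤ S := hE.1.2.2.2.1.1
  have hCS : C ≤ S := hC ▸ inf_le_left
  have hCT : C ≤ Subgroup.centralizer (T : Set Ω) := hC ▸ inf_le_right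
  have hWS : T ⊔ C ≤ S := sup_le hTS hCS
  have := finite_of_le hWS
  have hW : IsPGroup p ↥(T ⊔ C) := hS.to_le hWS
  have hcomm : ∀ x ∈ C, ∀ s ∈ C, x⁻¹ * (s * x * s⁻¹) ∈ T := fun x hx s hs =>
    hgood _ (good_commutator hS hF hE hC hx hs)
  have hab : ∀ g ∈ T ⊔ C, ∀ x ∈ T ⊔ C, x⁻¹ * (g * x * g⁻¹) ∈ T := fun g hg x hx =>
    comm_mem_of_sup hCT hcomm hg hx
  refine ⟨hab, ?_⟩
  -- automorphisms fixing `T`
  have hfix : ∀ d ∈ G.autGroup (T ⊔ C),
      (∀ x : T, d (Subgroup.inclusion le_sup_left x) = Subgroup.inclusion le_sup_left x) → ModTrivial T d := by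
    let K : Subgroup (G.autGroup (T ⊔ C)) :=
      { carrier := {d | ∀ x : T, (d : MulAut ↥(T ⊔ C)) (Subgroup.inclusion le_sup_left x) = Subgroup.inclusion le_sup_left x}
        one_mem' := fun _ => rfl
        mul_mem' := fun {b c} hb hc x => by
          rw [Subgroup.coe_mul, MulAut.mul_apply, hc x, hb x]
        inv_mem' := fun {b} hb x => by
          conv_lhs => rw [← hb x, Subgroup.coe_inv, MulAut.inv_apply_self] }
    let H : Subgroup K :=
      { carrier := {d | ModTrivial T ((d : G.autGroup (T ⊔ C)) : MulAut ↥(T ⊔ C))}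
        one_mem' := modTrivial_one
        mul_mem' := fun hb hc => modTrivial_mul hb hc
        inv_mem' := fun hb => modTrivial_inv hb }
    have : Finite (G.autGroup (T ⊔ C)) := H93.finite_autGroup le_rfl
    have hH : ∀ d : K, d ∈ H := by
      refine mem_of_parts (p := p) (fun d k hk => ?_) fun q hq hqp e d hd => ?_
      · obtain ⟨g, hg, hge⟩ := exists_conj_of_pow_eq_one hW hG (d : G.autGroup (T ⊔ C)).2
          (congrArg (fun z : K => ((z : G.autGroup (T ⊔ C)) : MulAut ↥(T ⊔ C))) hk)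
        intro w
        rw [hge]
        exact hab g hg w w.2
      · have := Fact.mk hq
        refine modTrivial_of_sup hCT (fun x => by rw [d.2 x]; exact x.2) fun c => ?_
        refine hgood _ (good_displacement hS hF hE hC ?_ d.2 hqp
          (congrArg (fun z : K => ((z : G.autGroup (T ⊔ C)) : MulAut ↥(T ⊔ C))) hd) c rfl)
        exact (mem_autGroup F hWS).2 (hGF _ ((mem_autGroup G le_rfl).1 (d : G.autGroup (T ⊔ C)).2))
    exact fun d hd hdT => hH ⟨⟨d, hd⟩, hdT⟩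
  -- the extensions from the normal subsystem
  have hext : ∀ α ∈ E.autGroup T, ∃ β ∈ G.autGroup (T ⊔ C),
      (∀ x : T, ((β (Subgroup.inclusion le_sup_left x) : ↥(T ⊔ C)) : Ω) = ((α x : T) : Ω)) ∧
      ModTrivial T β := by
    intro α hα
    have h := hEG.2 α hα
    have eC : centralizerIn (T ⊔ C) T = C := le_antisymm
      (fun x hx => hC ▸ ⟨hWS hx.1, hx.2⟩) (le_inf le_sup_right hCT)
    suffices key : ∀ C' : Subgroup Ω, C' = C → (∃ β ∈ G.autGroup (T ⊔ C'),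
        (∀ x : T, ((β (Subgroup.inclusion le_sup_left x) : ↥(T ⊔ C')) : Ω) = ((α x : T) : Ω)) ∧
        ∀ c : ↥(T ⊔ C'), (c : Ω) ∈ C' →
          (c : Ω)⁻¹ * ((β c : ↥(T ⊔ C')) : Ω) ∈ T ⊓ Subgroup.centralizer (T : Set Ω)) →
        ∃ β ∈ G.autGroup (T ⊔ C),
          (∀ x : T, ((β (Subgroup.inclusion le_sup_left x) : ↥(T ⊔ C)) : Ω) = ((α x : T) : Ω)) ∧
          ModTrivial T β from key _ eC h
    rintro C' rfl ⟨β, hβ, hβT, hβC⟩
    exact ⟨β, hβ, hβT, modTrivial_of_sup hCT (fun x => by rw [hβT]; exact (α x).2)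
      fun c => (hβC (Subgroup.inclusion le_sup_right c) c.2).1⟩
  intro a ha
  obtain ⟨c, hc, hce⟩ := exists_restrict (F := G) le_rfl (le_sup_left : T ≤ T ⊔ C) ha fun x =>
    H94.apply_mem_of_stronglyClosed hEG.1.2.2.2.1 ((mem_autGroup G le_rfl).1 ha)
      (x := Subgroup.inclusion le_sup_left x) x.2
  obtain ⟨β, hβ, hβT, hβm⟩ := hext c (haut ▸ hc)
  have h := modTrivial_mul hβm (hfix (β⁻¹ * a) (mul_mem (inv_mem hβ) ha) fun x => by
    refine β.injective ?_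
    rw [MulAut.mul_apply, MulAut.apply_inv_self, hce]
    exact Subtype.ext (hβT x).symm)
  rwa [mul_inv_cancel_left] at h

end Cfsg.Agent.H96
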