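import Cfsg.Agent.H96.PStableLocal
import Cfsg.Agent.H96.CoreCenter
import Cfsg.Agent.H94.NormalSubgroupSystem
import Cfsg.Agent.H93.Group
import Cfsg.Agent.H93.Normal
import Cfsg.Agent.H60.StableQuotient
import Cfsg.Agent.H60.StableZJ

/-!
For `p > 3` the fusion system of a group is constrained when it is stable.
-/
set_option autoImplicit false

namespace Cfsg.Agent.H96

open Cfsg Cfsg.FusionSystem
open scoped commutatorElement

universe u

variable {G : Type u} [Group G] [Finite G] {p : ℕ} [Fact p.Prime]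

omit [Finite G] [Fact p.Prime] in
/-- An element in `O_p` of a surjective image lies in `O_p` modulo the kernel. -/
theorem mk_mem_pCore_of_surjective {N A : Type*} [Group N] [Group A] [Finite N] (f : N →* A)
    (hf : Function.Surjective f) (K : Subgroup N) [K.Normal] (hK : f.ker = K) {x : N}
    (hx : f x ∈ Cfsg.pCore p A) : (QuotientGroup.mk x : N ⧸ K) ∈ Cfsg.pCore p (N ⧸ K) := by
  subst hK
  have : Finite A := Finite.of_surjective f hf
  set e := QuotientGroup.quotientKerEquivOfSurjective f hf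
  have h : (Cfsg.pCore p A).map e.symm.toMonoidHom ≤ Cfsg.pCore p (N ⧸ f.ker) :=
    H19.le_pCore ((H19.pCore_normal p A).map _ e.symm.surjective) ((H19.pCore_isPGroup p).map _)
  refine h ⟨f x, hx, ?_⟩
  show e.symm (f x) = _
  rw [MulEquiv.symm_apply_eq]
  rfl

/-- A stable fusion system makes the group stable. -/
theorem isNormalizerPStable_of_stable (P : Sylow p G)
    (hst : ∀ Q : Subgroup G, (groupFusionSystem (P : Subgroup G)).IsFullyNormalized Q →
      StableAt (groupFusionSystem (P : Subgroup G)) p Q) : Cfsg.IsNormalizerPStable p G := by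
  intro R hR g hg hquad
  set F := groupFusionSystem (P : Subgroup G)
  obtain ⟨T, hT⟩ := hR.exists_le_sylow
  obtain ⟨c, hc⟩ := MulAction.exists_smul_eq G T P
  set Q := R.map (MulAut.conj c).toMonoidHom with hQdef
  have hQP : Q ≤ (P : Subgroup G) := by
    rintro _ ⟨r, hr, rfl⟩
    rw [← hc]
    exact Subgroup.smul_mem_pointwise_smul _ _ _ (hT hr)
  have hst' : StableAt F p Q := by
    obtain ⟨Q', hconj, hfn⟩ := H94.exists_fullyNormalized (F := F) hQP
    exact stableAt_of_isConj hconj (hst Q' hfn)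
  set N := Subgroup.normalizer (R : Set G)
  have hN : ∀ n : N, c * (n : G) * c⁻¹ ∈ Subgroup.normalizer (Q : Set G) := fun n =>
    Subgroup.le_normalizer_map (MulAut.conj c).toMonoidHom ⟨n, n.2, rfl⟩
  have haut : ∀ n : N, H93.conjAut ⊤ Q ⟨c * n * c⁻¹, Subgroup.mem_top _, hN n⟩ ∈ F.autGroup Q := fun n => by
    rw [H93.autGroup_groupFusion P hQP]
    exact H93.mem_autInducedBy.2 ⟨c * n * c⁻¹, Subgroup.mem_top _, fun x => rfl⟩
  let f : N →* F.autGroup Q :=
    { toFun := fun n => ⟨_, haut n⟩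
      map_one' := by
        apply Subtype.ext
        refine MulEquiv.ext fun x => Subtype.ext ?_
        show c * ((1 : N) : G) * c⁻¹ * (x : G) * (c * ((1 : N) : G) * c⁻¹)⁻¹ = x
        simp
      map_mul' := fun a b => by
        apply Subtype.ext
        refine MulEquiv.ext fun x => Subtype.ext ?_
        show c * ((a * b : N) : G) * c⁻¹ * (x : G) * (c * ((a * b : N) : G) * c⁻¹)⁻¹ =
          c * (a : G) * c⁻¹ * (c * (b : G) * c⁻¹ * (x : G) * (c * (b : G) * c⁻¹)⁻¹) *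
            (c * (a : G) * c⁻¹)⁻¹
        rw [Subgroup.coe_mul]
        group }
  have hf : Function.Surjective f := by
    rintro ⟨a, ha⟩
    obtain ⟨-, -, k, hk⟩ := (mem_autGroup F hQP).1 ha
    have hkN : c⁻¹ * k * c ∈ N := by
      refine H94.mem_normalizer_of_forall_conj_mem fun r hr => ?_
      obtain ⟨r', hr', e⟩ := (a ⟨c * r * c⁻¹, ⟨r, hr, rfl⟩⟩).2
      have hk' : ((a ⟨c * r * c⁻¹, ⟨r, hr, rfl⟩⟩ : Q) : G) = k * (c * r * c⁻¹) * k⁻¹ := hk _
      have e' : c * r' * c⁻¹ = k * (c * r * c⁻¹) * k⁻¹ := e.trans hk'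
      rw [show c⁻¹ * k * c * r * (c⁻¹ * k * c)⁻¹ = c⁻¹ * (k * (c * r * c⁻¹) * k⁻¹) * c by group, ← e',
        show c⁻¹ * (c * r' * c⁻¹) * c = r' by group]
      exact hr'
    refine ⟨⟨_, hkN⟩, Subtype.ext (MulEquiv.ext fun x => Subtype.ext ?_)⟩
    show c * (c⁻¹ * k * c) * c⁻¹ * (x : G) * (c * (c⁻¹ * k * c) * c⁻¹)⁻¹ = _
    rw [show c * (c⁻¹ * k * c) * c⁻¹ = k by group]
    exact (hk x).symm
  have hker : f.ker = (Subgroup.centralizer (R : Set G)).subgroupOf N := by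
    ext n
    rw [MonoidHom.mem_ker, Subgroup.mem_subgroupOf, Subgroup.mem_centralizer_iff]
    constructor
    · intro h r hr
      have h1 : c * (n : G) * c⁻¹ * (c * r * c⁻¹) * (c * (n : G) * c⁻¹)⁻¹ = c * r * c⁻¹ :=
        congrArg (fun a : F.autGroup Q => (((a : MulAut Q) ⟨c * r * c⁻¹, ⟨r, hr, rfl⟩⟩ : Q) : G)) h
      have h2 : c * ((n : G) * r * (n : G)⁻¹) * c⁻¹ = c * r * c⁻¹ := by rw [← h1]; group
      have h3 : (n : G) * r * (n : G)⁻¹ = r := mul_left_cancel (mul_right_cancel h2)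
      exact (mul_inv_eq_iff_eq_mul.1 h3).symm
    · intro h
      refine Subtype.ext (MulEquiv.ext fun x => Subtype.ext ?_)
      obtain ⟨r, hr, hx⟩ := x.2
      show c * (n : G) * c⁻¹ * (x : G) * (c * (n : G) * c⁻¹)⁻¹ = x
      rw [← hx]
      show c * (n : G) * c⁻¹ * (c * r * c⁻¹) * (c * (n : G) * c⁻¹)⁻¹ = c * r * c⁻¹
      rw [show c * (n : G) * c⁻¹ * (c * r * c⁻¹) * (c * (n : G) * c⁻¹)⁻¹ =
        c * ((n : G) * r * (n : G)⁻¹) * c⁻¹ by group, ← h r hr, mul_inv_cancel_right]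
  have hq : IsQuad ((f ⟨g, hg⟩ : F.autGroup Q) : MulAut Q) := by
    intro a
    obtain ⟨r, hr, ha⟩ := a.2
    apply Subtype.ext
    set h := c * g * c⁻¹
    show h * (a : G)⁻¹ * h⁻¹ * (a : G) * (h * (a : G)⁻¹ * h⁻¹) * (h * (h * (a : G) * h⁻¹) * h⁻¹) = 1
    rw [← ha]
    show h * (c * r * c⁻¹)⁻¹ * h⁻¹ * (c * r * c⁻¹) * (h * (c * r * c⁻¹)⁻¹ * h⁻¹) *
      (h * (h * (c * r * c⁻¹) * h⁻¹) * h⁻¹) = 1
    have hu : ⁅⁅r, g⁆, g⁆ = 1 := by
      have := Subgroup.commutator_mem_commutator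
        (Subgroup.commutator_mem_commutator hr (Subgroup.mem_zpowers g)) (Subgroup.mem_zpowers g)
      rw [hquad, Subgroup.mem_bot] at this
      exact this
    rw [commutatorElement_eq_one_iff_mul_comm, commutatorElement_def] at hu
    have hu' : g * (g * r * g⁻¹ * r⁻¹) = (g * r * g⁻¹ * r⁻¹) * g := by
      have := congrArg (fun z => (r * g * r⁻¹ * g⁻¹)⁻¹ * z * (r * g * r⁻¹ * g⁻¹)⁻¹) hu
      simpa [mul_assoc] using this
    calc h * (c * r * c⁻¹)⁻¹ * h⁻¹ * (c * r * c⁻¹) * (h * (c * r * c⁻¹)⁻¹ * h⁻¹) *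
          (h * (h * (c * r * c⁻¹) * h⁻¹) * h⁻¹)
        = c * (g * r⁻¹ * g⁻¹ * r * (g * r⁻¹ * g⁻¹) * ((g * (g * r * g⁻¹ * r⁻¹)) * r * g⁻¹)) * c⁻¹ := by
          simp only [h]; group
      _ = 1 := by rw [hu']; group
  obtain ⟨y, hy, hye⟩ := hst' _ (f ⟨g, hg⟩).2 hq
  have hfy : f ⟨g, hg⟩ = y := Subtype.ext hye.symm
  exact mk_mem_pCore_of_surjective f hf _ hker (hfy ▸ hy)

/-- A stable group at a prime above `3` has a constrained fusion system. -/
theorem isConstrained_of_normalizerPStable (hp : 3 < p) (hst : Cfsg.IsNormalizerPStable p G) (P : Sylow p G) :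
    (groupFusionSystem (P : Subgroup G)).IsConstrained p := by
  set F := groupFusionSystem (P : Subgroup G) with hFdef
  have hS : IsPGroup p (P : Subgroup G) := P.isPGroup'
  have hF : F.IsSaturated p := H93.isSaturated_groupFusionSystem P
  have hQ : F.IsNormal F.core := isNormal_core F
  set Q := F.core with hQdef
  have hQS := hQ.1
  have hQsc := H93.IsNormal.stronglyClosed hQ
  refine ⟨hF, Q, hQ, hQS, fun Q' hQ' => ?_⟩
  rw [eq_of_isConj_normal hQ hQ']
  set L := Subgroup.normalizer (Q : Set G) with hL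
  have hPL : (P : Subgroup G) ≤ L := H93.StronglyClosed.le_normalizer hQsc
  set C := (Subgroup.centralizer (Q : Set G)).subgroupOf L with hC
  have hCn : C.Normal := by
    rw [hC]
    infer_instance
  obtain ⟨TC, hTC⟩ := H94.exists_sylow_inf_normal (P.subtype hPL) C
  set Z := (Q.subgroupOf L).subgroupOf C with hZ
  have hZc : Z ≤ Subgroup.center C := by
    intro z hz
    refine Subgroup.mem_center_iff.2 fun y => Subtype.ext (Subtype.ext ?_)
    exact (Subgroup.mem_centralizer_iff.1 (Subgroup.mem_subgroupOf.1 y.2) _ hz).symm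
  have hZn : Z.Normal := ⟨fun z hz y => by
    rwa [Subgroup.mem_center_iff.1 (hZc hz) y, mul_inv_cancel_right]⟩
  have hZT : Z ≤ (TC : Subgroup C) := fun z hz => by
    rw [hTC]
    exact ⟨hQS hz, z.2⟩
  have hTCmem : ∀ y : C, y ∈ (TC : Subgroup C) ↔ ((y : L) : G) ∈ (P : Subgroup G) := fun y => by
    rw [hTC]
    exact ⟨fun h => h.1, fun h => ⟨h, y.2⟩⟩
  set f := QuotientGroup.mk' Z with hf
  have hfs : Function.Surjective f := QuotientGroup.mk'_surjective Z
  have hkerf : f.ker = Z := QuotientGroup.ker_mk' Z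
  have hstX : Cfsg.IsNormalizerPStable p (C ⧸ Z) := by
    refine H60.stable_central_quotient hp (H60.stable_subgroup hp (H60.stable_subgroup hp hst L) C) f hfs
      (by rw [hkerf]; exact hZc) ?_
    rw [hkerf]
    exact TC.isPGroup'.to_le hZT
  set TX := TC.mapSurjective hfs with hTX
  set Wb := Cfsg.centerThompsonAOf (TX : Subgroup (C ⧸ Z)) with hWb
  have hWbT : Wb ≤ (TX : Subgroup (C ⧸ Z)) := H35.centerThompsonAOf_le _
  have hWbsc : ∀ x ∈ Wb, ∀ g : C ⧸ Z, g * x * g⁻¹ ∈ (TX : Subgroup (C ⧸ Z)) → g * x * g⁻¹ ∈ Wb := by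
    intro x hx g hg
    have hA : Subgroup.zpowers x ≤ (TX : Subgroup (C ⧸ Z)) := Subgroup.zpowers_le.2 (hWbT hx)
    obtain ⟨h, hh, c, hc, rfl⟩ := H60.zjControls hp (C ⧸ Z) hstX TX _ hA g (by
      rintro _ ⟨y, hy, rfl⟩
      obtain ⟨i, rfl⟩ := Subgroup.mem_zpowers_iff.1 hy
      show g * x ^ i * g⁻¹ ∈ _
      rw [← conj_zpow]
      exact zpow_mem hg i)
    have hcx : c * x * c⁻¹ = x := by
      rw [← Subgroup.mem_centralizer_iff.1 hc x (Subgroup.mem_zpowers x), mul_inv_cancel_right]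
    rw [show h * c * x * (h * c)⁻¹ = h * (c * x * c⁻¹) * h⁻¹ by group, hcx]
    exact (Subgroup.mem_normalizer_iff.1 hh x).1 hx
  have hWbT' : Wb.comap f ≤ (TC : Subgroup C) := by
    refine (Subgroup.comap_mono hWbT).trans ?_
    rw [hTX, Sylow.coe_mapSurjective, Subgroup.comap_map_eq, hkerf]
    exact sup_le le_rfl hZT
  set W := ((Wb.comap f).map C.subtype).map L.subtype with hW
  have hWS : W ≤ (P : Subgroup G) := by
    rintro _ ⟨_, ⟨y, hy, rfl⟩, rfl⟩
    exact (hTCmem y).1 (hWbT' hy)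
  -- elements of `L` normalizing the Sylow subgroup of `C` fix `W`
  have hnorm : ∀ n : L, n ∈ Subgroup.normalizer (((TC : Subgroup C).map C.subtype : Subgroup L) : Set L) →
      ∀ y : C, f y ∈ Wb → f ((MulAut.conjNormal n : MulAut C) y) ∈ Wb := by
    intro n hn y hy
    set α : MulAut C := MulAut.conjNormal n
    have hαZ : Z.map (α : C →* C) = Z := by
      refine Subgroup.eq_of_le_of_card_ge ?_ (Subgroup.card_map_of_injective α.injective).ge
      rintro _ ⟨z, hz, rfl⟩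
      exact (Subgroup.mem_normalizer_iff.1 n.2 _).1 hz
    let αq := QuotientGroup.congr Z Z α hαZ
    have hαT : (TC : Subgroup C).map (α : C →* C) = TC := by
      refine Subgroup.eq_of_le_of_card_ge ?_ (Subgroup.card_map_of_injective α.injective).ge
      rintro _ ⟨t, ht, rfl⟩
      obtain ⟨t', ht', e⟩ := (Subgroup.mem_normalizer_iff.1 hn _).1 ⟨t, ht, rfl⟩
      rwa [show (α : C →* C) t = t' from Subtype.ext e.symm]
    have hcomp : (αq.toMonoidHom).comp f = f.comp (α : C →* C) := MonoidHom.ext fun z => rfl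
    have hmap : Wb.map αq.toMonoidHom = Wb := by
      refine (H35.map_centerThompsonAOf αq.toMonoidHom (TX : Subgroup (C ⧸ Z)) αq.injective.injOn).trans ?_
      rw [hWb]
      congr 1
      rw [hTX, Sylow.coe_mapSurjective, Subgroup.map_map, hcomp, ← Subgroup.map_map, hαT]
    rw [← hmap]
    exact ⟨f y, hy, rfl⟩
  have hmemW : ∀ {x : G}, x ∈ W ↔ ∃ y : C, f y ∈ Wb ∧ ((y : L) : G) = x := by
    intro x
    constructor
    · rintro ⟨_, ⟨y, hy, rfl⟩, rfl⟩
      exact ⟨y, hy, rfl⟩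
    · rintro ⟨y, hy, rfl⟩
      exact ⟨_, ⟨y, hy, rfl⟩, rfl⟩
  -- maps of the system come from `L`
  have hreal : ∀ (R : Subgroup G) (φ : R →* G), φ ∈ F.Hom R → ∃ g : L, ∀ x : R, φ x = g * (x : G) * (g : G)⁻¹ := by
    intro R φ hφ
    obtain ⟨ψ, hψ, h1, h2⟩ := exists_ext_of_normal hQ hφ
    obtain ⟨-, -, g, hg⟩ := id hψ
    have hgQ : g ∈ L := H94.mem_normalizer_of_forall_conj_mem fun q hq => by
      have := h2 ⟨q, hq⟩
      rwa [hg] at this
    exact ⟨⟨g, hgQ⟩, fun x => (h1 x).symm.trans (hg _)⟩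
  have hWsc : F.StronglyClosed W := by
    refine ⟨hWS, fun R hR φ hφ x => ?_⟩
    obtain ⟨g, hg⟩ := hreal R φ hφ
    obtain ⟨y, hy, hyx⟩ := hmemW.1 (hR x.2)
    have hφS : φ x ∈ (P : Subgroup G) := (F.le_of_mem hφ).2 x
    rw [hg] at hφS ⊢
    rw [← hyx] at hφS ⊢
    obtain ⟨n, hn, c, hc, rfl⟩ := Subgroup.mem_sup_of_normal_right.1
      ((Sylow.normalizer_sup_eq_top TC).symm ▸ Subgroup.mem_top g :
        g ∈ Subgroup.normalizer ((TC : Subgroup C).map C.subtype : Set L) ⊔ C)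
    set c' : C := ⟨c, hc⟩
    set y' : C := (MulAut.conjNormal n : MulAut C) (c' * y * c'⁻¹)
    have hy' : ((y' : L) : G) = ((n * c : L) : G) * ((y : L) : G) * ((n * c : L) : G)⁻¹ := by
      simp [y', c', mul_assoc]
    rw [← hy'] at hφS ⊢
    have hy'T : y' ∈ (TC : Subgroup C) := (hTCmem y').2 hφS
    have hcy : c' * y * c'⁻¹ ∈ (TC : Subgroup C) := by
      obtain ⟨t, ht, e⟩ := (Subgroup.mem_normalizer_iff.1 hn ((c' * y * c'⁻¹ : C) : L)).2
        ⟨y', hy'T, by simp [y', mul_assoc]⟩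
      rwa [show c' * y * c'⁻¹ = t from Subtype.ext e.symm]
    have hW1 : f (c' * y * c'⁻¹) ∈ Wb := by
      rw [map_mul, map_mul, map_inv]
      refine hWbsc _ hy _ ?_
      rw [← map_inv, ← map_mul, ← map_mul]
      exact ⟨_, hcy, rfl⟩
    exact hmemW.2 ⟨y', hnorm n hn _ hW1, rfl⟩
  have hZsc : F.StronglyClosed ((Z.map C.subtype).map L.subtype) := by
    refine ⟨?_, fun R hR φ hφ x => ?_⟩
    · rintro _ ⟨_, ⟨z, hz, rfl⟩, rfl⟩
      exact hQS hz
    obtain ⟨g, hg⟩ := hreal R φ hφ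
    obtain ⟨_, ⟨z, hz, rfl⟩, hzx⟩ := hR x.2
    rw [hg, ← hzx]
    refine ⟨_, ⟨(MulAut.conjNormal g : MulAut C) z, (Subgroup.mem_normalizer_iff.1 g.2 _).1 hz, rfl⟩, ?_⟩
    simp
  have hWn : F.IsNormal W := by
    refine H93.isNormal_of_chain hS hF 2
      (fun i => if i = 0 then ⊥ else if i = 1 then (Z.map C.subtype).map L.subtype else W) (by simp) (by simp)
      (fun i hi => ?_) (fun i hi => ?_) (fun i hi => ?_)
    · interval_cases i
      · simp
      · simp only [one_ne_zero, if_false, if_true, OfNat.ofNat_ne_zero]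
        refine Subgroup.map_mono (Subgroup.map_mono fun z hz => ?_)
        rw [Subgroup.mem_comap, show f z = 1 from (QuotientGroup.eq_one_iff z).2 hz]
        exact one_mem _
    · interval_cases i
      · simpa using hZsc
      · simpa using hWsc
    · interval_cases i
      · simp only [one_ne_zero, if_false, if_true]
        rw [Subgroup.commutator_le]
        rintro _ ⟨_, ⟨y, -, rfl⟩, rfl⟩ _ ⟨_, ⟨z, hz, rfl⟩, rfl⟩
        rw [Subgroup.mem_bot, commutatorElement_eq_one_iff_mul_comm]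
        exact (Subgroup.mem_centralizer_iff.1 (Subgroup.mem_subgroupOf.1 y.2) _ hz).symm
      · simp only [one_ne_zero, if_false, if_true, OfNat.ofNat_ne_zero]
        rw [Subgroup.commutator_le]
        rintro _ ⟨_, ⟨y, hy, rfl⟩, rfl⟩ _ ⟨_, ⟨z, hz, rfl⟩, rfl⟩
        refine ⟨_, ⟨⁅y, z⁆, ?_, rfl⟩, by simp⟩
        refine (QuotientGroup.eq_one_iff _).1 ?_
        show f ⁅y, z⁆ = 1
        rw [map_commutatorElement, commutatorElement_eq_one_iff_mul_comm]
        exact ((Subgroup.mem_centralizer_iff.1 hy.2) _ hz.1).symm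
  have hWQ : W ≤ Q := le_sSup hWn
  have hWbot : Wb = ⊥ := by
    refine eq_bot_iff.2 fun w hw => ?_
    obtain ⟨y, rfl⟩ := hfs w
    exact Subgroup.mem_bot.2 ((QuotientGroup.eq_one_iff y).2 (hWQ (hmemW.2 ⟨y, hw, rfl⟩)))
  have hTXbot : (TX : Subgroup (C ⧸ Z)) = ⊥ := by
    by_contra hne
    exact H35.centerThompsonAOf_ne_bot TX.isPGroup' hne hWbot
  intro x hx
  have hxL : x ∈ L := hPL hx.1
  have hxC : (⟨x, hxL⟩ : L) ∈ C := hx.2
  have hxT : f ⟨⟨x, hxL⟩, hxC⟩ ∈ (⊥ : Subgroup (C ⧸ Z)) :=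
    hTXbot ▸ ⟨_, (hTCmem ⟨⟨x, hxL⟩, hxC⟩).2 hx.1, rfl⟩
  exact (QuotientGroup.eq_one_iff (⟨⟨x, hxL⟩, hxC⟩ : C)).1 (Subgroup.mem_bot.1 hxT)

end Cfsg.Agent.H96
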