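import Cfsg.Agent.H96.Basic
import Cfsg.Agent.H93.Local
import Cfsg.Agent.H93.Saturation
import Cfsg.Agent.H94.SatBasic
import Cfsg.Agent.H19.Cores

/-!
Stability of a system is detected in the normalizers of centric radical subgroups.
-/
set_option autoImplicit false

namespace Cfsg.Agent.H96

open Cfsg Cfsg.FusionSystem

variable {Ω : Type*} [Group Ω] {S : Subgroup Ω}

/-- The quadratic condition on an automorphism. -/
def IsQuad {Q : Subgroup Ω} (χ : MulAut Q) : Prop :=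
  ∀ a : Q, (χ a⁻¹) * a * (χ a⁻¹) * (χ (χ a)) = 1

/-- Every quadratic automorphism of `Q` in the system lies in `O_p`. -/
def StableAt (F : FusionSystem S) (p : ℕ) (Q : Subgroup Ω) : Prop :=
  ∀ χ : MulAut Q, χ ∈ F.autGroup Q → IsQuad χ →
    χ ∈ ((Cfsg.pCore p ↥(F.autGroup Q)).map (F.autGroup Q).subtype : Subgroup (MulAut ↥Q))

/-- An isomorphism of ambient groups carrying a subgroup onto another carries cores to cores. -/
theorem pCore_transport {A B : Type*} [Group A] [Group B] [Finite A] (e : A ≃* B) {U : Subgroup A} {V : Subgroup B}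
    (h : U.map e.toMonoidHom = V) (p : ℕ) {x : A}
    (hx : e x ∈ (Cfsg.pCore p V).map V.subtype) : x ∈ (Cfsg.pCore p U).map U.subtype := by
  subst h
  have : Finite B := Finite.of_equiv A e.toEquiv
  let f : U ≃* U.map e.toMonoidHom := U.equivMapOfInjective _ e.injective
  obtain ⟨y, hy, hyx⟩ := hx
  refine ⟨f.symm y, ?_, ?_⟩
  · exact H19.le_pCore ((H19.pCore_normal p _).map f.symm.toMonoidHom f.symm.surjective)
      ((H19.pCore_isPGroup p).map f.symm.toMonoidHom) (Subgroup.mem_map_of_mem f.symm.toMonoidHom hy)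
  · apply e.injective
    rw [← hyx]
    exact congrArg Subtype.val (f.apply_symm_apply y)

/-- A core element lying in a subgroup lies in the core of that subgroup. -/
theorem pCore_inf_le {A : Type*} [Group A] [Finite A] {U V : Subgroup A} (h : U ≤ V) (p : ℕ) {x : A}
    (hxU : x ∈ U) (hx : x ∈ (Cfsg.pCore p V).map V.subtype) : x ∈ (Cfsg.pCore p U).map U.subtype := by
  obtain ⟨y, hy, rfl⟩ := hx
  refine ⟨⟨y, hxU⟩, H19.le_pCore ((H19.pCore_normal p _).comap (Subgroup.inclusion h)) ?_ ?_, rfl⟩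
  · exact (H19.pCore_isPGroup p).comap_of_injective _ (Subgroup.inclusion_injective h)
  · exact hy

variable [Finite S] {F : FusionSystem S} {p : ℕ}

theorem stableAt_of_isConj {P Q : Subgroup Ω} (h : F.IsConj P Q) (hQ : StableAt F p Q) : StableAt F p P := by
  obtain ⟨φ, hφ, hr⟩ := h
  have hP := (F.le_of_mem hφ).1
  have := H93.finite_of_le (S := S) hP
  have : Finite (MulAut P) := Finite.of_injective (fun e : MulAut P => (e : P → P)) DFunLike.coe_injective
  intro χ hχ hquad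
  set e := H93.autCongr φ (F.injective_of_mem hφ) hr with he
  refine pCore_transport e (H93.autGroup_map_autCongr hφ hr) p (hQ _ (H93.autCongr_mem hφ hr hχ) ?_)
  intro a
  have h1 := congrArg (H93.homEquiv φ (F.injective_of_mem hφ) hr)
    (hquad ((H93.homEquiv φ (F.injective_of_mem hφ) hr).symm a))
  simpa [e, H93.autCongr, MulAut.congr] using h1

variable [Fact p.Prime]

/-- `R` carries all automorphisms of `Q'`. -/
def Carries (F : FusionSystem S) (R Q : Subgroup Ω) : Prop :=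
  Q ≤ R ∧ ∀ α ∈ F.autGroup Q, ∃ ψ ∈ F.Hom R, (∀ x : R, ψ x ∈ R) ∧
    ∀ (x : Q) (hx : (x : Ω) ∈ R), ψ ⟨x, hx⟩ = ((α x : Q) : Ω)

theorem exists_carries_centric (hS : IsPGroup p S) (hF : F.IsSaturated p) {Q : Subgroup Ω}
    (hQ : F.IsFullyNormalized Q) : ∃ R, F.IsCentric R ∧ Carries F R Q := by
  have hQS := hQ.1
  have hrec := (H94.fullyNormalized_spec hS hF hQ).2
  have hfc := H94.receptive_isFullyCentralized hrec
  refine ⟨Q ⊔ centralizerIn S Q, ⟨sup_le hQS inf_le_left, ?_⟩, le_sup_left, fun α hα => ?_⟩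
  · rintro Y ⟨φ, hφ, rfl⟩ y hy
    have hle : (res φ (le_sup_left : Q ≤ Q ⊔ centralizerIn S Q)).range ≤ φ.range := by
      rintro _ ⟨x, rfl⟩; exact ⟨_, rfl⟩
    have hcen : (res φ (le_sup_right : centralizerIn S Q ≤ Q ⊔ centralizerIn S Q)).range =
        centralizerIn S (res φ (le_sup_left : Q ≤ Q ⊔ centralizerIn S Q)).range := by
      have := H93.finite_of_le (S := S) (P := centralizerIn S
        (res φ (le_sup_left : Q ≤ Q ⊔ centralizerIn S Q)).range) inf_le_left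
      refine Subgroup.eq_of_le_of_card_ge ?_ ?_
      · rintro _ ⟨c, rfl⟩
        refine ⟨(F.le_of_mem hφ).2 _, ?_⟩
        rintro _ ⟨x, rfl⟩
        rw [res_apply, res_apply, ← map_mul, ← map_mul]
        exact congrArg φ (Subtype.ext (c.2.2 x x.2))
      · rw [card_range_eq F (res_mem F hφ _)]
        exact hfc.2 _ ⟨_, res_mem F hφ _, rfl⟩
    obtain ⟨c, hc⟩ := hcen.ge ⟨hy.1, Subgroup.centralizer_le (SetLike.coe_subset_coe.2 hle) hy.2⟩
    exact hc ▸ ⟨_, rfl⟩
  · have hαm := (mem_autGroup F hQS).1 hα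
    have hr : (Q.subtype.comp α.toMonoidHom).range = Q := range_eq_of_forall_mem F hαm fun x => (α x).2
    obtain ⟨ψ, hψ, hψe⟩ := hrec.2 Q _ hαm hr
    have hle : Q ⊔ centralizerIn S Q ≤ extender S Q (Q.subtype.comp α.toMonoidHom) :=
      sup_le (H93.le_extender hαm) (H93.centralizerIn_le_extender S Q _)
    refine ⟨res ψ hle, res_mem F hψ hle, ?_, fun x hx => hψe x x.2 _⟩
    have hsub : Q ⊔ centralizerIn S Q ≤ ((Q ⊔ centralizerIn S Q).comap ψ).map
        (extender S Q (Q.subtype.comp α.toMonoidHom)).subtype := by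
      refine sup_le (fun x hx => ⟨⟨x, H93.le_extender hαm hx⟩, ?_, rfl⟩) fun c hc =>
        ⟨⟨c, H93.centralizerIn_le_extender S Q _ hc⟩, ?_, rfl⟩
      · show ψ _ ∈ Q ⊔ centralizerIn S Q
        rw [hψe x hx]
        exact Subgroup.mem_sup_left (α ⟨x, hx⟩).2
      · refine Subgroup.mem_sup_right ⟨(F.le_of_mem hψ).2 _, fun q hq => ?_⟩
        obtain ⟨x, rfl⟩ := hr.ge hq
        rw [← hψe x x.2 (H93.le_extender hαm x.2), ← map_mul, ← map_mul]
        exact congrArg ψ (Subtype.ext (hc.2 x x.2))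
    intro x
    obtain ⟨y, hy, hyx⟩ := hsub x.2
    have hyeq : y = Subgroup.inclusion hle x := Subtype.ext hyx
    subst hyeq
    exact hy

theorem carries_of_isConj {R R' Q : Subgroup Ω} (hc : Carries F R Q) (h : F.IsConj R R') :
    ∃ Q', F.IsConj Q Q' ∧ Carries F R' Q' := by
  obtain ⟨θ, hθ, rfl⟩ := h
  obtain ⟨η, hη, hηr, hηi⟩ := exists_inv F hθ rfl
  obtain ⟨hQR, hc⟩ := hc
  refine ⟨(res θ hQR).range, ⟨_, res_mem F hθ hQR, rfl⟩, ?_, fun α hα => ?_⟩
  · rintro _ ⟨x, rfl⟩; exact ⟨_, rfl⟩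
  have hQ'R : (res θ hQR).range ≤ θ.range := by rintro _ ⟨x, rfl⟩; exact ⟨_, rfl⟩
  have hQ'S : (res θ hQR).range ≤ S := by rintro _ ⟨x, rfl⟩; exact (F.le_of_mem hθ).2 _
  obtain ⟨a, ha, hae⟩ := exists_comp F (res_mem F hθ hQR) ((mem_autGroup F hQ'S).1 hα) (fun x => ⟨x, rfl⟩)
  have hav : ∀ x : Q, a x ∈ (res θ hQR).range := fun x => by rw [hae]; exact (α _).2
  obtain ⟨b, hb, hbe⟩ := exists_comp F ha hη (fun x => hQ'R (hav x))
  have hbv : ∀ x : Q, b x ∈ Q := by
    intro x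
    obtain ⟨z, hz⟩ := hav x
    rw [hbe]
    have : η ⟨a x, hQ'R (hav x)⟩ = z := by
      rw [show (⟨a x, hQ'R (hav x)⟩ : θ.range) = ⟨θ ⟨z, hQR z.2⟩, _, rfl⟩ from Subtype.ext hz.symm]
      exact hηi _ _
    exact this ▸ z.2
  obtain ⟨β, hβ, hβe⟩ := exists_autGroup_of_mem F hb hbv
  obtain ⟨ψ, hψ, hψv, hψe⟩ := hc β hβ
  obtain ⟨u, hu, hue⟩ := exists_comp F hη hψ (fun y => hηr.le ⟨y, rfl⟩)
  obtain ⟨w, hw, hwe⟩ := exists_comp F hu hθ (fun y => by rw [hue]; exact hψv _)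
  refine ⟨w, hw, fun y => hwe y ▸ ⟨_, rfl⟩, fun y hy => ?_⟩
  obtain ⟨_, x, rfl⟩ := y
  have h1 : η ⟨res θ hQR x, hy⟩ = (x : Ω) := hηi ⟨x, hQR x.2⟩ hy
  have h2 : u ⟨res θ hQR x, hy⟩ = b x := by
    rw [hue]
    refine Eq.trans ?_ ((hψe x (hQR x.2)).trans (hβe x))
    exact congrArg ψ (Subtype.ext h1)
  rw [hwe]
  refine Eq.trans ?_ (hae x)
  refine Eq.trans (congrArg θ (Subtype.ext h2 : (_ : R) = ⟨b x, hQR (hbv x)⟩)) ?_
  refine Eq.trans (congrArg θ (Subtype.ext (hbe x) : (_ : R) = ⟨η ⟨a x, hQ'R (hav x)⟩, hηr.le ⟨_, rfl⟩⟩)) ?_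
  obtain ⟨z, hz⟩ : a x ∈ θ.range := hQ'R (hav x)
  refine Eq.trans (congrArg θ (Subtype.ext ?_ : (_ : R) = z)) hz
  rw [show (⟨a x, hQ'R (hav x)⟩ : θ.range) = ⟨θ z, _, rfl⟩ from Subtype.ext hz.symm]
  exact hηi _ _

/-- Growing a carrier that is not radical. -/
theorem exists_bigger_carrier (hS : IsPGroup p S) (hF : F.IsSaturated p) {R Q : Subgroup Ω}
    (hR : F.IsFullyNormalized R) (hRc : F.IsCentric R) (hc : Carries F R Q) (hnr : ¬ F.IsRadical p R) :
    ∃ P, R < P ∧ F.IsCentric P ∧ Carries F P Q := by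
  have hRS := hR.1
  have := H93.finite_of_le (S := S) hRS
  have : Finite (MulAut R) := Finite.of_injective (fun e : MulAut R => (e : R → R)) DFunLike.coe_injective
  obtain ⟨hauto, hrec⟩ := H94.fullyNormalized_spec hS hF hR
  set A := F.autGroup R
  set O := (Cfsg.pCore p A).map A.subtype with hO
  have hOS : O ≤ autInducedBy S R := by
    obtain ⟨-, T, hT⟩ := hauto
    rintro _ ⟨a, ha, rfl⟩
    have h := H19.pCore_le_sylow T ha
    rw [hT] at h
    exact h
  have hInn : Inn R ≤ O := by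
    have hn : ((Inn R).subgroupOf A).Normal := Subgroup.normal_subgroupOf
    intro β hβ
    refine ⟨⟨β, H93.inn_le_autGroup F hRS hβ⟩, H19.le_pCore hn (IsPGroup.comap_subtype ?_) hβ, rfl⟩
    rw [H93.inn_eq_autInducedBy]
    exact H93.isPGroup_autInducedBy (hS.to_le hRS) R
  set P : Subgroup Ω := (O.comap (H93.conjAut S R)).map (normalizerIn S R).subtype with hP
  have hmemP : ∀ g : Ω, ∀ hg : g ∈ normalizerIn S R, H93.conjAut S R ⟨g, hg⟩ ∈ O → g ∈ P :=
    fun g hg h => ⟨⟨g, hg⟩, h, rfl⟩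
  have hPN : P ≤ normalizerIn S R := by rintro _ ⟨g, -, rfl⟩; exact g.2
  have hPS : P ≤ S := hPN.trans (H93.normalizerIn_le S R)
  have hRP : R ≤ P := fun r hr => hmemP r (H93.le_normalizerIn hRS hr) (hInn (by
    rw [H93.inn_eq_autInducedBy]; exact H93.mem_autInducedBy.2 ⟨r, hr, fun x => rfl⟩))
  refine ⟨P, lt_of_le_not_ge hRP fun hle => hnr ⟨hRS, le_antisymm ?_ hInn⟩, ⟨hPS, ?_⟩, hc.1.trans hRP,
    fun α hα => ?_⟩
  · intro a ha
    obtain ⟨g, hg, hge⟩ := H93.mem_autInducedBy.1 (hOS ha)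
    have hgn : g ∈ normalizerIn S R := ⟨hg, H93.mem_normalizer_of_conj_eq hge⟩
    have hgR : g ∈ R := hle (hmemP g hgn (by
      rwa [show H93.conjAut S R ⟨g, hgn⟩ = a from MulEquiv.ext fun x => Subtype.ext (hge x).symm]))
    rw [H93.inn_eq_autInducedBy]
    exact H93.mem_autInducedBy.2 ⟨g, hgR, hge⟩
  · rintro Y ⟨φ, hφ, rfl⟩ y hy
    have hsub : (res φ hRP).range ≤ φ.range := by rintro _ ⟨x, rfl⟩; exact ⟨_, rfl⟩
    exact hsub (hRc.2 _ ⟨_, res_mem F hφ hRP, rfl⟩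
      ⟨hy.1, Subgroup.centralizer_le (SetLike.coe_subset_coe.2 hsub) hy.2⟩)
  · obtain ⟨ψ₀, hψ₀, hψ₀v, hψ₀e⟩ := hc.2 α hα
    have hr : ψ₀.range = R := range_eq_of_forall_mem F hψ₀ hψ₀v
    obtain ⟨β, hβ, hβe⟩ := exists_autGroup_of_mem F hψ₀ hψ₀v
    have hnorm : ∀ o ∈ O, β * o * β⁻¹ ∈ O := by
      rintro _ ⟨a, ha, rfl⟩
      exact ⟨⟨β, hβ⟩ * a * ⟨β, hβ⟩⁻¹, (H19.pCore_normal p A).conj_mem a ha _, rfl⟩
    have hle : P ≤ extender S R ψ₀ := by
      rintro _ ⟨g, hg, rfl⟩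
      obtain ⟨h, hh, hhe⟩ := H93.mem_autInducedBy.1 (hOS (hnorm _ hg))
      refine H93.mem_extender.2 ⟨g.2, h, hh, fun x hx => ?_⟩
      have h2 := hhe (β x)
      rw [MulAut.mul_apply, MulAut.mul_apply, MulAut.inv_apply_self, hβe, hβe] at h2
      exact h2
    obtain ⟨ψ, hψ, hψe⟩ := hrec.2 R ψ₀ hψ₀ hr
    refine ⟨res ψ hle, res_mem F hψ hle, ?_, fun x hx => ?_⟩
    · intro g
      obtain ⟨g₀, hg₀, hgg⟩ := g.2
      have hRN : R ≤ extender S R ψ₀ := H93.le_extender hψ₀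
      have himg : H93.imgIn ψ R = R := by
        rw [H93.imgIn_eq_range_restrict ψ hRN]
        refine Eq.trans ?_ hr
        congr 1
        exact MonoidHom.ext fun x => hψe x x.2 _
      have hgN := H93.apply_mem_normalizerIn hψ hRN ⟨g, hle g.2⟩ (hPN g.2).2
      rw [himg] at hgN
      refine hmemP _ hgN ?_
      have heq : H93.conjAut S R ⟨_, hgN⟩ = β * H93.conjAut S R g₀ * β⁻¹ := by
        refine MulEquiv.ext fun y => Subtype.ext ?_
        obtain ⟨x, rfl⟩ := β.surjective y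
        rw [H93.conjAut_apply, MulAut.mul_apply, MulAut.mul_apply, MulAut.inv_apply_self, hβe, hβe]
        show ψ ⟨g, hle g.2⟩ * ψ₀ x * (ψ ⟨g, hle g.2⟩)⁻¹ = ψ₀ _
        rw [← hψe x x.2 (hRN x.2), ← hψe _ (H93.conjAut S R g₀ x).2 (hRN (H93.conjAut S R g₀ x).2),
          ← map_inv, ← map_mul, ← map_mul]
        refine congrArg ψ (Subtype.ext ?_)
        rw [H93.conjAut_apply]
        show (g : Ω) * x * (g : Ω)⁻¹ = _
        rw [← hgg]
        rfl
      show H93.conjAut S R ⟨ψ ⟨g, hle g.2⟩, hgN⟩ ∈ O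
      rw [heq]
      exact hnorm _ hg₀
    · exact (hψe x (hc.1 x.2) _).trans (hψ₀e x (hc.1 x.2))

theorem exists_centric_radical_carrier (hS : IsPGroup p S) (hF : F.IsSaturated p) {Q : Subgroup Ω}
    (hQ : F.IsFullyNormalized Q) :
    ∃ R Q', F.IsFullyNormalized R ∧ F.IsCentric R ∧ F.IsRadical p R ∧ F.IsConj Q Q' ∧ Carries F R Q' := by
  obtain ⟨R₀, hR₀, hc₀⟩ := exists_carries_centric hS hF hQ
  suffices h : ∀ (n : ℕ) (R Q' : Subgroup Ω), Nat.card S - Nat.card R = n → F.IsCentric R → F.IsConj Q Q' →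
      Carries F R Q' → ∃ R Q', F.IsFullyNormalized R ∧ F.IsCentric R ∧ F.IsRadical p R ∧ F.IsConj Q Q' ∧
        Carries F R Q' from h _ R₀ Q rfl hR₀ (isConj_refl F hQ.1) hc₀
  intro n
  induction n using Nat.strong_induction_on with
  | _ n ih =>
  intro R Q' hn hRc hQQ' hc
  obtain ⟨R', hRR', hR'⟩ := H94.exists_fullyNormalized (F := F) hRc.1
  have hR'c : F.IsCentric R' := ⟨hR'.1, fun Y hY => hRc.2 Y (isConj_trans hRR' hY)⟩
  obtain ⟨Q'', hQ'', hc'⟩ := carries_of_isConj hc hRR'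
  by_cases hrad : F.IsRadical p R'
  · exact ⟨R', Q'', hR', hR'c, hrad, isConj_trans hQQ' hQ'', hc'⟩
  obtain ⟨P, hlt, hPc, hcP⟩ := exists_bigger_carrier hS hF hR' hR'c hc' hrad
  have := H93.finite_of_le (S := S) hPc.1
  have h1 : Nat.card R' < Nat.card P := lt_of_le_of_ne (Subgroup.card_le_of_le hlt.le)
    fun e => hlt.ne (Subgroup.eq_of_le_of_card_ge hlt.le e.ge)
  have h2 : Nat.card P ≤ Nat.card S := Subgroup.card_le_of_le hPc.1
  have h3 : Nat.card R = Nat.card R' := H93.isConj_card_eq hRR'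
  exact ih _ (by omega) P Q'' rfl hPc (isConj_trans hQQ' hQ'') hcP

/-- Stability in the system is equivalent to stability in the normalizers of centric radical subgroups. -/
theorem stable_iff_local (hS : IsPGroup p S) (hF : F.IsSaturated p) :
    (∀ Q, F.IsFullyNormalized Q → StableAt F p Q) ↔
      ∀ R, F.IsFullyNormalized R → F.IsCentric R → F.IsRadical p R →
        ∀ N : FusionSystem (normalizerIn S R), F.IsNormalizerSystem R N →
          ∀ Q, N.IsFullyNormalized Q → StableAt N p Q := by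
  constructor
  · intro h R hR _ _ N hN Q hQ χ hχ hquad
    have hQN := hQ.1
    have hQS := hQN.trans (H93.normalizerIn_le S R)
    have := H93.finite_of_le (S := S) hQS
    have : Finite (MulAut Q) := Finite.of_injective (fun e : MulAut Q => (e : Q → Q)) DFunLike.coe_injective
    have hle : N.autGroup Q ≤ F.autGroup Q := fun γ hγ => by
      have := (mem_autGroup N hQN).1 hγ
      rw [hN Q] at this
      exact (mem_autGroup F hQS).2 this.1
    obtain ⟨Q', hQQ', hQ'⟩ := H94.exists_fullyNormalized (F := F) hQS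
    exact pCore_inf_le hle p hχ (stableAt_of_isConj hQQ' (h Q' hQ') χ (hle hχ) hquad)
  · intro h Q hQ
    obtain ⟨R, Q', hR, hRc, hRr, hQQ', hc⟩ := exists_centric_radical_carrier hS hF hQ
    refine stableAt_of_isConj hQQ' ?_
    have hRS := hR.1
    set N := H93.normalizerSystem F R hRS
    have hN : F.IsNormalizerSystem R N := fun P => rfl
    have := H93.finite_of_le (S := S) (H93.normalizerIn_le S R)
    have hRN : R ≤ normalizerIn S R := H93.le_normalizerIn hRS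
    have hQ'N : Q' ≤ normalizerIn S R := hc.1.trans hRN
    have hQ'S := hQ'N.trans (H93.normalizerIn_le S R)
    have heq : N.autGroup Q' = F.autGroup Q' := by
      refine le_antisymm (fun γ hγ => ?_) fun α hα => ?_
      · exact (mem_autGroup F hQ'S).2 ((mem_autGroup N hQ'N).1 hγ).1
      · obtain ⟨ψ, hψ, hψv, hψe⟩ := hc.2 α hα
        have hsup : Q' ⊔ R ≤ R := sup_le hc.1 le_rfl
        refine (mem_autGroup N hQ'N).2 ⟨(mem_autGroup F hQ'S).1 hα, hQ'N, fun x => hQ'N (α x).2,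
          res ψ hsup, res_mem F hψ hsup, fun x => hψe x _, ?_⟩
        rw [map_subgroupOf_eq_range _ le_sup_right]
        exact range_eq_of_forall_mem F (res_mem F (res_mem F hψ hsup) _) fun x => hψv _
    obtain ⟨Q'', hQ'Q'', hQ''⟩ := H94.exists_fullyNormalized (F := N) hQ'N
    intro χ hχ hquad
    have h1 := stableAt_of_isConj hQ'Q'' (h R hR hRc hRr N hN Q'' hQ'') χ (heq ▸ hχ) hquad
    rwa [heq] at h1

end Cfsg.Agent.H96
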