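import Cfsg.Agent.H96.PrimeStep

/-!
The step of index prime to `p`.
-/

set_option autoImplicit false

namespace Cfsg.Agent.H96

open Cfsg Cfsg.FusionSystem Cfsg.Agent.H93

universe u

variable {Ω : Type u} [Group Ω] {S T U : Subgroup Ω} {p : ℕ} {F : FusionSystem S} {E : FusionSystem T}

/-- Invariance from a decomposition of the maps and stability under the automorphisms of the base. -/
theorem invariant_of_decompose [Finite S] [Fact p.Prime] (hS : IsPGroup p S) (hF : F.IsSaturated p)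
    {D : FusionSystem U} (hDs : D.IsSaturated p) (hDF : D.IsSubsystemOf F) (hU : F.StronglyClosed U)
    (hdec : ∀ R : Subgroup Ω, R ≤ U → ∀ ψ ∈ F.Hom R, ∃ a : Ω → Ω, Mor F U U a ∧
      ∃ ψ₀ ∈ D.Hom R, ∀ x, ψ x = a (ψ₀ x))
    (hst : AutStable F U D) : D.IsInvariantIn F := by
  refine (H94.invariant_iff_stronglyInvariant hS hF hDF hU).2 ?_
  intro P Q hPQ hQU φ hφ hφQ ψ hψ
  obtain ⟨a, ha, ψ₀, hψ₀, he⟩ := hdec Q hQU ψ hψ
  obtain ⟨χ₀, hχ₀, hχ₀e⟩ := H94.stronglyInvariant_of_invariant (H94.weaklyNormal_self hDs).2.2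
    P Q hPQ hQU φ hφ hφQ ψ₀ hψ₀
  obtain ⟨f, hf, hfe⟩ := exists_mor hχ₀ rfl
  obtain ⟨P', Q', g, hPP', hg, hge⟩ := (hst a ha).2 _ _ f hf
  obtain ⟨χ, hχ, -, hχv⟩ := hg
  have heq : (P.subgroupOf Q).map ψ = P' := by
    apply le_antisymm
    · rintro _ ⟨x, hx, rfl⟩
      rw [he]
      exact hPP'.map_mem ⟨x, hx, rfl⟩
    · intro z hz
      obtain ⟨w, hw, rfl⟩ := hPP'.surj hz
      obtain ⟨x, hx, rfl⟩ := hw
      exact ⟨x, hx, he x⟩
  refine ⟨χ.comp (Subgroup.inclusion heq.le), H93.mem_of_eq hχ heq fun _ _ _ => rfl, fun x hx => ?_⟩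
  show χ ⟨_, _⟩ = _
  rw [hχv]
  show g (ψ (Subgroup.inclusion hPQ x)) = _
  have hxP : ψ₀ (Subgroup.inclusion hPQ x) ∈ (P.subgroupOf Q).map ψ₀ := ⟨_, x.2, rfl⟩
  rw [he, hge _ hxP, he]
  exact congrArg a ((hfe ⟨_, hxP⟩).trans (hχ₀e x hxP))

/-- The step. -/
theorem exists_prime_step [Finite S] [Fact p.Prime] (hS : IsPGroup p S)
    {G : FusionSystem U} (hG : G.IsWeaklyNormalIn F p) (hTU : T ⊔ centralizerIn S T ≤ U)
    (hE : E.IsNormalIn G p) (hEI : E.IsInvariantIn F) {N : Subgroup (MulAut T)} (hEN : E.autGroup T ≤ N)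
    (hidx : (N.relIndex (G.autGroup T)).Coprime p)
    (hN : ∀ a ∈ F.autGroup T, ∀ k ∈ N, a * k * a⁻¹ ∈ N) :
    ∃ D : FusionSystem U, D.IsWeaklyNormalIn F p ∧
      E.IsNormalIn D p ∧ D.IsSubsystemOf G ∧ D.autGroup T ≤ N ∧
      ∀ (L L' : Subgroup Ω) (Ginf : FusionSystem L) (Dinf : FusionSystem L'), Ginf.IsResidualLimitOf G p →
        Dinf.IsResidualLimitOf D p → ∀ P : Subgroup Ω, Ginf.Hom P = Dinf.Hom P := by
  obtain ⟨hGs, hF, hGI⟩ := id hG
  have hUS : U ≤ S := hGI.2.1.1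
  have := finite_of_le hUS
  have hU : IsPGroup p U := hS.to_le hUS
  have hTU' : T ≤ U := le_sup_left.trans hTU
  have hTS : T ≤ S := hTU'.trans hUS
  have := finite_of_le hTS
  have hAGF : G.autGroup T ≤ F.autGroup T := fun a ha =>
    (mem_autGroup F hTS).2 (hGI.1 T ((mem_autGroup G hTU').1 ha))
  set K := N.subgroupOf (G.autGroup T) with hK
  haveI : K.Normal := ⟨fun k hk a => Subgroup.mem_subgroupOf.2 (hN a (hAGF a.2) k (Subgroup.mem_subgroupOf.1 hk))⟩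
  have : Finite (G.autGroup T) := H93.finite_autGroup hTU'
  set χ := QuotientGroup.mk' K with hχdef
  have h : CharData p G E χ := ⟨hU, hGs, hE.1.1, hE.1.2.2, inferInstance,
    by rw [← Subgroup.index_eq_card]; exact hidx, QuotientGroup.mk'_surjective K,
    fun a ha => by
      rw [hχdef, QuotientGroup.ker_mk']
      exact Subgroup.mem_subgroupOf.2 (hEN (Subgroup.mem_subgroupOf.1 ha))⟩
  have hval : ∀ β : G.autGroup T, χ β = 1 ↔ (β : MulAut T) ∈ N := fun β => by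
    rw [hχdef, QuotientGroup.mk'_apply, QuotientGroup.eq_one_iff]
    exact Subgroup.mem_subgroupOf
  set D := charSystem χ E with hD
  have hDs : D.IsSaturated p := h.isSaturated
  have hDG : D.IsSubsystemOf G := fun P φ hφ => hφ.1
  have hlift : ∀ (P : Subgroup Ω) (φ : P →* Ω), φ ∈ G.Hom P →
      ∃ a : Ω → Ω, Mor G U U a ∧ ∃ φ₀ ∈ D.Hom P, ∀ x, φ x = a (φ₀ x) := by
    intro P φ hφ
    obtain ⟨f, hf, hfe⟩ := exists_mor hφ rfl
    obtain ⟨a, f₀, Q₀, ha, hf₀, he⟩ := h.decompose hf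
    obtain ⟨φ₀, hφ₀, -, hv⟩ := hf₀
    exact ⟨a, ha, φ₀, hφ₀, fun x => by rw [← hfe, he x x.2, hv]⟩
  have hstF : AutStable F U D := autStable_charSystem hGI hEI h fun α hα β hm hβ =>
    (hval _).2 (hN α hα _ ((hval β).1 hβ))
  have hstG : AutStable G U D := autStable_charSystem (H94.weaklyNormal_self hGs).2.2 hE.1.2.2 h
    fun α hα β hm hβ => (hval _).2 (hN α (hAGF hα) _ ((hval β).1 hβ))
  have hGU : ∀ a : Ω → Ω, Mor G U U a → Mor F U U a := fun a ha => by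
    obtain ⟨φ, hφ, hr, hv⟩ := ha
    exact ⟨φ, hGI.1 U hφ, hr, hv⟩
  have hDF : D.IsInvariantIn F := by
    refine invariant_of_decompose hS hF hDs (fun P φ hφ => hGI.1 P (hDG P hφ)) hGI.2.1
      (fun R hR ψ hψ => ?_) hstF
    obtain ⟨α, hα, ψ₁, hψ₁, he⟩ := hGI.2.2.2 R hR ψ hψ
    obtain ⟨a, ha, hae⟩ := exists_mor_of_aut hUS hα
    obtain ⟨c, hc, ψ₀, hψ₀, hce⟩ := hlift R ψ₁ hψ₁
    exact ⟨fun x => a (c x), ha.comp (hGU c hc), ψ₀, hψ₀, fun x => by
      rw [he x ((G.le_of_mem hψ₁).2 x), ← hae]; exact congrArg a (hce x)⟩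
  have hDG' : D.IsWeaklyNormalIn G p := ⟨hDs, hGs, invariant_of_decompose hU hGs hDs hDG
    (H96.stronglyClosed_top G) (fun R _ ψ hψ => hlift R ψ hψ) hstG⟩
  -- `E` in `D`
  have hED : E.IsSubsystemOf D := h.le_charSystem
  have hTG : G.StronglyClosed T := h.closed
  have hTD : D.StronglyClosed T := ⟨hTU', fun R hR φ hφ x => hTG.2 R hR φ (hDG R hφ) x⟩
  have hEI' : E.IsInvariantIn D := (H94.invariant_iff_stronglyInvariant hU hDs hED hTD).2
    fun P Q hPQ hQT φ hφ hφQ ψ hψ =>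
      H94.stronglyInvariant_of_invariant hE.1.2.2 P Q hPQ hQT φ hφ hφQ ψ (hDG Q hψ)
  -- the subgroup `T C_U(T)`
  set W := T ⊔ centralizerIn U T with hW
  have hWU : W ≤ U := sup_le hTU' inf_le_left
  have hUn : U ≤ Subgroup.normalizer (T : Set Ω) := h.normal
  have hCW : centralizerIn U T ≤ W := le_sup_right
  have hWT : W ⊓ T = T := inf_eq_right.2 le_sup_left
  have hTc : E.IsCentric T := by
    simpa [inf_eq_right.2 h.top_le] using h.goodPair_top.2
  have hWgood : GoodPair G E W := by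
    refine ⟨⟨hWU, fun Q hQ x hx => ?_⟩, hWT.symm ▸ hTc⟩
    obtain ⟨φ, hφ, rfl⟩ := hQ
    have hTr : ∀ t (ht : t ∈ T), φ ⟨t, Subgroup.mem_sup_left ht⟩ ∈ T := fun t ht =>
      H94.apply_mem_of_stronglyClosed hTG hφ (x := ⟨t, Subgroup.mem_sup_left ht⟩) ht
    have hmem : ∀ w, φ w ∈ W := by
      have hTs : ∀ t ∈ T, ∃ t', ∃ ht' : t' ∈ T, φ ⟨t', Subgroup.mem_sup_left ht'⟩ = t := by
        intro t ht
        have h1 := range_eq_of_forall_mem G (res_mem G hφ le_sup_left) (fun x => hTr x x.2)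
        obtain ⟨z, hz⟩ := h1.ge ht
        exact ⟨z, z.2, hz⟩
      have hle : W ≤ (W.comap φ).map W.subtype := by
        refine sup_le (fun g hg => ⟨⟨g, Subgroup.mem_sup_left hg⟩, Subgroup.mem_sup_left (hTr g hg), rfl⟩)
          (fun g hg => ⟨⟨g, Subgroup.mem_sup_right hg⟩, Subgroup.mem_sup_right ⟨(G.le_of_mem hφ).2 _,
            fun t ht => ?_⟩, rfl⟩)
        obtain ⟨t', ht', rfl⟩ := hTs t ht
        rw [← map_mul, ← map_mul]
        exact congrArg φ (Subtype.ext (hg.2 t' ht'))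
      intro w
      obtain ⟨w', hw, e⟩ := hle w.2
      rw [show w = w' from Subtype.ext e.symm]
      exact hw
    have hr := range_eq_of_forall_mem G hφ hmem
    refine hr.ge (hCW ⟨hx.1, fun t ht => hx.2 t ?_⟩)
    exact hr.ge (Subgroup.mem_sup_left ht)
  have hEn : E.IsNormalIn D p := by
    refine ⟨⟨hE.1.1, hDs, hEI'⟩, fun α hα => ?_⟩
    obtain ⟨β, hβ, hβT, hβC⟩ := hE.2 α hα
    refine ⟨β, ?_, hβT, hβC⟩
    obtain ⟨b, hb, hbe⟩ := exists_mor_of_aut hWU hβ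
    obtain ⟨c, hc, hce⟩ := exists_mor_of_aut le_rfl hα
    have hbT : Mor G T T b := by
      refine hb.restrict_eq le_sup_left (fun t ht => ?_) fun z hz => ?_
      · rw [show b t = _ from (hbe ⟨t, Subgroup.mem_sup_left ht⟩).trans (hβT ⟨t, ht⟩)]
        exact (α _).2
      · obtain ⟨y, hy⟩ := α.surjective ⟨z, hz⟩
        refine ⟨y, y.2, ?_⟩
        rw [show b y = _ from (hbe ⟨y, Subgroup.mem_sup_left y.2⟩).trans (hβT y), hy]
    have hchi : Chi χ b 1 := (h.chi_top hc).congr fun x hx => by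
      rw [show c x = _ from hce ⟨x, hx⟩, show b x = _ from (hbe ⟨x, Subgroup.mem_sup_left hx⟩).trans (hβT ⟨x, hx⟩)]
    obtain ⟨γ, hγ, hγe⟩ :=
      (mor_charSystem hWgood hb (h.dec_of_top inf_le_right hbT hchi)).exists_aut
    rwa [show β = γ from MulEquiv.ext fun x => Subtype.ext ((hbe x).symm.trans (hγe x).symm)]
  -- the automizer of `T`
  have hDT : D.autGroup T ≤ N := by
    intro α hα
    obtain ⟨a, ha, hae⟩ := exists_mor_of_aut hTU' hα
    obtain ⟨-, hrec⟩ := H94.fullyNormalized_spec hU hDs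
      (H93.isFullyNormalized_of_normalized (F := D) hTU' (le_antisymm inf_le_left (le_inf le_rfl hUn)))
    obtain ⟨a', M', ha', hagree, -⟩ := ha.extend hrec (M := centralizerIn U T) fun s hs => by
      refine ⟨⟨hs.1, hUn hs.1⟩, 1, U.one_mem, fun x hx => ?_⟩
      rw [← hs.2 x hx]
      group
    have h1 := h.dec_of_charSystem hWgood ha'
    rw [hWT] at h1
    have haG : Mor G T T a' := by
      obtain ⟨φ, hφ, hr, hv⟩ := ha
      exact ⟨φ, hDG T hφ, hr, fun x => (hv x).trans (hagree x x.2).symm⟩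
    obtain ⟨d, hd⟩ := h.chi_exists haG
    have hd1 := h.dec_unique hTc h1 (h.dec_of_top le_rfl haG hd)
    obtain ⟨γ, hγ, hγe⟩ := hd
    rw [show α = (γ : MulAut T) from MulEquiv.ext fun x =>
      Subtype.ext ((hae x).symm.trans ((hagree x x.2).symm.trans (hγe x).symm))]
    exact (hval γ).1 (hγ.trans hd1.symm)
  exact ⟨D, ⟨hDs, hF, hDF⟩, hEn, hDG, hDT, fun L L' Ginf Dinf h1 h2 =>
    limit_eq_of_primeIndex hU hGs hDG' h.hasPrimeToPIndexIn L L' Ginf Dinf h1 h2⟩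

end Cfsg.Agent.H96
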