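import Cfsg.Agent.H93.Realized
import Cfsg.Agent.H94.GroupFactor
import Cfsg.Agent.H19.Cores

/-!
A system realized on a Sylow subgroup is realized by the quotient by a normal subgroup of order prime to `p`.
-/
set_option autoImplicit false

namespace Cfsg.Agent.H96

open Cfsg Cfsg.FusionSystem

variable {Ω : Type*} [Group Ω] {S : Subgroup Ω} {F : FusionSystem S} {G : Type*} [Group G]

/-- Passing to the quotient by `O_{p'}(G)` does not change the realized system. -/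
theorem realized_quotient_pPrimeCore [Finite G] (p : ℕ) [Fact p.Prime] {ι : S →* G}
    (hr : F.IsRealizedBy ι) (hT : ∃ T : Sylow p G, (T : Subgroup G) = ι.range)
    [(Cfsg.pPrimeCore p G).Normal] :
    F.IsRealizedBy ((QuotientGroup.mk' (Cfsg.pPrimeCore p G)).comp ι) ∧
      ∃ T : Sylow p (G ⧸ Cfsg.pPrimeCore p G),
        (T : Subgroup (G ⧸ Cfsg.pPrimeCore p G)) = ((QuotientGroup.mk' (Cfsg.pPrimeCore p G)).comp ι).range := by
  obtain ⟨T, hT⟩ := hT
  have hTmem : ∀ s : S, ι s ∈ (T : Subgroup G) := fun s => hT ▸ ⟨s, rfl⟩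
  set N := Cfsg.pPrimeCore p G with hN
  set π := QuotientGroup.mk' N
  have hπ : Function.Surjective π := QuotientGroup.mk'_surjective N
  have hTN : (T : Subgroup G) ⊓ N = ⊥ := H19.inf_eq_bot_of_isPGroup_coprime T.isPGroup'
    (H19.pPrimeCore_coprime p).symm.symm
  have hinjT : ∀ x ∈ (T : Subgroup G), ∀ y ∈ (T : Subgroup G), π x = π y → x = y := by
    intro x hx y hy e
    have : x⁻¹ * y ∈ (T : Subgroup G) ⊓ N :=
      ⟨(T : Subgroup G).mul_mem ((T : Subgroup G).inv_mem hx) hy, QuotientGroup.eq.1 e⟩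
    rw [hTN, Subgroup.mem_bot, inv_mul_eq_one] at this
    exact this
  refine ⟨⟨?_, ?_⟩, T.mapSurjective hπ, ?_⟩
  · intro a b e
    exact hr.1 (hinjT _ (hTmem a) _ (hTmem b) e)
  · intro P hP φ hφ
    rw [hr.2 P hP φ hφ]
    constructor
    · rintro ⟨g, hg⟩
      exact ⟨π g, fun x => by simp only [MonoidHom.comp_apply, hg x, map_mul, map_inv]⟩
    · rintro ⟨gb, hgb⟩
      obtain ⟨-, -, -, hiff⟩ := H94.isFactorSystem_quotient p T N
      set θ := π.comp (T : Subgroup G).subtype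
      set P₁ := (P.subgroupOf S).map ι
      have hP₁ : P₁ ≤ (T : Subgroup G) := by
        rintro _ ⟨x, -, rfl⟩; exact hTmem x
      set P' := P₁.map π
      have hval : ∀ y : P', Cfsg.conjHom P' gb y ∈ (T : Subgroup G).map π := by
        rintro ⟨_, _, ⟨x, hx, rfl⟩, rfl⟩
        show gb * π (ι x) * gb⁻¹ ∈ _
        refine ⟨ι ⟨φ ⟨x, hx⟩, hφ _⟩, hTmem _, ?_⟩
        exact hgb ⟨x, hx⟩
      obtain ⟨-, χ, ⟨-, -, g, hg⟩, hPT, hχT, hm, hind⟩ :=
        (hiff P' (Cfsg.conjHom P' gb)).1 ⟨Subgroup.map_mono hP₁, hval, gb, fun y => rfl⟩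
      refine ⟨g, fun x => ?_⟩
      set s : S := ⟨(x : Ω), hP x.2⟩
      have hs : ι s ∈ Cfsg.FusionSystem.preimageAlong θ P' :=
        H94.mem_preimageAlong.2 ⟨hTmem s, _, ⟨s, x.2, rfl⟩, rfl⟩
      have h1 : gb * π (ι s) * gb⁻¹ = π (χ ⟨ι s, hs⟩) := hind ⟨ι s, hs⟩
      rw [show ι ⟨φ x, hφ x⟩ = χ ⟨ι s, hs⟩ from
        hinjT _ (hTmem _) _ (hχT _) ((hgb x).trans h1)]
      exact hg _
  · rw [Sylow.coe_mapSurjective, hT, MonoidHom.range_comp]

end Cfsg.Agent.H96
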