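import Cfsg.Agent.H96.PPowerStep
import Cfsg.Agent.H96.PrimeStepMain
import Cfsg.Agent.H35.Constrained

/-!
Reduction to a subsystem over `T C_S(T)` with the automizer of the normal subsystem at `T`, when the quotient
of the automizers at `T` is `p`-solvable.
-/

set_option autoImplicit false

namespace Cfsg.Agent.H96

open Cfsg Cfsg.FusionSystem Cfsg.Agent.H93

universe u

variable {Ω : Type u} [Group Ω] {S T : Subgroup Ω} {p : ℕ}

/-- A `p`-solvable group generated both by its `p`-elements and by its `p'`-elements is trivial. -/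
theorem top_eq_bot_of_perfect {X : Type*} [Group X] [Finite X] [Fact p.Prime] (h : IsPSolvable p X)
    (h1 : Subgroup.closure {x : X | (orderOf x).Coprime p} = ⊤)
    (h2 : Subgroup.closure {x : X | ∃ k : ℕ, orderOf x = p ^ k} = ⊤) : (⊤ : Subgroup X) = ⊥ := by
  obtain ⟨n, H, h0, hn, -, hnor, hstep⟩ := h
  suffices hall : ∀ i, H i = ⊤ from (hall 0).symm.trans h0
  intro i
  induction i using Fin.reverseInduction with
  | last => exact hn
  | cast j ih =>
    have := hnor j.castSucc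
    set K := H j.castSucc with hK
    have key : ∀ x : X, (orderOf (QuotientGroup.mk' K x)) ∣ orderOf x ∧
        orderOf (QuotientGroup.mk' K x) ∣ K.index := fun x =>
      ⟨orderOf_map_dvd _ x, Subgroup.index_eq_card K ▸ orderOf_dvd_natCard _⟩
    have hmem : ∀ x : X, orderOf (QuotientGroup.mk' K x) = 1 → x ∈ K := fun x hx => by
      rwa [orderOf_eq_one_iff, QuotientGroup.mk'_apply, QuotientGroup.eq_one_iff] at hx
    have hi := hstep j
    rw [ih, Subgroup.relIndex_top_right] at hi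
    rcases hi with ⟨m, hm⟩ | hc
    · refine top_le_iff.1 (h1 ▸ (Subgroup.closure_le K).2 fun x hx => hmem x ?_)
      obtain ⟨ha, hb⟩ := key x
      exact Nat.eq_one_of_dvd_coprimes (hx.pow_right m) ha (hm ▸ hb)
    · refine top_le_iff.1 (h2 ▸ (Subgroup.closure_le K).2 fun x hx => hmem x ?_)
      obtain ⟨ha, hb⟩ := key x
      obtain ⟨k, hk⟩ := hx
      exact Nat.eq_one_of_dvd_coprimes (hc.symm.pow_left k) (hk ▸ ha) hb

/-- A group mapping into a `p`-solvable group, generated modulo the kernel by its `p`-elements and by its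
`p'`-elements, lies in the kernel. -/
theorem le_of_generated {M Q : Type*} [Group M] [Group Q] [Finite Q] [Fact p.Prime] (hQ : IsPSolvable p Q)
    {A A' B : Subgroup M} (hAA' : A ≤ A') (ρ : A' →* Q) (hker : ∀ a : A', ρ a = 1 ↔ (a : M) ∈ B)
    (h1 : A ≤ Subgroup.closure ({a | a ∈ A ∧ (orderOf a).Coprime p} ∪ ↑(A ⊓ B)))
    (h2 : A ≤ Subgroup.closure ({a | a ∈ A ∧ ∃ k : ℕ, orderOf a = p ^ k} ∪ ↑(A ⊓ B))) : A ≤ B := by
  set ρ₁ := (ρ.comp (Subgroup.inclusion hAA')).rangeRestrict with hρ₁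
  have gen : ∀ c : ℕ → Prop, (∀ m n, m ∣ n → c n → c m) →
      A ≤ Subgroup.closure ({a | a ∈ A ∧ c (orderOf a)} ∪ ↑(A ⊓ B)) →
      Subgroup.closure {x : (ρ.comp (Subgroup.inclusion hAA')).range | c (orderOf x)} = ⊤ := by
    intro c hc hle
    refine top_le_iff.1 fun x _ => ?_
    obtain ⟨a, rfl⟩ := MonoidHom.rangeRestrict_surjective _ x
    have key : ∀ b ∈ Subgroup.closure ({a | a ∈ A ∧ c (orderOf a)} ∪ ↑(A ⊓ B)), ∃ hb : b ∈ A,
        ρ₁ ⟨b, hb⟩ ∈ Subgroup.closure {x : (ρ.comp (Subgroup.inclusion hAA')).range | c (orderOf x)} := by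
      intro b hb
      induction hb using Subgroup.closure_induction with
      | mem b hb =>
        rcases hb with ⟨hbA, hbc⟩ | hbB
        · refine ⟨hbA, Subgroup.subset_closure (hc _ _ ?_ hbc)⟩
          rw [← Subgroup.orderOf_mk b hbA]
          exact orderOf_map_dvd ρ₁ _
        · refine ⟨hbB.1, ?_⟩
          rw [show ρ₁ ⟨b, hbB.1⟩ = 1 from Subtype.ext ((hker _).2 hbB.2)]
          exact one_mem _
      | one => exact ⟨one_mem _, by rw [show (⟨1, one_mem A⟩ : A) = 1 from rfl, map_one]; exact one_mem _⟩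
      | mul b d _ _ hb hd =>
        obtain ⟨hb, hb'⟩ := hb; obtain ⟨hd, hd'⟩ := hd
        exact ⟨A.mul_mem hb hd, by
          rw [show (⟨b * d, A.mul_mem hb hd⟩ : A) = ⟨b, hb⟩ * ⟨d, hd⟩ from rfl, map_mul]
          exact mul_mem hb' hd'⟩
      | inv b _ hb =>
        obtain ⟨hb, hb'⟩ := hb
        exact ⟨A.inv_mem hb, by
          rw [show (⟨b⁻¹, A.inv_mem hb⟩ : A) = (⟨b, hb⟩ : A)⁻¹ from rfl, map_inv]
          exact inv_mem hb'⟩
    exact (key _ (hle a.2)).2
  have h := top_eq_bot_of_perfect (H35.isPSolvable_subgroup hQ _)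
    (gen (fun n => n.Coprime p) (fun m n hmn hn => hn.coprime_dvd_left hmn) h1)
    (gen (fun n => ∃ k : ℕ, n = p ^ k) (fun m n hmn hn => by
      obtain ⟨k, rfl⟩ := hn
      obtain ⟨i, -, hi⟩ := (Nat.dvd_prime_pow (Fact.out : p.Prime)).1 hmn
      exact ⟨i, hi⟩) h2)
  intro a ha
  refine (hker ⟨a, hAA' ha⟩).1 ?_
  exact congrArg Subtype.val (Subgroup.mem_bot.1 (h.le (Subgroup.mem_top (ρ₁ ⟨a, ha⟩))))

/-- A conjugation-stable generating set spans a normalized subgroup. -/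
theorem conj_mem_closure {M : Type*} [Group M] {A : Subgroup M} {σ : Set M}
    (h : ∀ a ∈ A, ∀ k ∈ σ, a * k * a⁻¹ ∈ σ) :
    ∀ a ∈ A, ∀ k ∈ Subgroup.closure σ, a * k * a⁻¹ ∈ Subgroup.closure σ := by
  intro a ha k hk
  have h1 : Subgroup.closure σ ≤ (Subgroup.closure σ).comap (MulAut.conj a).toMonoidHom :=
    (Subgroup.closure_le _).2 fun x hx => Subgroup.subset_closure (h a ha x hx)
  exact h1 hk

variable {F : FusionSystem S} {E : FusionSystem T}

/-- The end of the reduction: the base is `T C_S(T)`. -/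
theorem base_le_of_autGroup_le [Finite S] [Fact p.Prime] (hS : IsPGroup p S) {U : Subgroup Ω} (hUS : U ≤ S)
    {G : FusionSystem U} (hTG : G.StronglyClosed T) (hE : E.IsSaturated p)
    (hle : G.autGroup T ≤ E.autGroup T) : U ≤ T ⊔ centralizerIn S T := by
  have hTU := hTG.1
  have hTS : T ≤ S := hTU.trans hUS
  have := finite_of_le hTS
  have := finite_of_le hUS
  intro u hu
  have huN := H94.le_normalizer_of_stronglyClosed hTG hu
  obtain ⟨α, hα, hαe⟩ := H94.exists_autInducedBy (K := U) (P := T) hu huN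
  obtain ⟨hA, -⟩ := H94.fullyNormalized_spec (hS.to_le hTS) hE (R := T)
    (H93.isFullyNormalized_of_normalized (F := E) le_rfl
      (le_antisymm inf_le_left (le_inf le_rfl Subgroup.le_normalizer)))
  obtain ⟨-, R, hR⟩ := hA
  have hUE : autInducedBy U T ≤ E.autGroup T := fun a ha => hle (autInducedBy_le_autGroup G hTU ha)
  have hTU' : autInducedBy T T ≤ autInducedBy U T :=
    Subgroup.closure_mono fun a ⟨g, hg, hge⟩ => ⟨g, hTU hg, hge⟩
  have hp : IsPGroup p ((autInducedBy U T).subgroupOf (E.autGroup T)) :=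
    (H94.isPGroup_autInducedBy (hS.to_le hUS)).comap_subtype
  have hge : (R : Subgroup (E.autGroup T)) ≤ (autInducedBy U T).subgroupOf (E.autGroup T) := by
    rw [hR]; exact Subgroup.comap_mono hTU'
  have heq := R.3 hp hge
  have hmem : (⟨α, hUE hα⟩ : E.autGroup T) ∈ (R : Subgroup (E.autGroup T)) := heq ▸ hα
  rw [hR] at hmem
  obtain ⟨t, ht, hte⟩ := mem_autInducedBy.1 (Subgroup.mem_subgroupOf.1 hmem)
  rw [show u = t * (t⁻¹ * u) by group]
  refine Subgroup.mul_mem_sup ht ⟨S.mul_mem (S.inv_mem (hTS ht)) (hUS hu), fun x hx => ?_⟩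
  have h := (hαe ⟨x, hx⟩).symm.trans (hte ⟨x, hx⟩)
  simp only at h
  calc x * (t⁻¹ * u) = t⁻¹ * (t * x * t⁻¹) * u := by group
    _ = t⁻¹ * (u * x * u⁻¹) * u := by rw [h]
    _ = t⁻¹ * u * x := by group

/-- A weakly normal subsystem over a subgroup containing its centralizer is normal. -/
theorem isNormalIn_of_centralizer_le {U : Subgroup Ω} {G : FusionSystem U} (hw : G.IsWeaklyNormalIn F p)
    (hC : centralizerIn S U ≤ U) : G.IsNormalIn F p := by
  refine ⟨hw, fun α hα => ?_⟩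
  have hUS : U ≤ S := hw.2.2.2.1.1
  suffices h : ∀ W : Subgroup Ω, W = U → ∀ hle : U ≤ W, ∃ β ∈ F.autGroup W,
      (∀ x : U, ((β (Subgroup.inclusion hle x) : W) : Ω) = ((α x : U) : Ω)) ∧
      ∀ c : W, (c : Ω) ∈ centralizerIn S U →
        (c : Ω)⁻¹ * ((β c : W) : Ω) ∈ U ⊓ Subgroup.centralizer (U : Set Ω) from
    h _ (sup_eq_left.2 hC) le_sup_left
  rintro W rfl -
  refine ⟨α, (mem_autGroup F hUS).2 (hw.2.2.1 W ((mem_autGroup G le_rfl).1 hα)), fun _ => rfl,
    fun c hc => ?_⟩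
  refine ⟨W.mul_mem (W.inv_mem c.2) (α c).2, fun u hu => ?_⟩
  have h1 : u * c = c * u := hc.2 u hu
  obtain ⟨v, hv⟩ := α.surjective ⟨u, hu⟩
  have h3 : v * c = c * v := Subtype.ext (hc.2 v v.2)
  have h4 := congrArg α h3
  rw [map_mul, map_mul, hv] at h4
  have h2 : u * ((α c : W) : Ω) = ((α c : W) : Ω) * u := congrArg Subtype.val h4
  exact (Commute.inv_right (show Commute u (c : Ω) from h1)).mul_right h2

/-- The reduction. -/
theorem exists_reduction [Finite S] [Fact p.Prime] (hS : IsPGroup p S) (hF : F.IsSaturated p)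
    (hE : E.IsNormalIn F p) [hn : ((E.autGroup T).subgroupOf (F.autGroup T)).Normal]
    (hsolv : IsPSolvable p (↥(F.autGroup T) ⧸ (E.autGroup T).subgroupOf (F.autGroup T))) :
    ∃ (U : Subgroup Ω) (F₀ : FusionSystem U), U = T ⊔ centralizerIn S T ∧ F₀.IsWeaklyNormalIn F p ∧
      E.IsNormalIn F₀ p ∧ F₀.autGroup T = E.autGroup T ∧
      ∀ (L L' : Subgroup Ω) (Finf : FusionSystem L) (Ginf : FusionSystem L'), Finf.IsResidualLimitOf F p →
        Ginf.IsResidualLimitOf F₀ p → ∀ P : Subgroup Ω, Finf.Hom P = Ginf.Hom P := by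
  have hEI := hE.1.2.2
  have hTF : F.StronglyClosed T := hEI.2.1
  have hTS : T ≤ S := hTF.1
  suffices key : ∀ (n : ℕ) (U : Subgroup Ω) (G : FusionSystem U), Nat.card (G.autGroup T) = n →
      G.IsWeaklyNormalIn F p → T ⊔ centralizerIn S T ≤ U → E.IsNormalIn G p →
      (∀ (L L' : Subgroup Ω) (Finf : FusionSystem L) (Ginf : FusionSystem L'), Finf.IsResidualLimitOf F p →
        Ginf.IsResidualLimitOf G p → ∀ P : Subgroup Ω, Finf.Hom P = Ginf.Hom P) →
      ∃ (U : Subgroup Ω) (F₀ : FusionSystem U), U = T ⊔ centralizerIn S T ∧ F₀.IsWeaklyNormalIn F p ∧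
        E.IsNormalIn F₀ p ∧ F₀.autGroup T = E.autGroup T ∧
        ∀ (L L' : Subgroup Ω) (Finf : FusionSystem L) (Ginf : FusionSystem L'), Finf.IsResidualLimitOf F p →
          Ginf.IsResidualLimitOf F₀ p → ∀ P : Subgroup Ω, Finf.Hom P = Ginf.Hom P from
    key _ S F rfl (H94.weaklyNormal_self hF) (sup_le hTS inf_le_left) hE
      fun L L' Finf Ginf h1 h2 => H94.limit_unique h1 inferInstance inferInstance hS hF Ginf h2
  intro n
  induction n using Nat.strong_induction_on with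
  | _ n ih =>
    intro U G hcard hG hTCU hEG hlim
    have hGI := hG.2.2
    have hUS : U ≤ S := hGI.2.1.1
    have := finite_of_le hUS
    have hU : IsPGroup p U := hS.to_le hUS
    have hTU : T ≤ U := le_sup_left.trans hTCU
    have := finite_of_le hTS
    set A := G.autGroup T with hA
    set B := E.autGroup T with hB
    have hBA : B ≤ A := fun b hb => (mem_autGroup G hTU).2 (hEG.1.2.2.1 T ((mem_autGroup E le_rfl).1 hb))
    have hAF : A ≤ F.autGroup T := fun a ha =>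
      (mem_autGroup F hTS).2 (hGI.1 T ((mem_autGroup G hTU).1 ha))
    by_cases hterm : A ≤ B
    · exact ⟨U, G, le_antisymm (base_le_of_autGroup_le hS hUS hEG.1.2.2.2.1 hE.1.1 hterm) hTCU, hG, hEG,
        le_antisymm hterm hBA, hlim⟩
    -- normalized generating sets
    have hAc : ∀ a ∈ F.autGroup T, ∀ k ∈ A, a * k * a⁻¹ ∈ A := fun a ha k hk =>
      H94.autGroup_conj_mem (H94.stronglyInvariant_of_invariant hGI) hUS hTU ha hk
    have hBc : ∀ a ∈ F.autGroup T, ∀ k ∈ B, a * k * a⁻¹ ∈ B := fun a ha k hk =>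
      H94.autGroup_conj_mem (H94.stronglyInvariant_of_invariant hEI) hTS le_rfl ha hk
    have hord : ∀ a k : MulAut T, orderOf (a * k * a⁻¹) = orderOf k := fun a k =>
      MulEquiv.orderOf_eq (MulAut.conj a) k
    obtain ⟨N₁, hN₁⟩ : ∃ N, N = Subgroup.closure ({a | a ∈ A ∧ (orderOf a).Coprime p} ∪ ↑(A ⊓ B)) := ⟨_, rfl⟩
    obtain ⟨N₂, hN₂⟩ : ∃ N, N = Subgroup.closure ({a | a ∈ A ∧ ∃ k : ℕ, orderOf a = p ^ k} ∪ ↑(A ⊓ B)) :=
      ⟨_, rfl⟩
    have hN₁c : ∀ a ∈ F.autGroup T, ∀ k ∈ N₁, a * k * a⁻¹ ∈ N₁ := hN₁ ▸ conj_mem_closure fun a ha k hk => by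
      rcases hk with ⟨hkA, hkc⟩ | hkB
      · exact Or.inl ⟨hAc a ha k hkA, by rw [hord]; exact hkc⟩
      · exact Or.inr ⟨hAc a ha k hkB.1, hBc a ha k hkB.2⟩
    have hN₂c : ∀ a ∈ F.autGroup T, ∀ k ∈ N₂, a * k * a⁻¹ ∈ N₂ := hN₂ ▸ conj_mem_closure fun a ha k hk => by
      rcases hk with ⟨hkA, hkc⟩ | hkB
      · exact Or.inl ⟨hAc a ha k hkA, by rw [hord]; exact hkc⟩
      · exact Or.inr ⟨hAc a ha k hkB.1, hBc a ha k hkB.2⟩
    have hEN₁ : B ≤ N₁ := hN₁ ▸ fun b hb => Subgroup.subset_closure (Or.inr ⟨hBA hb, hb⟩)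
    have hEN₂ : B ≤ N₂ := hN₂ ▸ fun b hb => Subgroup.subset_closure (Or.inr ⟨hBA hb, hb⟩)
    have finish : ∀ (V : Subgroup Ω) (D : FusionSystem V) (N : Subgroup (MulAut T)), ¬ A ≤ N →
        T ⊔ centralizerIn S T ≤ V → D.IsWeaklyNormalIn F p → E.IsNormalIn D p → D.IsSubsystemOf G →
        D.autGroup T ≤ N →
        (∀ (L L' : Subgroup Ω) (Ginf : FusionSystem L) (Dinf : FusionSystem L'), Ginf.IsResidualLimitOf G p →
          Dinf.IsResidualLimitOf D p → ∀ P : Subgroup Ω, Ginf.Hom P = Dinf.Hom P) →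
        ∃ (U : Subgroup Ω) (F₀ : FusionSystem U), U = T ⊔ centralizerIn S T ∧ F₀.IsWeaklyNormalIn F p ∧
          E.IsNormalIn F₀ p ∧ F₀.autGroup T = E.autGroup T ∧
          ∀ (L L' : Subgroup Ω) (Finf : FusionSystem L) (Ginf : FusionSystem L'), Finf.IsResidualLimitOf F p →
            Ginf.IsResidualLimitOf F₀ p → ∀ P : Subgroup Ω, Finf.Hom P = Ginf.Hom P := by
      intro V D N hAN hV hDF hED hDG hDN hl
      have hTV : T ≤ V := le_sup_left.trans hV
      have hle : D.autGroup T ≤ A := fun a ha =>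
        (mem_autGroup G hTU).2 (hDG T ((mem_autGroup D hTV).1 ha))
      have : Finite A := H93.finite_autGroup hTU
      refine ih _ ?_ V D rfl hDF hV hED fun L L' Finf Dinf h1 h2 P => ?_
      · refine hcard ▸ lt_of_le_of_ne (Subgroup.card_le_of_le hle) fun e => hAN ?_
        exact (Subgroup.eq_of_le_of_card_ge hle e.ge).symm.le.trans hDN
      · obtain ⟨K, Ginf, hK⟩ := exists_limit hU hG.1
        rw [hlim L K Finf Ginf h1 hK P, hl K L' Ginf Dinf hK h2 P]
    by_cases h1 : A ≤ N₁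
    · have h2 : ¬ A ≤ N₂ := fun h2 => by
        have : Finite (F.autGroup T) := H93.finite_autGroup hTS
        refine hterm ?_
        refine le_of_generated hsolv hAF (QuotientGroup.mk' _) (fun a => ?_) (hN₁ ▸ h1) (hN₂ ▸ h2)
        rw [QuotientGroup.mk'_apply, QuotientGroup.eq_one_iff]
        exact Subgroup.mem_subgroupOf
      have : Finite A := H93.finite_autGroup hTU
      obtain ⟨P⟩ : Nonempty (Sylow p A) := inferInstance
      have hidx : (N₂.relIndex A).Coprime p := by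
        have hPN : (P : Subgroup A) ≤ N₂.subgroupOf A := fun x hx => by
          obtain ⟨k, hk⟩ := IsPGroup.iff_orderOf.1 P.2 ⟨x, hx⟩
          refine Subgroup.mem_subgroupOf.2 (hN₂ ▸ Subgroup.subset_closure (Or.inl ⟨x.2, k, ?_⟩))
          rw [← hk, Subgroup.orderOf_mk, Subgroup.orderOf_coe]
        exact (((Fact.out : p.Prime).coprime_iff_not_dvd.2 fun h =>
          P.not_dvd_index (h.trans (Subgroup.index_dvd_of_le hPN)))).symm
      obtain ⟨D, hDF, hED, hDG, hDN, hl⟩ := exists_prime_step hS hG hTCU hEG hEI hEN₂ hidx hN₂c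
      exact finish U D N₂ h2 hTCU hDF hED hDG hDN hl
    · have hON : (pResidual p A).map A.subtype ≤ N₁ := by
        rw [pResidual, MonoidHom.map_closure, hN₁]
        refine Subgroup.closure_mono ?_
        rintro _ ⟨g, hg, rfl⟩
        exact Or.inl ⟨g.2, by rw [show orderOf (A.subtype g) = orderOf g from Subgroup.orderOf_coe g]; exact hg⟩
      obtain ⟨V, D, hV, hDF, hED, hDG, hDN, hl⟩ := exists_pPower_step hS hG hTCU hEG hEN₁ hON hN₁c hTF
      exact finish V D N₁ h1 hV hDF hED hDG hDN hl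

end Cfsg.Agent.H96
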