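import Cfsg.Agent.H96.SmallElements
import Cfsg.Agent.H93.Saturation
import Cfsg.Agent.H94.PPowerIndex

/-!
Abelian subgroups of small exponent of the hyperfocal subgroup control fusion.
-/
set_option autoImplicit false

namespace Cfsg.Agent.H96

open Cfsg Cfsg.FusionSystem
open scoped Pointwise

variable {Ω : Type*} [Group Ω] {S : Subgroup Ω} [Finite S] {p : ℕ} [Fact p.Prime]

omit [Finite S] in
/-- A subgroup conjugating `A` into itself normalizes it. -/
theorem le_normalizer_of_forall {G : Type*} [Group G] {H A : Subgroup G}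
    (h : ∀ g ∈ H, ∀ x ∈ A, g * x * g⁻¹ ∈ A) : H ≤ Subgroup.normalizer (A : Set G) := by
  intro g hg
  rw [Subgroup.mem_normalizer_iff]
  refine fun x => ⟨fun hx => h g hg x hx, fun hx => ?_⟩
  have := h g⁻¹ (H.inv_mem hg) _ hx
  simpa [mul_assoc] using this

/-- A maximal abelian subgroup, invariant under `N`, of an `N`-invariant part of a `p`-group is self-centralizing. -/
theorem exists_selfCentralizing_invariant (hS : IsPGroup p S) {N C : Subgroup Ω} (hNS : N ≤ S) (hCN : C ≤ N)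
    (hCinv : ∀ g ∈ N, ∀ x ∈ C, g * x * g⁻¹ ∈ C) :
    ∃ A : Subgroup Ω, A ≤ C ∧ (∀ x ∈ A, ∀ y ∈ A, x * y = y * x) ∧ (∀ g ∈ N, ∀ x ∈ A, g * x * g⁻¹ ∈ A) ∧
      ∀ d ∈ C, (∀ x ∈ A, x * d = d * x) → d ∈ A := by
  have := finite_of_le hNS
  set P : Set (Subgroup Ω) := {A | A ≤ C ∧ (∀ x ∈ A, ∀ y ∈ A, x * y = y * x) ∧
    ∀ g ∈ N, ∀ x ∈ A, g * x * g⁻¹ ∈ A}
  have hfin : P.Finite :=
    (finite_subgroups_le (S := S)).subset fun A hA => hA.1.trans (hCN.trans hNS)
  obtain ⟨A, ⟨hAC, hAab, hAinv⟩, hmax⟩ := hfin.exists_maximal ⟨⊥, bot_le,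
    fun x hx y _ => by rw [Subgroup.mem_bot.1 hx, one_mul, mul_one],
    fun g _ x hx => by rw [Subgroup.mem_bot.1 hx, mul_one, mul_inv_cancel]; exact one_mem _⟩
  refine ⟨A, hAC, hAab, hAinv, ?_⟩
  by_contra hcon
  push Not at hcon
  obtain ⟨d, hdC, hdA, hdn⟩ := hcon
  have hnil : Group.IsNilpotent N := (hS.to_le hNS).isNilpotent
  obtain ⟨n, hn⟩ := hnil.nilpotent'
  classical
  have hex : ∃ i, ∃ x : N, (x : Ω) ∈ C ∧ (∀ a ∈ A, a * (x : Ω) = x * a) ∧ (x : Ω) ∉ A ∧
      x ∈ Subgroup.upperCentralSeries N i :=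
    ⟨n, ⟨d, hCN hdC⟩, hdC, hdA, hdn, by rw [hn]; exact Subgroup.mem_top _⟩
  obtain ⟨x, hxC, hxA, hxn, hxi⟩ := Nat.find_spec hex
  rcases hi : Nat.find hex with _ | i
  · rw [hi, Subgroup.upperCentralSeries_zero, Subgroup.mem_bot] at hxi
    exact hxn (by rw [hxi]; exact one_mem A)
  rw [hi] at hxi
  have hcomm : ∀ g ∈ N, g * (x : Ω) * g⁻¹ * (x : Ω)⁻¹ ∈ A := by
    intro g hg
    by_contra hno
    refine Nat.find_min hex (m := i) (by omega) ⟨⟨g, hg⟩ * x * ⟨g, hg⟩⁻¹ * x⁻¹, ?_, ?_, hno, ?_⟩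
    · exact C.mul_mem (hCinv g hg _ hxC) (C.inv_mem hxC)
    · intro a ha
      have hc1 : Commute (a : Ω) (g * (x : Ω) * g⁻¹) := by
        have h2 := hxA _ (hAinv g⁻¹ (N.inv_mem hg) a ha)
        rw [inv_inv] at h2
        calc a * (g * (x : Ω) * g⁻¹) = g * (g⁻¹ * a * g * x) * g⁻¹ := by group
          _ = g * (x * (g⁻¹ * a * g)) * g⁻¹ := by rw [h2]
          _ = g * (x : Ω) * g⁻¹ * a := by group
      exact (hc1.mul_right (Commute.inv_right (hxA a ha))).eq
    · have h1 := Subgroup.mem_upperCentralSeries_succ_iff.1 hxi ⟨g, hg⟩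
      rw [commutatorElement_def] at h1
      have h2 := (Subgroup.upperCentralSeries N i).inv_mem h1
      convert h2 using 1
      group
  set A' := A ⊔ Subgroup.zpowers (x : Ω)
  have h1 : A' ≤ Subgroup.centralizer (A : Set Ω) :=
    sup_le (fun y hy a ha => hAab a ha y hy) (Subgroup.zpowers_le.2 fun a ha => hxA a ha)
  have h2 : A' ≤ Subgroup.centralizer {(x : Ω)} :=
    sup_le (fun y hy z hz => by rw [Set.mem_singleton_iff.1 hz]; exact (hxA y hy).symm)
      (Subgroup.zpowers_le.2 fun z hz => by rw [Set.mem_singleton_iff.1 hz])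
  have hA'c : A' ≤ Subgroup.centralizer (A' : Set Ω) :=
    sup_le (Subgroup.le_centralizer_iff.1 h1)
      (Subgroup.zpowers_le.2 fun y hy => (h2 hy (x : Ω) (Set.mem_singleton _)).symm)
  have hmem : A' ∈ P := by
    refine ⟨sup_le hAC (Subgroup.zpowers_le.2 hxC), fun a ha b hb => hA'c hb a ha, fun g hg => ?_⟩
    suffices h : A' ≤ A'.comap (MulAut.conj g).toMonoidHom from fun y hy => h hy
    refine sup_le (fun y hy => Subgroup.mem_sup_left (hAinv g hg y hy)) (Subgroup.zpowers_le.2 ?_)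
    show g * (x : Ω) * g⁻¹ ∈ A'
    have := A'.mul_mem (Subgroup.mem_sup_left (hcomm g hg)) (Subgroup.mem_sup_right (Subgroup.mem_zpowers (x : Ω)))
    rwa [inv_mul_cancel_right] at this
  exact hxn (hmax hmem le_sup_left (Subgroup.mem_sup_right (Subgroup.mem_zpowers _)))

/-- Maps on small abelian subgroups of the hyperfocal subgroup determine the system. -/
theorem hom_subset_of_small_abelian {E F : FusionSystem S} (hS : IsPGroup p S) (hE : E.IsSaturated p)
    (hF : F.IsSaturated p) (hEF : E.IsSubsystemOf F)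
    (hsmall : ∀ A : Subgroup Ω, A ≤ F.hyperfocalSubgroup p → (∀ x ∈ A, ∀ y ∈ A, x * y = y * x) →
      (∀ x ∈ A, x ^ smallExp p = 1) → F.Hom A ⊆ E.Hom A) :
    ∀ U : Subgroup Ω, F.Hom U ⊆ E.Hom U := by
  suffices h : ∀ n (U : Subgroup Ω), Nat.card S - Nat.card U = n → F.Hom U ⊆ E.Hom U from
    fun U => h _ U rfl
  intro n
  induction n using Nat.strong_induction_on with
  | _ n ih =>
  intro U hn φ hφ
  subst hn
  have hU := (F.le_of_mem hφ).1
  have hUfin := finite_of_le hU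
  have big : ∀ {V : Subgroup Ω} {ψ : V →* Ω}, ψ ∈ F.Hom V → Nat.card U < Nat.card V → ψ ∈ E.Hom V := by
    intro V ψ hψ hlt
    have := Nat.card_le_card_of_injective _ (Subgroup.inclusion_injective (F.le_of_mem hψ).1)
    exact ih _ (by omega) V rfl hψ
  -- automisers of fully normalized subgroups of the same order
  have step : ∀ U₀ : Subgroup Ω, F.IsFullyNormalized U₀ → Nat.card U₀ = Nat.card U →
      ∀ a ∈ F.autGroup U₀, a ∈ E.autGroup U₀ := by
    intro U₀ hU₀ hcard a ha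
    have hU₀S : U₀ ≤ S := hU₀.1
    have := finite_of_le hU₀S
    set N := normalizerIn S U₀
    have hNS : N ≤ S := inf_le_left
    have hUN : U₀ ≤ N := le_inf hU₀S Subgroup.le_normalizer
    obtain ⟨C, hC1, hC2, hC3, hC4⟩ := exists_small_invariant (F := F) hS U₀ hU₀S
    have hCU : C.map U₀.subtype ≤ U₀ := Subgroup.map_subtype_le _
    have hCinv : ∀ g ∈ N, ∀ x ∈ C.map U₀.subtype, g * x * g⁻¹ ∈ C.map U₀.subtype := by
      rintro g hg _ ⟨x, hx, rfl⟩
      obtain ⟨c, hc, hce⟩ := exists_autGroup_of_mem F (F.conj_mem hU₀S (hNS hg))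
        (fun y => (Subgroup.mem_normalizer_iff.1 hg.2 y).1 y.2)
      exact ⟨c x, hC3 c hc x hx, hce x⟩
    obtain ⟨A, hAC, hAab, hAinv, hAself⟩ :=
      exists_selfCentralizing_invariant hS hNS (hCU.trans hUN) hCinv
    have hAU : A ≤ U₀ := hAC.trans hCU
    have hAhyp : A ≤ F.hyperfocalSubgroup p := hAC.trans (by rintro _ ⟨x, hx, rfl⟩; exact hC1 x hx)
    have hAexp : ∀ x ∈ A, x ^ smallExp p = 1 := by
      intro x hx
      obtain ⟨y, hy, rfl⟩ := hAC hx
      rw [← map_pow, pow_smallExp (hC2 y hy), map_one]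
    -- the stabiliser of `A` lies in the automiser induced by `S`
    obtain ⟨-, R, hR⟩ := (H94.fullyNormalized_spec hS hF hU₀).1
    let X : Subgroup (F.autGroup U₀) :=
      { carrier := {b | ∀ x : U₀, (x : Ω) ∈ A → (b : MulAut U₀) x = x}
        one_mem' := fun x _ => rfl
        mul_mem' := fun {b c} hb hc x hx => by
          show (b : MulAut U₀) ((c : MulAut U₀) x) = x
          rw [hc x hx, hb x hx]
        inv_mem' := fun {b} hb x hx => by
          show (b : MulAut U₀)⁻¹ x = x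
          conv_lhs => rw [← hb x hx]
          exact MulEquiv.symm_apply_apply _ x }
    have hXp : IsPGroup p X := by
      rintro ⟨b, hb⟩
      refine ⟨(orderOf b).factorization p, Subtype.ext (Subtype.ext ?_)⟩
      show ((b ^ p ^ (orderOf b).factorization p : F.autGroup U₀) : MulAut U₀) = 1
      have hco : (orderOf (b ^ p ^ (orderOf b).factorization p)).Coprime p := by
        rw [orderOf_pow_of_dvd (pow_ne_zero _ (Fact.out : p.Prime).ne_zero) (Nat.ordProj_dvd _ _)]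
        exact (Nat.coprime_ordCompl Fact.out (orderOf_pos b).ne').symm
      generalize hc : b ^ p ^ (orderOf b).factorization p = c at hco
      have hcX : c ∈ X := hc ▸ X.pow_mem hb _
      have hco' : (orderOf (c : MulAut U₀)).Coprime p := by rwa [Subgroup.orderOf_coe]
      refine hC4 c c.2 hco' fun d hd => ?_
      refine apply_eq_of_fix_displacement (hS.to_le hU₀S) hco' (hcX _ ?_)
      refine hAself _ ⟨d⁻¹ * (c : MulAut U₀) d, C.mul_mem (C.inv_mem hd) (hC3 c c.2 d hd), rfl⟩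
        fun y hy => ?_
      have h1 := hAinv _ (hUN d.2) y hy
      have h2 := hcX ⟨(d : Ω) * y * (d : Ω)⁻¹, hAU h1⟩ h1
      have h3 := hcX ⟨y, hAU hy⟩ hy
      have h4 : (⟨(d : Ω) * y * (d : Ω)⁻¹, hAU h1⟩ : U₀) = d * ⟨y, hAU hy⟩ * d⁻¹ := rfl
      rw [h4, map_mul, map_mul, map_inv, h3] at h2
      have h5 : ((c : MulAut U₀) d : Ω) * y * ((c : MulAut U₀) d : Ω)⁻¹ = (d : Ω) * y * (d : Ω)⁻¹ :=
        congrArg Subtype.val h2
      show y * ((d : Ω)⁻¹ * ((c : MulAut U₀) d : Ω)) = (d : Ω)⁻¹ * ((c : MulAut U₀) d : Ω) * y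
      calc y * ((d : Ω)⁻¹ * ((c : MulAut U₀) d : Ω))
          = (d : Ω)⁻¹ * ((d : Ω) * y * (d : Ω)⁻¹) * ((c : MulAut U₀) d : Ω) := by group
        _ = _ := by rw [← h5]; group
    have hXR : ∀ b ∈ F.autGroup U₀, (∀ x : U₀, (x : Ω) ∈ A → b x = x) → b ∈ autInducedBy S U₀ := by
      intro b hb hbA
      have hRX : (R : Subgroup (F.autGroup U₀)) ≤ Subgroup.normalizer (X : Set (F.autGroup U₀)) := by
        refine le_normalizer_of_forall fun r hr c hc x hx => ?_
        rw [hR, Subgroup.mem_subgroupOf, mem_autInducedBy] at hr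
        obtain ⟨g, hg, hge⟩ := hr
        have hgN : g ∈ N := ⟨hg, by
          show g ∈ Subgroup.normalizer (U₀ : Set Ω)
          rw [Subgroup.mem_normalizer_iff]
          intro y
          refine ⟨fun hy => hge ⟨y, hy⟩ ▸ (((r : MulAut U₀) ⟨y, hy⟩).2), fun hy => ?_⟩
          have h1 := hge ((r : MulAut U₀)⁻¹ ⟨_, hy⟩)
          rw [MulAut.apply_inv_self] at h1
          have h2 : y = (((r : MulAut U₀)⁻¹ ⟨_, hy⟩ : U₀) : Ω) := mul_left_cancel (mul_right_cancel h1)
          rw [h2]; exact SetLike.coe_mem _⟩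
        show (r : MulAut U₀) ((c : MulAut U₀) ((r : MulAut U₀)⁻¹ x)) = x
        have hyA : (((r : MulAut U₀)⁻¹ x : U₀) : Ω) ∈ A := by
          have h1 := hge ((r : MulAut U₀)⁻¹ x)
          rw [MulAut.apply_inv_self] at h1
          have h2 := hAinv g⁻¹ (N.inv_mem hgN) x hx
          rw [h1] at h2
          simpa [mul_assoc] using h2
        rw [hc _ hyA, MulAut.apply_inv_self]
      have heq := R.is_maximal' (R.isPGroup'.to_sup_of_normal_right' hXp hRX) le_sup_left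
      have hbR : (⟨b, hb⟩ : F.autGroup U₀) ∈ (R : Subgroup (F.autGroup U₀)) :=
        heq.le (Subgroup.mem_sup_right hbA)
      rw [hR] at hbR
      exact Subgroup.mem_subgroupOf.1 hbR
    -- compare on `A`
    set a₀ := U₀.subtype.comp a.toMonoidHom
    have ha₀ : a₀ ∈ F.Hom U₀ := (mem_autGroup F hU₀S).1 ha
    set α := res a₀ hAU
    have hα : α ∈ E.Hom A := hsmall A hAhyp hAab hAexp (res_mem F ha₀ hAU)
    obtain ⟨Q, hAQ, hQA, hQR⟩ := hE A (hAU.trans hU₀S)
    obtain ⟨χ, hχ, hχv, hχQ⟩ :=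
      H93.exists_normalizer_map hS hQA hQR (isConj_trans (isConj_symm ⟨α, hα, rfl⟩) hAQ)
    have hUA' : U₀ ≤ normalizerIn S α.range := by
      have haux : ∀ u : U₀, ∀ y ∈ α.range, (u : Ω) * y * (u : Ω)⁻¹ ∈ α.range := by
        rintro u _ ⟨x, rfl⟩
        refine ⟨⟨_, hAinv _ (hUN (a⁻¹ u).2) x x.2⟩, ?_⟩
        show ((a ((a⁻¹ u) * ⟨x, hAU x.2⟩ * (a⁻¹ u)⁻¹) : U₀) : Ω) = _
        rw [map_mul, map_mul, map_inv, MulAut.apply_inv_self]
        rfl
      exact le_inf hU₀S (le_normalizer_of_forall fun u hu y hy => haux ⟨u, hu⟩ y hy)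
    obtain ⟨η, hη, hηe⟩ := exists_comp F ha₀ (hEF _ hχ) (fun x => hUA' (a x).2)
    have hηN : ∀ u : U₀, η u ∈ normalizerIn S Q := fun u => (hηe u).symm ▸ hχv _
    set ψ := res η hAU
    have hψ : ψ ∈ E.Hom A := by
      obtain ⟨ψ', hψ', hψe⟩ := exists_comp E hα hχ (fun x => hUA' (a ⟨x, hAU x.2⟩).2)
      exact mem_congr E hψ' fun x => (hηe _).trans (hψe x).symm
    have hψQ : ψ.range = Q := by
      rw [← hχQ]
      ext y
      constructor
      · rintro ⟨x, rfl⟩
        exact H93.mem_imgIn.2 ⟨⟨_, hUA' (a ⟨x, hAU x.2⟩).2⟩, ⟨x, rfl⟩, (hηe _).symm⟩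
      · intro hy
        obtain ⟨z, ⟨x, hx⟩, rfl⟩ := H93.mem_imgIn.1 hy
        exact ⟨x, (hηe _).trans (congrArg χ (Subtype.ext hx))⟩
    obtain ⟨θ, hθ, hθe⟩ := hQR.2 A ψ hψ hψQ
    have hconjη : ∀ (u : U₀) (x : Ω) (hx : x ∈ A) (hux : (u : Ω) * x * (u : Ω)⁻¹ ∈ A),
        ψ ⟨_, hux⟩ = η u * ψ ⟨x, hx⟩ * (η u)⁻¹ := fun u x hx hux => by
      show η ⟨_, hAU hux⟩ = η u * η ⟨x, hAU hx⟩ * (η u)⁻¹
      rw [← map_inv, ← map_mul, ← map_mul]
      exact congrArg η (Subtype.ext rfl)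
    have hUext : U₀ ≤ extender S A ψ := fun u hu => mem_extender.2
      ⟨hU₀S hu, le_normalizer_of_forall (H := U₀) (fun g hg y hy => hAinv g (hUN hg) y hy) hu,
        η ⟨u, hu⟩, (hηN _).1, fun x hx => hconjη ⟨u, hu⟩ x x.2 hx⟩
    set θ₀ := res θ hUext
    have hθ₀ : θ₀ ∈ E.Hom U₀ := res_mem E hθ hUext
    have hagree : ∀ x : U₀, (x : Ω) ∈ A → θ₀ x = η x := fun x hx => hθe x hx _
    have hcQ : ∀ u : U₀, (η u)⁻¹ * θ₀ u ∈ centralizerIn S Q := by
      intro u
      refine ⟨S.mul_mem (S.inv_mem (hηN u).1) ((E.le_of_mem hθ₀).2 u), fun y hy => ?_⟩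
      obtain ⟨x, rfl⟩ := hψQ.ge hy
      have hux := hAinv _ (hUN u.2) x x.2
      have h1 : θ₀ ⟨_, hAU hux⟩ = θ₀ u * θ₀ ⟨x, hAU x.2⟩ * (θ₀ u)⁻¹ := by
        rw [← map_inv, ← map_mul, ← map_mul]
        exact congrArg θ₀ (Subtype.ext rfl)
      rw [hagree ⟨_, hAU hux⟩ hux, hagree ⟨x, hAU x.2⟩ x.2] at h1
      have h2 : η u * ψ x * (η u)⁻¹ = θ₀ u * ψ x * (θ₀ u)⁻¹ := (hconjη u x x.2 hux).symm.trans h1
      calc ψ x * ((η u)⁻¹ * θ₀ u) = (η u)⁻¹ * (η u * ψ x * (η u)⁻¹) * θ₀ u := by group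
        _ = (η u)⁻¹ * θ₀ u * ψ x := by rw [h2]; group
    obtain ⟨ζ, hζ, hζr, hζe⟩ := exists_inv F hη rfl
    have hηE : η ∈ E.Hom U₀ := by
      by_cases hCle : centralizerIn S Q ≤ η.range
      · have hθU : ∀ u, θ₀ u ∈ η.range := fun u => by
          have := η.range.mul_mem ⟨u, rfl⟩ (hCle (hcQ u))
          rwa [mul_inv_cancel_left] at this
        obtain ⟨b₀, hb₀, hb₀e⟩ := exists_comp F (hEF _ hθ₀) hζ hθU
        obtain ⟨b, hb, hbe⟩ := exists_autGroup_of_mem F hb₀ fun u =>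
          (hb₀e u).symm ▸ hζr.le ⟨_, rfl⟩
        have hb' : ∀ u, η (b u) = θ₀ u := fun u => by
          obtain ⟨v, hv⟩ := hθU u
          have : (b u : U₀) = v := Subtype.ext (by
            rw [hbe, hb₀e]
            exact (congrArg ζ (Subtype.ext hv.symm)).trans (hζe v ⟨v, rfl⟩))
          rw [this, hv]
        have hbS : b ∈ autInducedBy S U₀ := hXR b hb fun x hx => Subtype.ext (by
          rw [hbe, hb₀e]
          exact (congrArg ζ (Subtype.ext (hagree x hx))).trans (hζe x ⟨x, rfl⟩))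
        have hbE := (mem_autGroup E hU₀S).1 (inv_mem (autInducedBy_le_autGroup E hU₀S hbS))
        obtain ⟨η', hη', hη'e⟩ := exists_comp E hbE hθ₀ fun u => (b⁻¹ u).2
        refine mem_congr E hη' fun u => ?_
        rw [hη'e]
        refine Eq.trans ?_ (hb' (b⁻¹ u))
        rw [MulAut.apply_inv_self]
      · set W := η.range ⊔ centralizerIn S Q
        have hηS : η.range ≤ S := by rintro _ ⟨u, rfl⟩; exact (hηN u).1
        have hWS : W ≤ S := sup_le hηS inf_le_left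
        have := finite_of_le hWS
        have hlt : η.range < W := lt_of_le_not_ge le_sup_left fun h => hCle (le_sup_right.trans h)
        have hgrow := H93.lt_normalizerIn (hS.to_le hWS) hlt
        obtain ⟨w, hw, hwn⟩ := SetLike.exists_of_lt hgrow
        have hnorm : η.range ≤ Subgroup.normalizer (centralizerIn S Q : Set Ω) := by
          refine le_normalizer_of_forall ?_
          rintro _ ⟨u, rfl⟩ c hc
          refine ⟨S.mul_mem (S.mul_mem (hηN u).1 hc.1) (S.inv_mem (hηN u).1), fun y hy => ?_⟩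
          have hy' := (Subgroup.mem_normalizer_iff.1 (Subgroup.inv_mem _ (hηN u).2) y).1 hy
          have h1 := hc.2 _ hy'
          rw [inv_inv] at h1
          calc y * (η u * c * (η u)⁻¹) = η u * ((η u)⁻¹ * y * η u * c) * (η u)⁻¹ := by group
            _ = η u * (c * ((η u)⁻¹ * y * η u)) * (η u)⁻¹ := by rw [h1]
            _ = η u * c * (η u)⁻¹ * y := by group
        have hwW : w ∈ ((η.range : Set Ω) * (centralizerIn S Q : Set Ω)) := by
          rw [← Subgroup.coe_mul_of_left_le_normalizer_right _ _ hnorm]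
          exact hw.1
        obtain ⟨v, hv, c, hc, rfl⟩ := Set.mem_mul.1 hwW
        have hcn : c ∈ Subgroup.normalizer (η.range : Set Ω) := by
          have := Subgroup.mul_mem _ (Subgroup.inv_mem _ (Subgroup.le_normalizer hv)) hw.2
          rwa [inv_mul_cancel_left] at this
        have hcnot : c ∉ η.range := fun h => hwn (η.range.mul_mem hv h)
        have hcext : c ∈ extender S η.range ζ := by
          refine mem_extender.2 ⟨hc.1, hcn, ?_⟩
          have hmv : ∀ u : U₀, c * η u * c⁻¹ ∈ η.range := fun u =>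
            (Subgroup.mem_normalizer_iff.1 hcn _).1 ⟨u, rfl⟩
          obtain ⟨c₀, hc₀, hc₀e⟩ := exists_comp F hη (F.conj_mem hηS hc.1) fun u => ⟨u, rfl⟩
          obtain ⟨b₀, hb₀, hb₀e⟩ := exists_comp F hc₀ hζ fun u => (hc₀e u).symm ▸ hmv u
          obtain ⟨b, hb, hbe⟩ := exists_autGroup_of_mem F hb₀ fun u =>
            (hb₀e u).symm ▸ hζr.le ⟨_, rfl⟩
          have hbS : b ∈ autInducedBy S U₀ := hXR b hb fun x hx => Subtype.ext (by
            rw [hbe, hb₀e]
            refine (congrArg ζ (Subtype.ext ?_)).trans (hζe x ⟨x, rfl⟩)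
            refine (hc₀e x).trans ?_
            show c * η x * c⁻¹ = η x
            rw [← hc.2 (η x) (hψQ ▸ ⟨⟨x, hx⟩, rfl⟩ : η x ∈ Q), mul_inv_cancel_right])
          obtain ⟨g, hg, hge⟩ := mem_autInducedBy.1 hbS
          refine ⟨g, hg, ?_⟩
          rintro ⟨_, u, rfl⟩ hz
          refine Eq.trans ?_ (congrArg (fun t => g * t * g⁻¹) (hζe u ⟨u, rfl⟩).symm)
          refine Eq.trans ?_ (hge u)
          rw [hbe, hb₀e]
          exact congrArg ζ (Subtype.ext (hc₀e u).symm)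
        have hrecF := (H94.fullyNormalized_spec hS hF hU₀).2
        obtain ⟨ξ, hξ, hξe⟩ := hrecF.2 η.range ζ hζ hζr
        have hle : η.range ≤ extender S η.range ζ := by
          intro v' hv'
          refine mem_extender.2 ⟨hηS hv', Subgroup.le_normalizer hv', ζ ⟨v', hv'⟩,
            (F.le_of_mem hζ).2 _, fun x hx => ?_⟩
          rw [← map_inv, ← map_mul, ← map_mul]
          exact congrArg ζ (Subtype.ext rfl)
        have hbigcard : Nat.card U < Nat.card (extender S η.range ζ) := by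
          rw [← hcard, ← card_range_eq F hη]
          have := finite_of_le (F.le_of_mem hξ).1
          refine lt_of_le_of_ne (Nat.card_le_card_of_injective _ (Subgroup.inclusion_injective hle))
            fun h => hcnot ?_
          rw [Subgroup.eq_of_le_of_card_ge hle h.ge]
          exact hcext
        have hζE : ζ ∈ E.Hom η.range :=
          mem_congr E (res_mem E (big hξ hbigcard) hle) fun x => (hξe x x.2 (hle x.2)).symm
        obtain ⟨η', hη', -, hη'e⟩ := exists_inv E hζE hζr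
        refine mem_congr E hη' fun u => ?_
        have h := hη'e ⟨η u, ⟨u, rfl⟩⟩ ((hζe u ⟨u, rfl⟩).symm ▸ u.2)
        refine h.symm.trans ?_
        congr 1
        exact Subtype.ext (hζe u _)
    obtain ⟨χi, hχi, -, hχie⟩ := exists_inv E hχ rfl
    obtain ⟨a', ha', ha'e⟩ := exists_comp E hηE hχi fun u => ⟨⟨_, hUA' (a u).2⟩, (hηe u).symm⟩
    refine (mem_autGroup E hU₀S).2 (mem_congr E ha' fun u => ?_)
    rw [ha'e]
    exact ((congrArg χi (Subtype.ext (hηe u))).trans (hχie ⟨a₀ u, hUA' (a u).2⟩ ⟨_, rfl⟩)).symm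
  obtain ⟨U₀, hconj, hU₀⟩ := H94.exists_fullyNormalized (F := F) hU
  have hcardU₀ : Nat.card U₀ = Nat.card U := by
    obtain ⟨f, hf, rfl⟩ := hconj; exact card_range_eq F hf
  by_cases hUS : U = S
  · have hU₀U : U₀ = U := by
      have := finite_of_le hU₀.1
      subst hUS
      exact Subgroup.eq_of_le_of_card_ge hU₀.1 hcardU₀.ge
    obtain ⟨a, ha, hae⟩ := exists_autGroup_of_mem F hφ fun x => hUS ▸ (F.le_of_mem hφ).2 x
    exact mem_congr E ((mem_autGroup E hU).1 (step U (hU₀U ▸ hU₀) rfl a ha)) fun x => (hae x).symm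
  have hφS : φ.range ≤ S := by rintro _ ⟨x, rfl⟩; exact (F.le_of_mem hφ).2 x
  have hU'S : φ.range ≠ S := fun h => hUS (Subgroup.eq_of_le_of_card_ge hU (by
    rw [← card_range_eq F hφ, h]))
  have hconj' : F.IsConj φ.range U₀ := isConj_trans (isConj_symm ⟨φ, hφ, rfl⟩) hconj
  obtain ⟨hA₀, hR₀⟩ := H94.fullyNormalized_spec hS hF hU₀
  obtain ⟨χ, hχ, hχv, hχQ⟩ := H93.exists_normalizer_map hS hA₀ hR₀ hconj
  obtain ⟨χ', hχ', hχ'v, hχ'Q⟩ := H93.exists_normalizer_map hS hA₀ hR₀ hconj'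
  have grow : ∀ {V : Subgroup Ω}, V ≤ S → V ≠ S → Nat.card V = Nat.card U →
      Nat.card U < Nat.card (normalizerIn S V) := by
    intro V hV hne hc
    have h := H93.lt_normalizerIn hS (lt_of_le_of_ne hV hne)
    have : Finite ↥(normalizerIn S V) := finite_of_le inf_le_left
    rw [← hc]
    exact lt_of_le_of_ne (Nat.card_le_card_of_injective _ (Subgroup.inclusion_injective h.le))
      fun e => h.ne (Subgroup.eq_of_le_of_card_ge h.le e.ge)
  have hχE := big hχ (grow hU hUS rfl)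
  have hχ'E := big hχ' (grow hφS hU'S (card_range_eq F hφ))
  have hle : U ≤ normalizerIn S U := le_inf hU Subgroup.le_normalizer
  have hle' : φ.range ≤ normalizerIn S φ.range := le_inf hφS Subgroup.le_normalizer
  set χ₁ := res χ hle
  set χ₁' := res χ' hle'
  have hr : χ₁.range = U₀ := by rw [← hχQ, H93.imgIn_eq_range_restrict (hR := hle)]; rfl
  have hr' : χ₁'.range = U₀ := by rw [← hχ'Q, H93.imgIn_eq_range_restrict (hR := hle')]; rfl
  obtain ⟨i, hi, hir, hie⟩ := exists_inv E (res_mem E hχE hle) hr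
  obtain ⟨i', hi', -, hie'⟩ := exists_inv E (res_mem E hχ'E hle') hr'
  obtain ⟨m₁, hm₁, hm₁e⟩ := exists_comp F (hEF _ hi) hφ fun x => hir.le ⟨x, rfl⟩
  obtain ⟨m, hm, hme⟩ := exists_comp F hm₁ (res_mem F hχ' hle') fun x => hm₁e x ▸ ⟨_, rfl⟩
  obtain ⟨a, ha, hae⟩ := exists_autGroup_of_mem F hm fun x => hme x ▸ hr'.le ⟨_, rfl⟩
  have haE := (mem_autGroup E hU₀.1).1 (step U₀ hU₀ hcardU₀ a ha)
  obtain ⟨k, hk, hke⟩ := exists_comp E (res_mem E hχE hle) haE fun x => hr.le ⟨x, rfl⟩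
  obtain ⟨l, hl, hle2⟩ := exists_comp E hk hi' fun x => hke x ▸ (a _).2
  refine mem_congr E hl fun x => ?_
  have h1 : χ₁' ⟨φ x, ⟨x, rfl⟩⟩ = k x := by
    rw [hke]
    show _ = ((a ⟨χ₁ x, _⟩ : U₀) : Ω)
    rw [hae, hme]
    congr 1
    apply Subtype.ext
    refine Eq.trans ?_ (hm₁e _).symm
    exact congrArg φ (Subtype.ext (hie x _).symm)
  rw [hle2]
  refine ((congrArg i' (Subtype.ext h1.symm)).trans (hie' ⟨φ x, ⟨x, rfl⟩⟩ ?_)).symm
  exact hr'.le ⟨_, rfl⟩

end Cfsg.Agent.H96
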