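import Cfsg.Agent.H96.ExtFix
import Cfsg.Agent.H96.AverageFix
import Cfsg.Agent.H96.ModTrivialTop
import Cfsg.Agent.H93.LocalSaturated

/-!
An element of `C_S(T)` times a suitable element of a centric subgroup is fixed by extensions of all automorphisms
of the subgroup which lift.
-/

set_option autoImplicit false

namespace Cfsg.Agent.H96

open Cfsg Cfsg.FusionSystem Cfsg.Agent.S5127
open scoped IsMulCommutative

variable {Ω : Type*} [Group Ω] {S T : Subgroup Ω} {F : FusionSystem S} {p : ℕ} [Finite S]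

/-- The join of a fully centralized subgroup and its centralizer is fully centralized. -/
theorem fullyCentralized_sup_centralizer {U : Subgroup Ω} (hU : F.IsFullyCentralized U) :
    F.IsFullyCentralized (U ⊔ centralizerIn S U) := by
  set R := U ⊔ centralizerIn S U
  refine ⟨sup_le hU.1 inf_le_left, fun Q hQ => ?_⟩
  obtain ⟨φ, hφ, rfl⟩ := hQ
  have hres := res_mem F hφ (le_sup_left : U ≤ R)
  set U' := (res φ (le_sup_left : U ≤ R)).range
  have hC := res_mem F hφ (le_sup_right : centralizerIn S U ≤ R)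
  have : Finite (centralizerIn S U') := finite_of_le inf_le_left
  have hle : (res φ (le_sup_right : centralizerIn S U ≤ R)).range ≤ centralizerIn S U' := by
    rintro _ ⟨c, rfl⟩
    refine ⟨(F.le_of_mem hC).2 c, ?_⟩
    rintro _ ⟨x, rfl⟩
    rw [res_apply, res_apply, ← map_mul, ← map_mul]
    exact congrArg φ (Subtype.ext (c.2.2 x x.2))
  have heq : (res φ (le_sup_right : centralizerIn S U ≤ R)).range = centralizerIn S U' :=
    Subgroup.eq_of_le_of_card_ge hle (by rw [card_range_eq F hC]; exact hU.2 U' ⟨_, hres, rfl⟩)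
  have : Finite (centralizerIn S R) := finite_of_le inf_le_left
  have hCR : centralizerIn S R ≤ R := fun x hx => Subgroup.mem_sup_right
    ⟨hx.1, Subgroup.centralizer_le (le_sup_left : U ≤ R) hx.2⟩
  rw [← card_range_eq F (res_mem F hφ hCR)]
  have : Finite (res φ hCR).range := finite_of_le (by rintro _ ⟨x, rfl⟩; exact (F.le_of_mem hφ).2 _)
  refine Subgroup.card_le_of_le fun x hx => ?_
  have hxU : x ∈ centralizerIn S U' :=
    ⟨hx.1, fun r hr => hx.2 r (by obtain ⟨u, rfl⟩ := hr; exact ⟨_, rfl⟩)⟩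
  obtain ⟨c, rfl⟩ := heq.ge hxU
  refine ⟨⟨c, c.2.1, fun r hr => ?_⟩, rfl⟩
  have h := hx.2 (φ ⟨r, hr⟩) ⟨_, rfl⟩
  rw [res_apply, ← map_mul, ← map_mul] at h
  exact congrArg Subtype.val (F.injective_of_mem hφ h)

/-- Automorphisms of a group act on its centre. -/
theorem exists_center_action (R : Type*) [Group R] :
    ∃ ρ : MulAut R →* MulAut (Subgroup.center R), ∀ b z, ((ρ b z : Subgroup.center R) : R) = b z := by
  have key : ∀ (b : MulAut R) (z : R), z ∈ Subgroup.center R → b z ∈ Subgroup.center R := fun b z hz =>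
    Subgroup.mem_center_iff.2 fun g => by
      obtain ⟨g, rfl⟩ := b.surjective g
      rw [← map_mul, ← map_mul, Subgroup.mem_center_iff.1 hz g]
  refine ⟨
    { toFun := fun b =>
        { toFun := fun z => ⟨b z, key b z z.2⟩
          invFun := fun z => ⟨b⁻¹ z, key b⁻¹ z z.2⟩
          left_inv := fun z => Subtype.ext (MulAut.inv_apply_self _ _ _)
          right_inv := fun z => Subtype.ext (MulAut.apply_inv_self _ _ _)
          map_mul' := fun z w => Subtype.ext (map_mul b (z : R) w) }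
      map_one' := rfl
      map_mul' := fun b c => rfl }, fun b z => rfl⟩

variable [Fact p.Prime]

/-- An automorphism fixing `U` pointwise, trivial modulo `U`, is conjugation by an element of `C_S(U)`. -/
theorem exists_conj_centralizer_of_fix (hS : IsPGroup p S) (hF : F.IsSaturated p) {U : Subgroup Ω}
    (hU : F.IsFullyCentralized U) {b : MulAut ↥(U ⊔ centralizerIn S U)}
    (hb : b ∈ F.autGroup (U ⊔ centralizerIn S U)) (hbm : ModTrivial U b)
    (hbU : ∀ x : U, b (Subgroup.inclusion le_sup_left x) = Subgroup.inclusion le_sup_left x) :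
    ∃ c ∈ centralizerIn S U, ∀ w : ↥(U ⊔ centralizerIn S U),
      ((b w : ↥(U ⊔ centralizerIn S U)) : Ω) = c * w * c⁻¹ := by
  have hRS : (U ⊔ centralizerIn S U : Subgroup Ω) ≤ S := sup_le hU.1 inf_le_left
  have := finite_of_le hRS
  have := finite_of_le (S := S) (P := centralizerIn S U) inf_le_left
  have hbC : ∀ c : (centralizerIn S U : Subgroup Ω), ((b (Subgroup.inclusion le_sup_right c) : (U ⊔ centralizerIn S U : Subgroup Ω)) : Ω) ∈ (centralizerIn S U : Subgroup Ω) := fun c => by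
    refine ⟨hRS (b _).2, fun u hu => ?_⟩
    have h : Subgroup.inclusion le_sup_left (⟨u, hu⟩ : U) * Subgroup.inclusion le_sup_right c =
        (Subgroup.inclusion le_sup_right c : (U ⊔ centralizerIn S U : Subgroup Ω)) * Subgroup.inclusion le_sup_left (⟨u, hu⟩ : U) :=
      Subtype.ext (c.2.2 u hu)
    have h' := congrArg b h
    rw [map_mul, map_mul, hbU] at h'
    exact congrArg Subtype.val h'
  obtain ⟨c', hc', hce⟩ := exists_restrict hRS (le_sup_right : (centralizerIn S U : Subgroup Ω) ≤ (U ⊔ centralizerIn S U : Subgroup Ω)) hb hbC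
  obtain ⟨k, hk⟩ := H93.pow_eq_one_of_stabilizes hS hRS (δ := b) (R := U) (fun y hy => hbU ⟨y, hy⟩) hbm
  set D := H93.centralizerSystem F U hU.1
  have hD : D.IsSaturated p := H93.IsCentralizerSystem.isSaturated hS hF hU fun _ => rfl
  have hc'D : c' ∈ D.autGroup (centralizerIn S U : Subgroup Ω) := by
    refine (mem_autGroup D le_rfl).2 ?_
    have hle : (centralizerIn S U : Subgroup Ω) ⊔ U ≤ (U ⊔ centralizerIn S U : Subgroup Ω) := sup_le le_sup_right le_sup_left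
    refine ⟨(mem_autGroup F (le_sup_right.trans hRS)).1 hc', le_rfl, fun x => (c' x).2,
      res ((U ⊔ centralizerIn S U : Subgroup Ω).subtype.comp b.toMonoidHom) hle, res_mem F ((mem_autGroup F hRS).1 hb) hle,
      fun x => congrArg Subtype.val (hce x), fun x => congrArg Subtype.val (hbU x)⟩
  have hk' : c' ^ p ^ k = 1 := MulEquiv.ext fun x => Subgroup.inclusion_injective (le_sup_right : (centralizerIn S U : Subgroup Ω) ≤ (U ⊔ centralizerIn S U : Subgroup Ω)) (by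
    rw [← pow_intertwine (Subgroup.inclusion le_sup_right) hce, hk]; rfl)
  have : Finite (centralizerIn S U) := finite_of_le inf_le_left
  obtain ⟨c, hc, hcc⟩ := exists_conj_of_pow_eq_one (W := centralizerIn S U) (hS.to_le inf_le_left) hD hc'D hk'
  have he : b = (MulAut.conj (⟨c, Subgroup.mem_sup_right hc⟩ : (U ⊔ centralizerIn S U : Subgroup Ω))) := by
    refine aut_eq_of_sup (fun x => ?_) fun x => ?_
    · rw [hbU]
      refine Subtype.ext ?_
      show (x : Ω) = c * x * c⁻¹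
      rw [← show (x : Ω) * c = c * x from hc.2 x x.2, mul_inv_cancel_right]
    · rw [hce]
      exact Subtype.ext (hcc x)
  exact ⟨c, hc, fun w => by rw [he]; rfl⟩

set_option maxHeartbeats 800000 in
/-- The twist. -/
theorem exists_twist_fix (hS : IsPGroup p S) (hF : F.IsSaturated p) (hT : F.StronglyClosed T)
    {X U₁ : Subgroup Ω} {χ : normalizerIn S X →* Ω} (t : Target F X U₁ χ) (hXT : X ≤ T)
    (hc₁ : centralizerIn T U₁ ≤ U₁) {A : Subgroup (MulAut X)} (hA : A ≤ t.liftGroup)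
    (hTA : autInducedBy T X ≤ A) (hidx : ¬ p ∣ (autInducedBy T X).relIndex A)
    {y : Ω} (hy : y ∈ centralizerIn S T) :
    ∃ ζ ∈ X, (∀ s ∈ normalizerIn T X, Commute s ζ) ∧
      (∀ a ∈ A, Ext F (Subgroup.zpowers (y * ζ)) X (X.subtype.comp a.toMonoidHom)) ∧
      ∀ H : Subgroup Ω, (∀ a ∈ A, ∀ ψ ∈ F.Hom (X ⊔ Subgroup.zpowers y),
        (∀ x : X, ψ (Subgroup.inclusion le_sup_left x) = ((a x : X) : Ω)) →
        y⁻¹ * ψ ⟨y, Subgroup.mem_sup_right (Subgroup.mem_zpowers y)⟩ ∈ X →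
        y⁻¹ * ψ ⟨y, Subgroup.mem_sup_right (Subgroup.mem_zpowers y)⟩ ∈ H) → ζ ∈ H := by
  classical
  set C₁ := centralizerIn S U₁ with hC₁
  set R := U₁ ⊔ C₁ with hR
  have hRS : R ≤ S := t.le_sup
  have hXS := t.le
  have := finite_of_le hRS
  have := finite_of_le hXS
  have : Finite (MulAut R) := Finite.of_injective (fun a : MulAut _ => (a : _ → _)) DFunLike.coe_injective
  have hU₁T : U₁ ≤ T := fun z hz => by
    obtain ⟨x, hx, rfl⟩ := t.sur z hz
    exact hT.2 X hXT _ (res_mem F t.hom t.le_normalizerIn) ⟨x, hx⟩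
  have hχinj := F.injective_of_mem t.hom
  have hemb : Function.Injective t.emb := fun a b h =>
    Subgroup.inclusion_injective t.le_normalizerIn (hχinj (congrArg Subtype.val h :))
  have hyX : y ∈ centralizerIn S X := ⟨hy.1, Subgroup.centralizer_le hXT hy.2⟩
  have hN : Subgroup.zpowers y ≤ centralizerIn S X := Subgroup.zpowers_le.2 hyX
  have hyN : y ∈ normalizerIn S X :=
    Target.mem_normalizerIn_of_centralizer hN (Subgroup.mem_zpowers y)
  set y₁ : R := ⟨χ ⟨y, hyN⟩, Subgroup.mem_sup_right (t.map_centralizer hyX)⟩ with hy₁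
  -- central elements
  have hcen : ∀ z : R, (z : Ω) ∈ U₁ → (z : Ω) ∈ Subgroup.centralizer (U₁ : Set Ω) →
      z ∈ Subgroup.center R := fun z hz hz' => Subgroup.mem_center_iff.2 fun w => Subtype.ext <| by
    have hle : R ≤ Subgroup.centralizer {(z : Ω)} := by
      refine sup_le (fun u hu => ?_) (fun c hc => ?_)
      · exact Subgroup.mem_centralizer_singleton_iff.2 (hz' u hu)
      · exact Subgroup.mem_centralizer_singleton_iff.2 (hc.2 z hz).symm
    exact Subgroup.mem_centralizer_singleton_iff.1 (hle w.2)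
  have hcenT : ∀ z ∈ T, (∀ u ∈ U₁, u * z = z * u) → ∃ hz : z ∈ R, (⟨z, hz⟩ : R) ∈ Subgroup.center R :=
    fun z hzT hzc => by
      have hzU : z ∈ U₁ := hc₁ ⟨hzT, hzc⟩
      exact ⟨Subgroup.mem_sup_left hzU, hcen _ hzU hzc⟩
  -- the lifts
  let B : Subgroup (MulAut R) :=
    { carrier := {b | b ∈ F.autGroup R ∧ ModTrivial U₁ b ∧ ∃ a ∈ A, ∀ x, b (t.emb x) = t.emb (a x)}
      one_mem' := ⟨one_mem _, modTrivial_one, 1, one_mem _, fun _ => rfl⟩
      mul_mem' := by
        rintro b d ⟨hb, hbm, a, ha, hbe⟩ ⟨hd, hdm, c, hc, hde⟩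
        exact ⟨mul_mem hb hd, modTrivial_mul hbm hdm, a * c, mul_mem ha hc, fun x => by
          rw [MulAut.mul_apply, hde, hbe, MulAut.mul_apply]⟩
      inv_mem' := by
        rintro b ⟨hb, hbm, a, ha, hbe⟩
        refine ⟨inv_mem hb, modTrivial_inv hbm, a⁻¹, inv_mem ha, fun x => b.injective ?_⟩
        rw [MulAut.apply_inv_self, hbe, MulAut.apply_inv_self] }
  choose π hπA hπ using fun b : B => b.2.2.2
  let πh : B →* A := MonoidHom.mk' (fun b => ⟨π b, hπA b⟩) fun b d => Subtype.ext (MulEquiv.ext fun x =>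
    hemb (by
      show t.emb (π (b * d) x) = t.emb (π b (π d x))
      rw [← hπ, ← hπ, ← hπ]; rfl))
  have hπs : Function.Surjective πh := fun a => by
    obtain ⟨b, hb, hbm, hbe⟩ := hA a.2
    refine ⟨⟨b, hb, hbm, a, a.2, hbe⟩, Subtype.ext (MulEquiv.ext fun x => hemb ?_)⟩
    show t.emb (π _ x) = t.emb _
    rw [← hπ, ← hbe]
  let Pt : Subgroup B := ((autInducedBy T X).subgroupOf A).comap πh
  have hidx' : Pt.index = (autInducedBy T X).relIndex A := Subgroup.index_comap_of_surjective _ hπs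
  -- conjugations by the normalizer
  have hσ : ∀ s (hs : s ∈ normalizerIn T X), ∀ a : MulAut X,
      (∀ x : X, ((a x : X) : Ω) = s * x * s⁻¹) → ∃ b : B, πh b = (a : MulAut X) ∧
      ∀ w : R, (((b : MulAut R) w : R) : Ω) = χ ⟨s, hT.1 hs.1, hs.2⟩ * w * (χ ⟨s, hT.1 hs.1, hs.2⟩)⁻¹ := by
    intro s hs a hae
    set sN : normalizerIn S X := ⟨s, hT.1 hs.1, hs.2⟩
    have hs₁T : χ sN ∈ T :=
      hT.2 (normalizerIn S X ⊓ T) inf_le_right _ (res_mem F t.hom inf_le_left) ⟨s, sN.2, hs.1⟩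
    have hs₁N := t.val sN
    have hmv : ∀ w : R, conjHom R (χ sN) w ∈ R := by
      have hn : R ≤ R.comap (MulAut.conj (χ sN)).toMonoidHom := by
        refine sup_le (fun g hg => Subgroup.mem_sup_left ((Subgroup.mem_normalizer_iff.1 hs₁N.2 g).1 hg))
          (fun g hg => Subgroup.mem_sup_right (H93.mem_centralizerIn.2
            ⟨S.mul_mem (S.mul_mem hs₁N.1 hg.1) (S.inv_mem hs₁N.1), fun r hr => ?_⟩))
        have hr' := (Subgroup.mem_normalizer_iff.1 (Subgroup.inv_mem _ hs₁N.2) r).1 hr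
        have h1 := (H93.mem_centralizerIn.1 hg).2 _ hr'
        rw [inv_inv] at h1
        show χ sN * g * (χ sN)⁻¹ * r * (χ sN * g * (χ sN)⁻¹)⁻¹ = r
        calc χ sN * g * (χ sN)⁻¹ * r * (χ sN * g * (χ sN)⁻¹)⁻¹
            = χ sN * (g * ((χ sN)⁻¹ * r * χ sN) * g⁻¹) * (χ sN)⁻¹ := by group
          _ = χ sN * ((χ sN)⁻¹ * r * χ sN) * (χ sN)⁻¹ := by rw [h1]
          _ = r := by group
      exact fun w => hn w.2
    obtain ⟨b, hb, hbe⟩ := exists_autGroup_of_mem F (F.conj_mem hRS hs₁N.1) hmv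
    have haA : a ∈ A := hTA (mem_autInducedBy.2 ⟨s, hs.1, hae⟩)
    have hbu : ∀ x : X, b (t.emb x) = t.emb (a x) := fun x => Subtype.ext (by
      rw [hbe]
      show χ sN * χ (Subgroup.inclusion t.le_normalizerIn x) * (χ sN)⁻¹ = _
      rw [← map_inv, ← map_mul, ← map_mul]
      exact congrArg χ (Subtype.ext (hae x).symm))
    have hbm : ModTrivial U₁ b := by
      refine modTrivial_of_sup (P := C₁) inf_le_right (fun x => ?_) fun x => ?_
      · rw [hbe]; exact (Subgroup.mem_normalizer_iff.1 hs₁N.2 x).1 x.2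
      · rw [hbe]
        have hxC : ∀ r ∈ U₁, r * ((x : Ω)⁻¹ * (χ sN * x * (χ sN)⁻¹)) = (x : Ω)⁻¹ * (χ sN * x * (χ sN)⁻¹) * r := by
          intro r hr
          have hm : χ sN * x * (χ sN)⁻¹ ∈ C₁ := by
            have h1 := hmv (Subgroup.inclusion le_sup_right x)
            refine ⟨S.mul_mem (S.mul_mem hs₁N.1 x.2.1) (S.inv_mem hs₁N.1), fun r hr => ?_⟩
            have hr' := (Subgroup.mem_normalizer_iff.1 (Subgroup.inv_mem _ hs₁N.2) r).1 hr
            rw [inv_inv] at hr'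
            have h2 : ((χ sN)⁻¹ * r * χ sN) * (x : Ω) = x * ((χ sN)⁻¹ * r * χ sN) := x.2.2 _ hr'
            calc r * (χ sN * x * (χ sN)⁻¹) = χ sN * (((χ sN)⁻¹ * r * χ sN) * x) * (χ sN)⁻¹ := by group
              _ = χ sN * (x * ((χ sN)⁻¹ * r * χ sN)) * (χ sN)⁻¹ := by rw [h2]
              _ = χ sN * x * (χ sN)⁻¹ * r := by group
          exact (C₁.mul_mem (C₁.inv_mem x.2) hm).2 r hr
        refine hc₁ ⟨?_, hxC⟩
        have := T.mul_mem ((Subgroup.mem_normalizer_iff.1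
          (H93.StronglyClosed.le_normalizer hT (S.inv_mem x.2.1)) (χ sN)).1 hs₁T) (T.inv_mem hs₁T)
        rw [inv_inv] at this
        show (x : Ω)⁻¹ * (χ sN * x * (χ sN)⁻¹) ∈ T
        simpa [mul_assoc] using this
    refine ⟨⟨b, hb, hbm, a, haA, hbu⟩, MulEquiv.ext fun x => hemb ?_, hbe⟩
    show t.emb (π _ x) = _
    rw [← hπ, ← hbu]
  have hs₁y : ∀ s (hs : s ∈ normalizerIn T X), Commute (χ ⟨s, hT.1 hs.1, hs.2⟩) (y₁ : Ω) := fun s hs => by
    show _ * χ _ = χ _ * _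
    rw [← map_mul, ← map_mul]
    exact congrArg χ (Subtype.ext (hy.2 s hs.1))
  -- the elements over conjugations
  have hPt : ∀ h ∈ Pt, ∃ s, ∃ hs : s ∈ normalizerIn T X, ∃ c ∈ C₁, ∀ w : R,
      (((h : MulAut R) w : R) : Ω) =
        χ ⟨s, hT.1 hs.1, hs.2⟩ * c * w * (χ ⟨s, hT.1 hs.1, hs.2⟩ * c)⁻¹ := by
    intro h hh
    obtain ⟨s, hs, hse⟩ := mem_autInducedBy.1 (Subgroup.mem_subgroupOf.1 hh)
    have hsN : s ∈ normalizerIn T X := ⟨hs, H93.mem_normalizer_of_conj_eq hse⟩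
    obtain ⟨b, hbπ, hbe⟩ := hσ s hsN _ hse
    have hκ : ∀ x : U₁, ((b⁻¹ * h : B) : MulAut R) (Subgroup.inclusion le_sup_left x) =
        Subgroup.inclusion le_sup_left x := fun x => by
      obtain ⟨x', hx'⟩ := t.exists_emb (w := Subgroup.inclusion le_sup_left x) x.2
      rw [← hx', hπ]
      congr 1
      have h1 : πh (b⁻¹ * h) = 1 := by
        rw [map_mul, map_inv, show πh b = πh h from Subtype.ext hbπ, inv_mul_cancel]
      exact congrArg (fun a : A => (a : MulAut X) x') h1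
    obtain ⟨c, hc, hce⟩ := exists_conj_centralizer_of_fix hS hF
      (H93.IsFullyNormalized.isFullyCentralized hS hF t.full) (b⁻¹ * h).2.1 (b⁻¹ * h).2.2.1 hκ
    refine ⟨s, hsN, c, hc, fun w => ?_⟩
    conv_lhs => rw [show (h : MulAut R) w = (b : MulAut R) (((b⁻¹ * h : B) : MulAut R) w) from
      (MulAut.apply_inv_self _ _ _).symm]
    rw [hbe, hce]
    group
  -- elements of `C₁` move within the centre
  have hmove : ∀ (b : B) (c : R), (c : Ω) ∈ C₁ → c⁻¹ * (b : MulAut R) c ∈ Subgroup.center R := by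
    intro b c hc
    refine hcen _ (b.2.2.1 c) fun u hu => ?_
    obtain ⟨x, hx⟩ := t.exists_emb (w := ⟨u, Subgroup.mem_sup_left hu⟩) hu
    obtain ⟨x', rfl⟩ := (π b).surjective x
    have hcomm : ∀ v : R, (v : Ω) ∈ U₁ → Commute v c := fun v hv => Subtype.ext (hc.2 v hv)
    have h1 : Commute (⟨u, Subgroup.mem_sup_left hu⟩ : R) c := hcomm _ hu
    have h2 : Commute (⟨u, Subgroup.mem_sup_left hu⟩ : R) ((b : MulAut R) c) := by
      rw [← hx, ← hπ]
      exact (hcomm _ (t.emb_mem x')).map _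
    exact congrArg Subtype.val (h1.inv_right.mul_right h2).eq
  have hy₁C : (y₁ : Ω) ∈ C₁ := t.map_centralizer hyX
  set D : B → Subgroup.center R := fun b => ⟨y₁⁻¹ * (b : MulAut R) y₁, hmove b y₁ hy₁C⟩ with hDdef
  obtain ⟨ρ, hρ⟩ := exists_center_action R
  let ρB : B →* MulAut (Subgroup.center R) := ρ.comp B.subtype
  have hcoc : ∀ g h : B, D (g * h) = D g * ρB g (D h) := fun g h => Subtype.ext (by
    rw [Subgroup.coe_mul]
    show y₁⁻¹ * (g : MulAut R) ((h : MulAut R) y₁) = _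
    rw [show ((ρB g (D h) : Subgroup.center R) : R) = (g : MulAut R) (y₁⁻¹ * (h : MulAut R) y₁) from hρ _ _,
      map_mul, map_inv]
    show _ = y₁⁻¹ * (g : MulAut R) y₁ * _
    group)
  -- the values on the elements over conjugations
  have hsplit : ∀ h ∈ Pt, ∃ (b : B) (c : R), (c : Ω) ∈ C₁ ∧ (b : MulAut R) y₁ = y₁ ∧
      ((D h : R) = y₁⁻¹ * (c * y₁ * c⁻¹)) ∧ ∀ w : R, (h : MulAut R) w = (b : MulAut R) (c * w * c⁻¹) := by
    intro h hh
    obtain ⟨s, hs, c, hc, he⟩ := hPt h hh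
    obtain ⟨b, -, hbe⟩ := hσ s hs _ (fun x => H93.conjAut_apply T X ⟨s, hs⟩ x)
    set s₁ := χ ⟨s, hT.1 hs.1, hs.2⟩
    set cR : R := ⟨c, Subgroup.mem_sup_right hc⟩
    have hby : (b : MulAut R) y₁ = y₁ := Subtype.ext (by
      rw [hbe, (hs₁y s hs).eq, mul_inv_cancel_right])
    have hh' : ∀ w, (h : MulAut R) w = (b : MulAut R) (cR * w * cR⁻¹) := fun w => Subtype.ext (by
      rw [he, hbe]
      show _ = s₁ * (c * (w : Ω) * c⁻¹) * s₁⁻¹
      group)
    refine ⟨b, cR, hc, hby, ?_, hh'⟩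
    show y₁⁻¹ * (h : MulAut R) y₁ = _
    rw [hh', map_mul, map_mul, map_inv, hby]
    obtain ⟨z, hz, hzc⟩ : ∃ z ∈ Subgroup.center R, (b : MulAut R) cR = cR * z :=
      ⟨_, hmove b cR hc, (mul_inv_cancel_left _ _).symm⟩
    rw [hzc, mul_inv_rev, mul_assoc cR, ← Subgroup.mem_center_iff.1 hz y₁]
    group
  have hfixD : ∀ g ∈ Pt, ∀ h ∈ Pt, ρB g (D h) = D h := by
    intro g hg h hh
    obtain ⟨b, c, -, hby, -, hge⟩ := hsplit g hg
    obtain ⟨-, c', hc', -, hk, -⟩ := hsplit h hh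
    refine Subtype.ext ((hρ _ _).trans ?_)
    show (g : MulAut R) (D h : R) = (D h : R)
    rw [hge, Subgroup.mem_center_iff.1 (D h).2 c, mul_inv_cancel_right, hk, map_mul, map_mul, map_mul, map_inv, map_inv, hby]
    obtain ⟨z, hz, hzc⟩ : ∃ z ∈ Subgroup.center R, (b : MulAut R) c' = c' * z :=
      ⟨_, hmove b c' hc', (mul_inv_cancel_left _ _).symm⟩
    rw [hzc, mul_inv_rev, mul_assoc c' z, ← Subgroup.mem_center_iff.1 hz y₁]
    group
  let ϕ : Pt →* Subgroup.center R := MonoidHom.mk' (fun h => D h) fun g h => by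
    show D ((g : B) * h) = _
    rw [hcoc, hfixD _ g.2 _ h.2]
  -- stability
  have hRrec := H94.fullyCentralized_receptive hS hF
    (fullyCentralized_sup_centralizer (H93.IsFullyNormalized.isFullyCentralized hS hF t.full))
  have hst : ∀ (h : Pt) (g : B) (hg : g⁻¹ * (h : B) * g ∈ Pt), ϕ ⟨g⁻¹ * (h : B) * g, hg⟩ = ϕ h := by
    intro h g hg
    obtain ⟨s, hs, c, hc, he⟩ := hPt h h.2
    obtain ⟨s', hs', c', hc', he'⟩ := hPt _ hg
    obtain ⟨b, -, hbe⟩ := hσ s hs _ (fun x => H93.conjAut_apply T X ⟨s, hs⟩ x)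
    set sN : normalizerIn S X := ⟨s, hT.1 hs.1, hs.2⟩
    set sN' : normalizerIn S X := ⟨s', hT.1 hs'.1, hs'.2⟩
    have hTs : ∀ r (hr : r ∈ normalizerIn T X), χ ⟨r, hT.1 hr.1, hr.2⟩ ∈ T := fun r hr =>
      hT.2 (normalizerIn S X ⊓ T) inf_le_right _ (res_mem F t.hom inf_le_left) ⟨r, ⟨hT.1 hr.1, hr.2⟩, hr.1⟩
    -- `g⁻¹` moves `c` within the centre
    set cR : R := ⟨c, Subgroup.mem_sup_right hc⟩
    obtain ⟨z, hz, hzc⟩ : ∃ z ∈ Subgroup.center R, (g : MulAut R)⁻¹ cR = cR * z :=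
      ⟨_, hmove g⁻¹ cR hc, (mul_inv_cancel_left _ _).symm⟩
    have hgh : ∀ w, ((g⁻¹ * (h : B) * g : B) : MulAut R) w =
        (g : MulAut R)⁻¹ ((b : MulAut R) ((g : MulAut R) (cR * w * cR⁻¹))) := fun w => by
      have hcw : (g : MulAut R) (cR * w * cR⁻¹) = cR * (g : MulAut R) w * cR⁻¹ := by
        refine (g : MulAut R)⁻¹.injective ?_
        rw [MulAut.inv_apply_self, map_mul, map_mul, map_inv, MulAut.inv_apply_self, hzc, mul_inv_rev,
          mul_assoc cR z, ← Subgroup.mem_center_iff.1 hz w]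
        group
      rw [hcw]
      show (g : MulAut R)⁻¹ (((h : B) : MulAut R) ((g : MulAut R) w)) = _
      refine congrArg _ (Subtype.ext ?_)
      rw [he, hbe]
      show _ = χ sN * (c * (((g : MulAut R) w : R) : Ω) * c⁻¹) * (χ sN)⁻¹
      group
    -- the extension of `g⁻¹` to the normalizing element
    have hgF := (mem_autGroup F hRS).1 (inv_mem g.2.1 : (g : MulAut R)⁻¹ ∈ F.autGroup R)
    have hs₁R : χ sN ∈ Subgroup.normalizer (R : Set Ω) := H93.mem_normalizer_of_conj_eq (α := (b : MulAut R)) hbe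
    have hsE : χ sN ∈ extender S R (R.subtype.comp ((g : MulAut R)⁻¹).toMonoidHom) := by
      refine H94.mem_extender_of_conj (β := (b : MulAut R)) (hT.1 (hTs s hs)) hs₁R hbe ?_
      refine mem_autInducedBy.2 ⟨χ sN' * c' * c⁻¹,
        S.mul_mem (S.mul_mem (hT.1 (hTs s' hs')) hc'.1) (S.inv_mem hc.1), fun w => ?_⟩
      have h1 := hgh (cR⁻¹ * w * cR)
      rw [show cR * (cR⁻¹ * w * cR) * cR⁻¹ = w by group] at h1
      show ((((g : MulAut R)⁻¹ * (b : MulAut R) * ((g : MulAut R)⁻¹)⁻¹) w : R) : Ω) = _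
      rw [inv_inv, MulAut.mul_apply, MulAut.mul_apply, ← h1, he']
      show χ sN' * c' * (c⁻¹ * (w : Ω) * c) * (χ sN' * c')⁻¹ = _
      group
    obtain ⟨ψ, hψ, hψe⟩ := hRrec.2 R _ hgF (range_eq_of_forall_mem F hgF fun w => ((g : MulAut R)⁻¹ w).2)
    set r := ψ ⟨χ sN, hsE⟩
    have hrT : r ∈ T := H93.StronglyClosed.apply_mem hT hψ _ (hTs s hs)
    have hconj : ∀ w : R, ((((g : MulAut R)⁻¹ ((b : MulAut R) ((g : MulAut R) w))) : R) : Ω) = r * w * r⁻¹ := by
      intro w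
      have hle : R ≤ extender S R (R.subtype.comp ((g : MulAut R)⁻¹).toMonoidHom) := H94.le_extender_aut hRS _
      have h1 : ∀ v : R, ψ ⟨v, hle v.2⟩ = (((g : MulAut R)⁻¹ v : R) : Ω) := fun v => hψe v v.2 _
      rw [← h1, show (⟨((b : MulAut R) ((g : MulAut R) w) : Ω), hle (SetLike.coe_mem _)⟩ :
          extender S R (R.subtype.comp ((g : MulAut R)⁻¹).toMonoidHom)) =
          ⟨χ sN, hsE⟩ * ⟨(((g : MulAut R) w : R) : Ω), hle (SetLike.coe_mem _)⟩ * ⟨χ sN, hsE⟩⁻¹ from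
          Subtype.ext (hbe _), map_mul, map_mul, map_inv, h1, MulAut.inv_apply_self]
    -- compare with `s'`
    have hfix : ∀ u ∈ U₁, u * ((χ sN')⁻¹ * r) = (χ sN')⁻¹ * r * u := by
      intro u hu
      have h1 := congrArg (fun w : R => (w : Ω)) (hgh ⟨u, Subgroup.mem_sup_left hu⟩)
      rw [hconj] at h1
      simp only [he'] at h1
      have e1 : c' * u * c'⁻¹ = u := (H93.mem_centralizerIn.1 hc').2 u hu
      have e2 : c * u * c⁻¹ = u := (H93.mem_centralizerIn.1 hc).2 u hu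
      rw [show χ sN' * c' * u * (χ sN' * c')⁻¹ = χ sN' * (c' * u * c'⁻¹) * (χ sN')⁻¹ by group, e1] at h1
      change χ sN' * u * (χ sN')⁻¹ = r * (c * u * c⁻¹) * r⁻¹ at h1
      rw [e2] at h1
      calc u * ((χ sN')⁻¹ * r) = (χ sN')⁻¹ * (χ sN' * u * (χ sN')⁻¹) * r := by group
        _ = (χ sN')⁻¹ * (r * u * r⁻¹) * r := by rw [h1]
        _ = (χ sN')⁻¹ * r * u := by group
    obtain ⟨hdR, hdc⟩ := hcenT _ (T.mul_mem (T.inv_mem (hTs s' hs')) hrT) hfix
    have hrd : r = χ sN' * ((χ sN')⁻¹ * r) := (mul_inv_cancel_left _ _).symm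
    generalize (χ sN')⁻¹ * r = d at hdR hdc hrd
    refine Subtype.ext (Subtype.ext ?_)
    show (y₁ : Ω)⁻¹ * (((g⁻¹ * (h : B) * g : B) : MulAut R) y₁ : R) = (y₁ : Ω)⁻¹ * (((h : B) : MulAut R) y₁ : R)
    congr 1
    rw [hgh, hconj, he, hrd]
    have hk : cR * y₁ * cR⁻¹ = y₁ * (y₁⁻¹ * (cR * y₁ * cR⁻¹)) := (mul_inv_cancel_left _ _).symm
    obtain ⟨b', c'', -, hby', hkD, hh''⟩ := hsplit h h.2
    have e3 : d * ((cR * y₁ * cR⁻¹ : R) : Ω) * d⁻¹ = ((cR * y₁ * cR⁻¹ : R) : Ω) := by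
      have h4 : ((cR * y₁ * cR⁻¹ : R) : Ω) * d = d * ((cR * y₁ * cR⁻¹ : R) : Ω) :=
        congrArg Subtype.val (Subgroup.mem_center_iff.1 hdc (cR * y₁ * cR⁻¹))
      rw [← h4, mul_inv_cancel_right]
    -- both conjugations fix the displacement
    have e4 : ∀ r' (hr' : r' ∈ normalizerIn T X),
        χ ⟨r', hT.1 hr'.1, hr'.2⟩ * ((cR * y₁ * cR⁻¹ : R) : Ω) * (χ ⟨r', hT.1 hr'.1, hr'.2⟩)⁻¹ =
          ((cR * y₁ * cR⁻¹ : R) : Ω) := by
      intro r' hr'
      obtain ⟨br, -, hbre⟩ := hσ r' hr' _ (fun x => H93.conjAut_apply T X ⟨r', hr'⟩ x)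
      have hbry : (br : MulAut R) y₁ = y₁ := Subtype.ext (by
        rw [hbre, (hs₁y r' hr').eq, mul_inv_cancel_right])
      obtain ⟨z', hz', hzc'⟩ : ∃ z ∈ Subgroup.center R, (br : MulAut R) cR = cR * z :=
        ⟨_, hmove br cR hc, (mul_inv_cancel_left _ _).symm⟩
      rw [← hbre, map_mul, map_mul, map_inv, hbry, hzc', mul_inv_rev, mul_assoc cR z',
        ← Subgroup.mem_center_iff.1 hz' y₁]
      exact congrArg Subtype.val (show cR * (y₁ * z') * (z'⁻¹ * cR⁻¹) = cR * y₁ * cR⁻¹ by group)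
    calc χ sN' * d * ((cR * y₁ * cR⁻¹ : R) : Ω) * (χ sN' * d)⁻¹
        = χ sN' * (d * ((cR * y₁ * cR⁻¹ : R) : Ω) * d⁻¹) * (χ sN')⁻¹ := by group
      _ = ((cR * y₁ * cR⁻¹ : R) : Ω) := by rw [e3, e4 s' hs']
      _ = χ sN * ((cR * y₁ * cR⁻¹ : R) : Ω) * (χ sN)⁻¹ := (e4 s hs).symm
      _ = χ sN * c * y₁ * (χ sN * c)⁻¹ := by
        show χ sN * (c * (y₁ : Ω) * c⁻¹) * (χ sN)⁻¹ = _
        group
  -- the complement
  have : Finite B := inferInstance
  set τ := MonoidHom.transfer ϕ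
  have hτ : ∀ h : Pt, τ (h : B) = D h ^ Pt.index := fun h => transfer_apply_of_stable ϕ hst h
  have hRp : IsPGroup p R := hS.to_le hRS
  obtain ⟨kc, hkc⟩ := (hRp.to_subgroup (Subgroup.center R)).exists_card_eq
  have hco : Pt.index.Coprime (Nat.card (Subgroup.center R)) := by
    rw [hkc, hidx']
    exact (((Fact.out : p.Prime).coprime_iff_not_dvd.2 hidx).symm).pow_right kc
  have hpowinj : Function.Injective fun z : Subgroup.center R => z ^ Pt.index :=
    (powCoprime hco.symm).injective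
  set N := τ.ker
  have hσN : ∀ (s : Ω) (hs : s ∈ normalizerIn T X) (b : B),
      (∀ w : R, (((b : MulAut R) w : R) : Ω) = χ ⟨s, hT.1 hs.1, hs.2⟩ * w * (χ ⟨s, hT.1 hs.1, hs.2⟩)⁻¹) →
      b ∈ Pt → b ∈ N ∧ D b = 1 := by
    intro s hs b hbe hbP
    have hD1 : D b = 1 := Subtype.ext (by
      show y₁⁻¹ * (b : MulAut R) y₁ = 1
      rw [show (b : MulAut R) y₁ = y₁ from Subtype.ext (by rw [hbe, (hs₁y s hs).eq, mul_inv_cancel_right]),
        inv_mul_cancel])
    refine ⟨?_, hD1⟩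
    show τ ((⟨b, hbP⟩ : Pt) : B) = 1
    rw [hτ, hD1, one_pow]
  -- every automorphism in `A` has a lift in `N`
  have hsur : ∀ a : A, ∃ n ∈ N, πh n = a := by
    intro a
    obtain ⟨b, rfl⟩ := hπs a
    obtain ⟨r, hr⟩ : ∃ r : Pt, τ b = τ (r : B) := by
      obtain ⟨r, hr⟩ := transfer_mem_range ϕ b
      set k := (powCoprime hco.symm).symm (ϕ r) with hk
      have hkm : k ∈ ϕ.range := Subgroup.zpow_mem _ (MonoidHom.mem_range.2 ⟨r, rfl⟩) _
      obtain ⟨r', hr'⟩ := hkm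
      refine ⟨r', ?_⟩
      rw [hτ, show D (r' : B) = k from hr', ← hr]
      exact ((powCoprime hco.symm).apply_symm_apply (ϕ r)).symm
    obtain ⟨s, hs, hse⟩ := mem_autInducedBy.1 (Subgroup.mem_subgroupOf.1 r.2)
    have hsN : s ∈ normalizerIn T X := ⟨hs, H93.mem_normalizer_of_conj_eq hse⟩
    obtain ⟨bs, hbsπ, hbse⟩ := hσ s hsN _ hse
    have hbsP : bs ∈ Pt := by
      show πh bs ∈ (autInducedBy T X).subgroupOf A
      rw [show πh bs = πh r from Subtype.ext hbsπ]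
      exact r.2
    refine ⟨b * (r : B)⁻¹ * bs, ?_, ?_⟩
    · show τ (b * (r : B)⁻¹ * bs) = 1
      rw [map_mul, map_mul, map_inv, hr, mul_inv_cancel, one_mul]
      exact (hσN s hsN bs hbse hbsP).1
    · rw [map_mul, map_mul, map_inv, show πh bs = πh r from Subtype.ext hbsπ, inv_mul_cancel_right]
  -- the average
  have hS₀ : ∀ n ∈ Pt.subgroupOf N, D (n : B) = 1 := by
    intro n hn
    refine hpowinj ?_
    show D (n : B) ^ Pt.index = 1 ^ Pt.index
    rw [one_pow, ← hτ ⟨(n : B), hn⟩]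
    exact n.2
  have hco' : (Pt.subgroupOf N).index.Coprime (Nat.card (Subgroup.center R)) := by
    refine hco.coprime_dvd_left ?_
    show Pt.relIndex N ∣ Pt.index
    have : N.Normal := inferInstance
    have htop : Pt ⊔ N = ⊤ := top_le_iff.1 fun b _ => by
      obtain ⟨n, hn, hne⟩ := hsur (πh b)
      rw [← inv_mul_cancel_right b n]
      refine Subgroup.mul_mem _ (Subgroup.mem_sup_left ?_) (Subgroup.mem_sup_right hn)
      show πh (b * n⁻¹) ∈ (autInducedBy T X).subgroupOf A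
      rw [map_mul, map_inv, hne, mul_inv_cancel]
      exact one_mem _
    have h3 : N.relIndex Pt = N.index := by
      rw [← Subgroup.relIndex_sup_right Pt N, htop, Subgroup.relIndex_top_right]
    have h1 : N.relIndex Pt * Pt.index = (N ⊓ Pt).index := by
      rw [← Subgroup.inf_relIndex_right, Subgroup.relIndex_mul_index inf_le_right]
    have h2 : Pt.relIndex N * N.index = (N ⊓ Pt).index := by
      rw [inf_comm, ← Subgroup.inf_relIndex_right Pt N, Subgroup.relIndex_mul_index inf_le_right]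
    refine dvd_of_eq (Nat.eq_of_mul_eq_mul_right
      (Nat.pos_of_ne_zero Subgroup.FiniteIndex.index_ne_zero : 0 < N.index) ?_)
    rw [h2, ← h1, h3, mul_comm]
  obtain ⟨ζ₁, hζc, hζ⟩ := exists_fixed_of_cocycle (ρB.comp N.subtype) (fun n : N => D (n : B))
    (fun g h => hcoc g h) hS₀ hco'
  have hfixw : ∀ n ∈ N, (n : MulAut R) (y₁ * (ζ₁ : R)) = y₁ * (ζ₁ : R) := by
    intro n hn
    have h := congrArg Subtype.val (hζ ⟨n, hn⟩)
    rw [Subgroup.coe_mul] at h
    rw [map_mul]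
    conv_rhs => rw [← h]
    rw [← mul_assoc]
    congr 1
    · exact (mul_inv_cancel_left y₁ _).symm
    · exact (hρ _ _).symm
  -- pulling back
  have hpull : ∀ (b : B) (w : Ω) (hw : w ∈ centralizerIn S X),
      ∃ ψ ∈ F.Hom (X ⊔ Subgroup.zpowers w),
      (∀ x : X, ψ (Subgroup.inclusion le_sup_left x) = ((π b x : X) : Ω)) ∧
      ∃ d : X, ψ ⟨w, Subgroup.mem_sup_right (Subgroup.mem_zpowers w)⟩ = w * d ∧
        ((t.emb d : R) = (⟨χ ⟨w, Target.mem_normalizerIn_of_centralizer le_rfl hw⟩,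
          Subgroup.mem_sup_right (t.map_centralizer hw)⟩ : R)⁻¹ *
            (b : MulAut R) ⟨χ ⟨w, Target.mem_normalizerIn_of_centralizer le_rfl hw⟩,
              Subgroup.mem_sup_right (t.map_centralizer hw)⟩) := by
    intro b w hw
    set wN : normalizerIn S X := ⟨w, Target.mem_normalizerIn_of_centralizer le_rfl hw⟩
    set w₁ : R := ⟨χ wN, Subgroup.mem_sup_right (t.map_centralizer hw)⟩
    have hzw : Subgroup.zpowers w ≤ centralizerIn S X := Subgroup.zpowers_le.2 hw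
    have hWN : X ⊔ Subgroup.zpowers w ≤ normalizerIn S X :=
      sup_le t.le_normalizerIn (Target.mem_normalizerIn_of_centralizer hzw)
    have hv : ∀ v, res χ hWN v ∈ R := H93.apply_mem_sup
      (fun x => Subgroup.mem_sup_left (t.img _ x.2))
      fun x => Subgroup.mem_sup_right (t.map_centralizer (hzw x.2))
    obtain ⟨f, hf, hfe⟩ := exists_comp F (res_mem F t.hom hWN) ((mem_autGroup F hRS).1 b.2.1) hv
    obtain ⟨i, hi, hir, hie⟩ := exists_inv F (res_mem F t.hom hWN) rfl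
    obtain ⟨dR, hdR⟩ : ∃ dR : R, dR = w₁⁻¹ * (b : MulAut R) w₁ := ⟨_, rfl⟩
    have hdU : (dR : Ω) ∈ U₁ := hdR ▸ b.2.2.1 w₁
    obtain ⟨d, hd⟩ := t.exists_emb hdU
    have hfw : f ⟨w, Subgroup.mem_sup_right (Subgroup.mem_zpowers w)⟩ =
        χ (wN * Subgroup.inclusion t.le_normalizerIn d) := by
      rw [hfe, map_mul]
      show (((b : MulAut R) w₁ : R) : Ω) = (w₁ : Ω) * ((t.emb d : R) : Ω)
      rw [hd, hdR, ← Subgroup.coe_mul, mul_inv_cancel_left]
    have hfX : ∀ x : X, f (Subgroup.inclusion le_sup_left x) = res χ hWN (Subgroup.inclusion le_sup_left (π b x)) :=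
      fun x => by
        rw [hfe]
        exact congrArg Subtype.val (hπ b x)
    have hwmem : w * (d : Ω) ∈ X ⊔ Subgroup.zpowers w :=
      Subgroup.mul_mem _ (Subgroup.mem_sup_right (Subgroup.mem_zpowers w)) (Subgroup.mem_sup_left d.2)
    have hfw' : f ⟨w, Subgroup.mem_sup_right (Subgroup.mem_zpowers w)⟩ = res χ hWN ⟨_, hwmem⟩ := hfw
    have hfin : ∀ v, f v ∈ (res χ hWN).range := by
      refine H93.apply_mem_sup (fun x => ?_) fun x => ?_
      · rw [hfX]; exact MonoidHom.mem_range.2 ⟨_, rfl⟩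
      · obtain ⟨k, hk⟩ := Subgroup.mem_zpowers_iff.1 x.2
        rw [show Subgroup.inclusion le_sup_right x =
          (⟨w, Subgroup.mem_sup_right (Subgroup.mem_zpowers w)⟩ : ↥(X ⊔ Subgroup.zpowers w)) ^ k from
            Subtype.ext (by rw [Subgroup.coe_zpow]; exact hk.symm), map_zpow, hfw']
        exact Subgroup.zpow_mem _ (MonoidHom.mem_range.2 ⟨_, rfl⟩) k
    obtain ⟨ψ, hψ, hψe⟩ := exists_comp F hf hi hfin
    refine ⟨ψ, hψ, fun x => ?_, d, ?_, hd.trans hdR⟩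
    · rw [hψe]
      exact (congrArg i (Subtype.ext (hfX x) : (⟨f _, hfin _⟩ : (res χ hWN).range) =
        ⟨res χ hWN (Subgroup.inclusion le_sup_left (π b x)), ⟨_, rfl⟩⟩)).trans (hie _ _)
    · rw [hψe]
      exact (congrArg i (Subtype.ext hfw' : (⟨f _, hfin _⟩ : (res χ hWN).range) =
        ⟨res χ hWN ⟨_, hwmem⟩, ⟨_, rfl⟩⟩)).trans (hie _ _)
  -- the preimage of `ζ₁`
  let V : Subgroup Ω → Subgroup R := fun H => (H.subgroupOf X).map t.emb
  have hVmem : ∀ H : Subgroup Ω, (∀ a ∈ A, ∀ ψ ∈ F.Hom (X ⊔ Subgroup.zpowers y),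
      (∀ x : X, ψ (Subgroup.inclusion le_sup_left x) = ((a x : X) : Ω)) →
      y⁻¹ * ψ ⟨y, Subgroup.mem_sup_right (Subgroup.mem_zpowers y)⟩ ∈ X →
      y⁻¹ * ψ ⟨y, Subgroup.mem_sup_right (Subgroup.mem_zpowers y)⟩ ∈ H) → (ζ₁ : R) ∈ V H := by
    intro H hH
    have hle : Subgroup.closure (Set.range fun n : N => D (n : B)) ≤ (V H).comap (Subgroup.center R).subtype := by
      refine (Subgroup.closure_le _).2 ?_
      rintro _ ⟨n, rfl⟩
      obtain ⟨ψ, hψ, hψX, d, hψw, hd⟩ := hpull n y hyX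
      have e : y⁻¹ * ψ ⟨y, Subgroup.mem_sup_right (Subgroup.mem_zpowers y)⟩ = (d : Ω) := by
        rw [hψw, inv_mul_cancel_left]
      have hdH : (d : Ω) ∈ H := e ▸ hH _ (hπA _) ψ hψ hψX (e.symm ▸ d.2)
      exact ⟨d, hdH, hd⟩
    exact hle hζc
  obtain ⟨ζ, -, hζe⟩ := hVmem ⊤ fun a _ ψ _ _ _ => Subgroup.mem_top _
  have hwC : y * (ζ : Ω) ∈ centralizerIn S X := by
    refine ⟨S.mul_mem hy.1 (hXS ζ.2), fun x hx => ?_⟩
    have h1 : Commute x y := hyX.2 x hx
    have h2 : Commute x (ζ : Ω) := by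
      have h3 : t.emb ⟨x, hx⟩ * t.emb ζ = t.emb ζ * t.emb ⟨x, hx⟩ := by
        rw [hζe]; exact Subgroup.mem_center_iff.1 ζ₁.2 _
      rw [← map_mul, ← map_mul] at h3
      exact congrArg Subtype.val (hemb h3)
    exact (h1.mul_right h2).eq
  have hwimg : (⟨χ ⟨y * (ζ : Ω), Target.mem_normalizerIn_of_centralizer le_rfl hwC⟩,
      Subgroup.mem_sup_right (t.map_centralizer hwC)⟩ : R) = y₁ * (ζ₁ : R) := by
    rw [← hζe]
    exact Subtype.ext ((congrArg χ (Subtype.ext rfl : (⟨y * (ζ : Ω), _⟩ : normalizerIn S X) =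
      ⟨y, hyN⟩ * Subgroup.inclusion t.le_normalizerIn ζ)).trans (map_mul χ _ _))
  refine ⟨ζ, ζ.2, fun s hs => ?_, fun a ha => ?_, fun H hH => ?_⟩
  · obtain ⟨b, hbπ, hbe⟩ := hσ s hs _ (fun x => H93.conjAut_apply T X ⟨s, hs⟩ x)
    have hbP : b ∈ Pt := by
      show πh b ∈ (autInducedBy T X).subgroupOf A
      rw [Subgroup.mem_subgroupOf, hbπ]
      exact mem_autInducedBy.2 ⟨s, hs.1, fun x => H93.conjAut_apply T X ⟨s, hs⟩ x⟩
    have h := congrArg Subtype.val (hfixw b (hσN s hs b hbe hbP).1)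
    rw [hbe, ← hwimg] at h
    set sN : normalizerIn S X := ⟨s, hT.1 hs.1, hs.2⟩
    set wN : normalizerIn S X := ⟨y * (ζ : Ω), Target.mem_normalizerIn_of_centralizer le_rfl hwC⟩
    change χ sN * χ wN * (χ sN)⁻¹ = χ wN at h
    rw [← map_inv, ← map_mul, ← map_mul] at h
    have h' : s * (y * (ζ : Ω)) * s⁻¹ = y * ζ := congrArg Subtype.val (hχinj h)
    have hsy : Commute s y := hy.2 s hs.1
    have := (hsy.inv_right.mul_right (show Commute s (y * (ζ : Ω)) from mul_inv_eq_iff_eq_mul.1 h'))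
    rwa [inv_mul_cancel_left] at this
  · obtain ⟨n, hn, hne⟩ := hsur ⟨a, ha⟩
    obtain ⟨ψ, hψ, hψX, d, hψw, hd⟩ := hpull n _ hwC
    rw [hwimg, hfixw n hn, inv_mul_cancel] at hd
    have hd1 : d = 1 := hemb (hd.trans (map_one t.emb).symm)
    refine ext_of_map hψ le_sup_left (Subgroup.mem_sup_right (Subgroup.mem_zpowers _)) ?_ fun x => ?_
    · rw [hψw, hd1, Subgroup.coe_one, mul_one]
    · refine (hψX x).trans ?_
      exact congrArg (fun a : A => (((a : MulAut X) x : X) : Ω)) hne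
  · obtain ⟨ζ', hζ'H, hζ'e⟩ := hVmem H hH
    have : ζ' = ζ := hemb (hζ'e.trans hζe.symm)
    exact this ▸ hζ'H

end Cfsg.Agent.H96
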